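import Groth.Agent.ArInt.Basic
import Groth.Agent.CurveReg.NefBC
import Groth.Agent.GeomField.GlobalFunctions
import Groth.Prelude.Def_ModelsG

/-!
# Divisibility by the degree of the field of constants
-/

set_option autoImplicit false
set_option linter.style.haveILetI false
set_option linter.unusedSectionVars false
set_option backward.isDefEq.respectTransparency false
set_option backward.isDefEq.respectTransparency.types false
set_option maxHeartbeats 1000000

universe u

open CategoryTheory CategoryTheory.Limits AlgebraicGeometry TopologicalSpace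

noncomputable section

namespace Groth.Agent.ArInt

open Groth.Agent

variable {R : Type u} [CommRing R] [IsDomain R] [IsDiscreteValuationRing R]
  {X : Over (Spec (CommRingCat.of R))} [IsSurf X] (Γ : ArSurf.VertComp R X)

theorem finrank_globalFunctions_dvd (k : Type u) [Field k] (C : Scheme.{u}) [C.Over (Spec (CommRingCat.of k))]
    (hκ : IsField Γ(C, ⊤)) (M : C.Modules) (i : ℕ) :
    (letI := GeomField.globalAlgebra k C; Module.finrank k Γ(C, ⊤)) ∣ Module.finrank k (Coh.HH C M i) := by
  letI : Field Γ(C, ⊤) := hκ.toField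
  letI : Algebra k Γ(C, ⊤) := GeomField.globalAlgebra k C
  letI : Module Γ(C, ⊤) (Coh.HH C M i) := inferInstanceAs (Module (Coh.Γtop C) (Coh.HH C M i))
  haveI : IsScalarTower k Γ(C, ⊤) (Coh.HH C M i) :=
    IsScalarTower.of_algebraMap_smul fun r x => rfl
  exact ⟨_, (Module.finrank_mul_finrank k Γ(C, ⊤) (Coh.HH C M i)).symm⟩

/-- The field of constants of a vertical curve. -/
theorem wdeg_pos_dvd : 0 < Models.wdeg R X Γ ∧ ∀ (M : Γ.curve.left.Modules) (i : ℕ),
    Models.wdeg R X Γ ∣ Module.finrank (IsLocalRing.ResidueField R) (Coh.HH Γ.curve.left M i) := by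
  let k := IsLocalRing.ResidueField R
  let C := Γ.curve.left
  haveI : IsIntegral C := Γ.isIntegral
  haveI := isProper_curve_over Γ
  haveI : IsNoetherian C := CurveCohLib.isNoetherian_of_proper (k := k)
  have hκ : IsField Γ(C, ⊤) := GeomField.isField_globalFunctions k C
  have hw : Models.wdeg R X Γ = (letI := GeomField.globalAlgebra k C; Module.finrank k Γ(C, ⊤)) :=
    GeomField.finrank_HH_zero k C
  refine ⟨?_, fun M i => hw ▸ finrank_globalFunctions_dvd k C hκ M i⟩
  haveI := CurveCohLib.finite_HH (k := k) (RefX.isCoh_unit (X := C)) 0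
  haveI : Nontrivial Γ(C, ⊤) := hκ.nontrivial
  letI := GeomField.globalAlgebra k C
  let e : Coh.HH C (Coh.structureModule C) 0 ≃ Γ(C, ⊤) :=
    (Sheaf.H.equiv₀ (Coh.toAb (Coh.structureModule C)) isTerminalTop).toEquiv
  haveI : Nontrivial (Coh.HH C (Coh.structureModule C) 0) := e.nontrivial
  exact Module.finrank_pos

/-- Intersection numbers with a curve are multiples of its degree of constants. -/
theorem wdeg_dvd_inter {N : X.left.Modules} (hN : PicF.IsInvertible N) :
    (Models.wdeg R X Γ : ℤ) ∣ ArSurf.inter R X N Γ := by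
  let k := IsLocalRing.ResidueField R
  let C := Γ.curve.left
  haveI := isProper_curve_over Γ
  haveI : IsNoetherian C := CurveCohLib.isNoetherian_of_proper (k := k)
  have hd : topologicalKrullDim C ≤ 1 := Γ.dim_eq.le
  have key : ∀ M : C.Modules, Coh.IsCoh M → (Models.wdeg R X Γ : ℤ) ∣ Curv2.euler k C M := fun M hM => by
    rw [CurveReg.euler_eq k hd hM]
    exact dvd_sub (by exact_mod_cast (wdeg_pos_dvd Γ).2 M 0) (by exact_mod_cast (wdeg_pos_dvd Γ).2 M 1)
  rw [inter_eq_deg Γ hN]
  simp only [Curv2.deg, Nat.cast_one, one_mul]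
  exact dvd_sub (key _ (CurveDeg.isCoh_of_isInvertible (PicClLib.isInvertible_pullback _ hN)))
    (key _ (RefX.isCoh_unit (X := C)))

end Groth.Agent.ArInt
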