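import Mathlib

/-!
# Semidefiniteness of matrices with nonnegative off-diagonal entries and a positive vector
-/

set_option autoImplicit false
set_option linter.unusedSectionVars false

namespace Groth.Agent.ArInt

variable {ι : Type*} [Fintype ι] [DecidableEq ι] (M : ι → ι → ℤ) (d : ι → ℕ)

/-- The quadratic identity. -/
theorem quad_identity (b : ι → ℚ) (hs : ∀ i j, M i j = M j i) :
    2 * ∑ i, ∑ j, (b i * d i) * (b j * d j) * (M i j : ℚ) =
      2 * ∑ i, (b i ^ 2 * d i) * ∑ j, (d j : ℚ) * (M i j : ℚ) -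
        ∑ i, ∑ j, (b i - b j) ^ 2 * ((d i : ℚ) * d j * (M i j : ℚ)) := by
  have h1 : ∑ i, ∑ j, b j ^ 2 * ((d i : ℚ) * d j * (M i j : ℚ)) =
      ∑ i, ∑ j, b i ^ 2 * ((d i : ℚ) * d j * (M i j : ℚ)) := by
    rw [Finset.sum_comm]
    refine Finset.sum_congr rfl fun i _ => Finset.sum_congr rfl fun j _ => ?_
    rw [hs j i]; ring
  have h2 : ∑ i, (b i ^ 2 * d i) * ∑ j, (d j : ℚ) * (M i j : ℚ) =
      ∑ i, ∑ j, b i ^ 2 * ((d i : ℚ) * d j * (M i j : ℚ)) := by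
    simp_rw [Finset.mul_sum]
    exact Finset.sum_congr rfl fun i _ => Finset.sum_congr rfl fun j _ => by ring
  have h3 : ∑ i, ∑ j, (b i - b j) ^ 2 * ((d i : ℚ) * d j * (M i j : ℚ)) =
      ∑ i, ∑ j, b i ^ 2 * ((d i : ℚ) * d j * (M i j : ℚ)) +
        ∑ i, ∑ j, b j ^ 2 * ((d i : ℚ) * d j * (M i j : ℚ)) -
        2 * ∑ i, ∑ j, (b i * d i) * (b j * d j) * (M i j : ℚ) := by
    simp_rw [Finset.mul_sum, ← Finset.sum_add_distrib, ← Finset.sum_sub_distrib]
    exact Finset.sum_congr rfl fun i _ => Finset.sum_congr rfl fun j _ => by ring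
  rw [h2, h3, h1]
  ring

variable {M d}

theorem quad_nonpos (hs : ∀ i j, M i j = M j i) (hoff : ∀ i j, i ≠ j → 0 ≤ M i j) (hd : ∀ i, 0 < d i)
    (hrow : ∀ i, ∑ j, (d j : ℤ) * M i j ≤ 0) (a : ι → ℤ) :
    ∑ i, ∑ j, a i * a j * M i j ≤ 0 ∧
      (∑ i, ∑ j, a i * a j * M i j = 0 →
        ∀ i j, M i j ≠ 0 → (a i : ℚ) / d i = (a j : ℚ) / d j) := by
  let b : ι → ℚ := fun i => (a i : ℚ) / d i
  have hdq : ∀ i, (0 : ℚ) < d i := fun i => by exact_mod_cast hd i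
  have hb : ∀ i, b i * d i = a i := fun i => div_mul_cancel₀ _ (hdq i).ne'
  have hQ : ((∑ i, ∑ j, a i * a j * M i j : ℤ) : ℚ) = ∑ i, ∑ j, (b i * d i) * (b j * d j) * (M i j : ℚ) := by
    push_cast
    simp_rw [hb]
  have hA : ∑ i, (b i ^ 2 * d i) * ∑ j, (d j : ℚ) * (M i j : ℚ) ≤ 0 :=
    Finset.sum_nonpos fun i _ => mul_nonpos_of_nonneg_of_nonpos (by have := hdq i; positivity)
      (by exact_mod_cast hrow i)
  have hterm : ∀ i j, 0 ≤ (b i - b j) ^ 2 * ((d i : ℚ) * d j * (M i j : ℚ)) := fun i j => by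
    by_cases h : i = j
    · simp [h]
    · have : (0 : ℚ) ≤ M i j := by exact_mod_cast hoff i j h
      positivity
  have hB : 0 ≤ ∑ i, ∑ j, (b i - b j) ^ 2 * ((d i : ℚ) * d j * (M i j : ℚ)) :=
    Finset.sum_nonneg fun i _ => Finset.sum_nonneg fun j _ => hterm i j
  have hid := quad_identity M d b hs
  refine ⟨?_, fun h0 i j hne => ?_⟩
  · have : ((∑ i, ∑ j, a i * a j * M i j : ℤ) : ℚ) ≤ 0 := by rw [hQ]; linarith
    exact_mod_cast this
  · rw [← hQ, h0] at hid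
    simp only [Int.cast_zero, mul_zero] at hid
    have hB0 : ∑ i, ∑ j, (b i - b j) ^ 2 * ((d i : ℚ) * d j * (M i j : ℚ)) = 0 := by linarith
    have h1 := (Finset.sum_eq_zero_iff_of_nonneg fun i _ => Finset.sum_nonneg fun j _ => hterm i j).1 hB0 i
      (Finset.mem_univ _)
    have h2 := (Finset.sum_eq_zero_iff_of_nonneg fun j _ => hterm i j).1 h1 j (Finset.mem_univ _)
    have h3 : (d i : ℚ) * d j * (M i j : ℚ) ≠ 0 := by
      have : (M i j : ℚ) ≠ 0 := by exact_mod_cast hne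
      have := hdq i; have := hdq j
      positivity
    rcases mul_eq_zero.1 h2 with h4 | h4
    · exact sub_eq_zero.1 (pow_eq_zero_iff (two_ne_zero) |>.1 h4)
    · exact absurd h4 h3

end Groth.Agent.ArInt
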