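import Groth.Agent.ArInt.Fibre
import Groth.Agent.ArInt.FormAlg

/-!
# The intersection form on the closed fibre
-/

set_option autoImplicit false
set_option linter.style.haveILetI false
set_option linter.unusedSectionVars false
set_option backward.isDefEq.respectTransparency false
set_option backward.isDefEq.respectTransparency.types false
set_option maxHeartbeats 1000000

universe u

open CategoryTheory CategoryTheory.Limits AlgebraicGeometry TopologicalSpace
open Groth.Agent.H23.PicMul

noncomputable section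

namespace Groth.Agent.ArInt

open Groth.Agent

variable {R : Type u} [CommRing R] [IsDomain R] [IsDiscreteValuationRing R]
  {X : Over (Spec (CommRingCat.of R))} [IsSurf X] [Flat X.hom] {n : ℕ} (Γ : Fin n → ArSurf.VertComp R X)
  (L : Fin n → X.left.Modules) (hL : ∀ j, ClSub.IsInverseOf (L j) (ClSub.idealMod (Γ j).ι.ker))
  (hinj : Function.Injective fun i => Set.range ((Γ i).ι.base))

/-- The degree only depends on the subscheme. -/
theorem inter_congr_curve (Γ Γ' : ArSurf.VertComp R X) (h : Set.range Γ.ι.base = Set.range Γ'.ι.base)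
    {M : X.left.Modules} (hM : PicF.IsInvertible M) :
    ArSurf.inter R X M Γ = ArSurf.inter R X M Γ' := by
  let k := IsLocalRing.ResidueField R
  have hk := ker_eq_of_range_eq Γ Γ' h
  let e : Γ.curve.left ⟶ Γ'.curve.left := IsClosedImmersion.lift Γ'.ι Γ.ι hk.symm.le
  let e' : Γ'.curve.left ⟶ Γ.curve.left := IsClosedImmersion.lift Γ.ι Γ'.ι hk.le
  have he : e ≫ Γ'.ι = Γ.ι := IsClosedImmersion.lift_fac _ _ _
  have he' : e' ≫ Γ.ι = Γ'.ι := IsClosedImmersion.lift_fac _ _ _
  haveI : IsIso e := ⟨e', by rw [← cancel_mono Γ.ι, Category.assoc, he', he, Category.id_comp],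
    by rw [← cancel_mono Γ'.ι, Category.assoc, he, he', Category.id_comp]⟩
  have hover : e ≫ Γ'.curve.hom = Γ.curve.hom := by
    haveI : IsClosedImmersion (Spec.map (CommRingCat.ofHom (IsLocalRing.residue R))) :=
      IsClosedImmersion.spec_of_surjective _ IsLocalRing.residue_surjective
    rw [← cancel_mono (Spec.map (CommRingCat.ofHom (IsLocalRing.residue R))), Category.assoc, ← Γ'.w,
      ← Γ.w, reassoc_of% he]
  let M' := (Scheme.Modules.pullback Γ'.ι).obj M
  let O' := Coh.structureModule Γ'.curve.left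
  have hMe : PicF.cl ((Scheme.Modules.pullback Γ.ι).obj M) = PicF.cl ((Scheme.Modules.pullback e).obj M') := by
    show PicF.pullCl Γ.ι (PicF.cl M) = PicF.pullCl e (PicF.pullCl Γ'.ι (PicF.cl M))
    rw [PicClLib.pullCl_comp, he]
  obtain ⟨i⟩ := cl_eq_iff.1 hMe
  have hM' : PicF.IsInvertible M' := PicClLib.isInvertible_pullback _ hM
  haveI : IsNoetherian Γ'.curve.left := CurveCohLib.isNoetherian_of_proper (k := k)
  have hpull : ∀ N : Γ'.curve.left.Modules, Coh.IsQCoh N →
      Curv2.euler k Γ.curve.left ((Scheme.Modules.pullback e).obj N) = Curv2.euler k Γ'.curve.left N := by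
    intro N hN
    rw [← AmpleDev.euler_push k e hover (M := (Scheme.Modules.pullback e).obj N) (QCoh.isQCoh_pullback e hN)]
    haveI := CurveTensor.isIso_unit_of_isIso e N
    exact (Euler.euler_congr k (asIso ((Scheme.Modules.restrictAdjunction e).unit.app N) ≪≫
      (Scheme.Modules.pushforward e).mapIso ((Scheme.Modules.restrictFunctorIsoPullback e).app N))).symm
  obtain ⟨i0⟩ : Nonempty ((Scheme.Modules.pullback e).obj O' ≅ Coh.structureModule Γ.curve.left) :=
    cl_eq_iff.1 (by
      show PicF.pullCl e (PicF.cl O') = _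
      rw [← H23.PicMul.one_def, H23.PicMul.pullCl_one, H23.PicMul.one_def])
  rw [inter_eq_deg Γ hM, inter_eq_deg Γ' hM, CurveRR.deg_congr _ i 1]
  simp only [Curv2.deg]
  rw [hpull M' (ProjUPX.isQCoh_of_isInvertible hM'), ← Euler.euler_congr k i0,
    hpull O' QCoh.isQCoh_structureModule]

include hL hinj in
theorem inter_symm {i j : Fin n} (h : i ≠ j) :
    ArSurf.inter R X (L j) (Γ i) = ArSurf.inter R X (L i) (Γ j) := by
  rw [(inter_eq_length (Γ i) (isEffCartier_ker _) (gen_notMem _ _ fun h' => h (hinj h')) (hL j)).1,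
    (inter_eq_length (Γ j) (isEffCartier_ker _) (gen_notMem _ _ fun h' => h (hinj h'.symm)) (hL i)).1, sup_comm]

include hL hinj in
theorem inter_nonneg {i j : Fin n} (h : i ≠ j) :
    0 ≤ ArSurf.inter R X (L j) (Γ i) ∧
      (ArSurf.inter R X (L j) (Γ i) = 0 ↔ Disjoint (Set.range (Γ i).ι.base) (Set.range (Γ j).ι.base)) := by
  obtain ⟨h1, h2⟩ := inter_eq_length (Γ i) (isEffCartier_ker _) (gen_notMem _ _ fun h' => h (hinj h')) (hL j)
  rw [support_ker] at h2
  exact ⟨h1 ▸ Int.natCast_nonneg _, h2⟩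

include hL hinj in
theorem form_nonpos (a : Fin n → ℤ) :
    ∑ i, ∑ j, a i * a j * ArSurf.inter R X (L j) (Γ i) ≤ 0 ∧
      (∑ i, ∑ j, a i * a j * ArSurf.inter R X (L j) (Γ i) = 0 →
        ∀ i j, ArSurf.inter R X (L j) (Γ i) ≠ 0 →
          (a i : ℚ) / Models.mult R X (Γ i) = (a j : ℚ) / Models.mult R X (Γ j)) := by
  obtain ⟨d, G, -, hGs, hF⟩ := exists_split_curves Γ (fibreIdeal X) (isEffCartier_fibreIdeal X)
  refine quad_nonpos (M := fun i j => ArSurf.inter R X (L j) (Γ i)) (d := fun i => Models.mult R X (Γ i))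
    (fun i j => ?_) (fun i j h => (inter_nonneg Γ L hL hinj h).1)
    (fun i => by rw [(mult_eq Γ hGs hF hinj i).1]; exact (mult_eq Γ hGs hF hinj i).2)
    (fun i => (sum_mult_inter Γ hinj L hL i).1) a
  by_cases h : i = j
  · rw [h]
  · exact inter_symm Γ L hL hinj h

include hL hinj in
/-- Isotropic vectors are multiples of the multiplicities. -/
theorem exists_mult_of_form_eq_zero (hcov : Models.specialFibreSet R X ⊆ ⋃ j, Set.range (Γ j).ι.base)
    (hconn : _root_.IsConnected (Models.specialFibreSet R X)) (a : Fin n → ℤ)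
    (h0 : ∑ i, ∑ j, a i * a j * ArSurf.inter R X (L j) (Γ i) = 0) :
    ∃ c : ℚ, ∀ i, (a i : ℚ) = c * (Models.mult R X (Γ i) : ℚ) := by
  classical
  obtain ⟨d, G, -, hGs, hF⟩ := exists_split_curves Γ (fibreIdeal X) (isEffCartier_fibreIdeal X)
  have hd : ∀ i, (0 : ℚ) < Models.mult R X (Γ i) := fun i => by
    rw [(mult_eq Γ hGs hF hinj i).1]; exact_mod_cast (mult_eq Γ hGs hF hinj i).2
  obtain ⟨z, hz⟩ := hconn.nonempty
  obtain ⟨i₀, hi₀⟩ := Set.mem_iUnion.1 (hcov hz)
  let b : Fin n → ℚ := fun i => (a i : ℚ) / Models.mult R X (Γ i)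
  refine ⟨b i₀, fun i => ?_⟩
  suffices b i = b i₀ by rw [← this, div_mul_cancel₀ _ (hd i).ne']
  by_contra hne
  let A : Set X.left := ⋃ j ∈ {j | b j = b i₀}, Set.range (Γ j).ι.base
  let B : Set X.left := ⋃ j ∈ {j | b j ≠ b i₀}, Set.range (Γ j).ι.base
  have hcl : ∀ s : Set (Fin n), IsClosed (⋃ j ∈ s, Set.range (Γ j).ι.base) := fun s =>
    (Set.toFinite s).isClosed_biUnion fun j _ => (Γ j).ι.isClosedEmbedding.isClosed_range
  have hAB : Models.specialFibreSet R X ⊆ A ∪ B := fun y hy => by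
    obtain ⟨j, hj⟩ := Set.mem_iUnion.1 (hcov hy)
    by_cases hb : b j = b i₀
    · exact Or.inl (Set.mem_biUnion (show j ∈ {j | b j = b i₀} from hb) hj)
    · exact Or.inr (Set.mem_biUnion (show j ∈ {j | b j ≠ b i₀} from hb) hj)
  obtain ⟨y, -, hyA, hyB⟩ := (isPreconnected_closed_iff.1 hconn.isPreconnected) A B (hcl _) (hcl _) hAB
    ⟨z, hz, Set.mem_biUnion (show i₀ ∈ {j | b j = b i₀} from rfl) hi₀⟩
    ⟨_, mem_specialFibre (Γ i) (genericPoint _), Set.mem_biUnion (show i ∈ {j | b j ≠ b i₀} from hne) ⟨_, rfl⟩⟩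
  obtain ⟨p, hp, hyp⟩ := Set.mem_iUnion₂.1 hyA
  obtain ⟨q, hq, hyq⟩ := Set.mem_iUnion₂.1 hyB
  have hpq : p ≠ q := fun h' => hq (h' ▸ hp)
  have hnz : ArSurf.inter R X (L q) (Γ p) ≠ 0 := fun h0 =>
    Set.disjoint_left.1 ((inter_nonneg Γ L hL hinj hpq).2.1 h0) hyp hyq
  exact hq (((form_nonpos Γ L hL hinj a).2 h0 p q hnz).symm.trans hp)

include hL hinj in
/-- The kernel of the form when the listed curves cover a connected fibre. -/
theorem kernel_iff (hcov : Models.specialFibreSet R X ⊆ ⋃ j, Set.range (Γ j).ι.base)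
    (hconn : _root_.IsConnected (Models.specialFibreSet R X)) (a : Fin n → ℤ) :
    (∀ i, ∑ j, a j * ArSurf.inter R X (L j) (Γ i) = 0) ↔
      ∃ c : ℚ, ∀ i, (a i : ℚ) = c * (Models.mult R X (Γ i) : ℚ) := by
  classical
  obtain ⟨d, G, -, hGs, hF⟩ := exists_split_curves Γ (fibreIdeal X) (isEffCartier_fibreIdeal X)
  have hd : ∀ i, (0 : ℚ) < Models.mult R X (Γ i) := fun i => by
    rw [(mult_eq Γ hGs hF hinj i).1]; exact_mod_cast (mult_eq Γ hGs hF hinj i).2
  refine ⟨fun h => ?_, fun ⟨c, hc⟩ i => ?_⟩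
  · have hQ : ∑ i, ∑ j, a i * a j * ArSurf.inter R X (L j) (Γ i) = 0 :=
      Finset.sum_eq_zero fun i _ => by
        rw [show ∑ j, a i * a j * ArSurf.inter R X (L j) (Γ i) = a i * ∑ j, a j * ArSurf.inter R X (L j) (Γ i) by
          rw [Finset.mul_sum]; exact Finset.sum_congr rfl fun j _ => by ring, h i, mul_zero]
    exact exists_mult_of_form_eq_zero Γ L hL hinj hcov hconn a hQ
  · have h0 := (sum_mult_inter Γ hinj L hL i).2 hcov
    have : ((∑ j, a j * ArSurf.inter R X (L j) (Γ i) : ℤ) : ℚ) = 0 := by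
      have h0' : ((∑ j, (Models.mult R X (Γ j) : ℤ) * ArSurf.inter R X (L j) (Γ i) : ℤ) : ℚ) = 0 := by
        rw [h0]; rfl
      push_cast at h0' ⊢
      simp_rw [hc, mul_assoc, ← Finset.mul_sum, h0', mul_zero]
    exact_mod_cast this

omit hinj in
include hL in
/-- Negativity for an arbitrary finite family. -/
theorem form_nonpos' (a : Fin n → ℤ) :
    ∑ i, ∑ j, a i * a j * ArSurf.inter R X (L j) (Γ i) ≤ 0 := by
  classical
  let T : Finset (Set X.left) := Finset.univ.image fun i => Set.range (Γ i).ι.base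
  let m := T.card
  let e : Fin m ≃ {x // x ∈ T} := (Finset.equivFin T).symm
  have hmem : ∀ p : Fin m, ∃ i, Set.range (Γ i).ι.base = (e p : Set X.left) := fun p => by
    obtain ⟨i, -, hi⟩ := Finset.mem_image.1 (e p).2
    exact ⟨i, hi⟩
  choose g hg using hmem
  let rep : Fin n → Fin m := fun i => e.symm ⟨_, Finset.mem_image_of_mem _ (Finset.mem_univ i)⟩
  have hrep : ∀ i, Set.range (Γ (g (rep i))).ι.base = Set.range (Γ i).ι.base := fun i => by
    rw [hg]; simp [rep]
  have hinj' : Function.Injective fun p => Set.range ((Γ (g p)).ι.base) := fun p q h => by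
    simp only [hg] at h
    exact e.injective (Subtype.ext h)
  have hM : ∀ i j, ArSurf.inter R X (L j) (Γ i) = ArSurf.inter R X (L (g (rep j))) (Γ (g (rep i))) := by
    intro i j
    have hj := isInvertible_of_inverse (Big.isInvertible_ideal (isEffCartier_ker (Γ j))) (hL j)
    have hj' := isInvertible_of_inverse (Big.isInvertible_ideal (isEffCartier_ker (Γ (g (rep j))))) (hL (g (rep j)))
    rw [inter_congr_curve (Γ i) (Γ (g (rep i))) (hrep i).symm hj,
      inter_inverse _ (Big.isInvertible_ideal (isEffCartier_ker (Γ j))) (hL j),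
      inter_inverse _ (Big.isInvertible_ideal (isEffCartier_ker (Γ (g (rep j))))) (hL (g (rep j))),
      ker_eq_of_range_eq (Γ (g (rep j))) (Γ j) (hrep j)]
  let A : Fin m → ℤ := fun p => ∑ i ∈ Finset.univ.filter (fun i => rep i = p), a i
  have key := (form_nonpos (fun p => Γ (g p)) (fun p => L (g p)) (fun p => hL (g p)) hinj' A).1
  refine le_of_eq_of_le ?_ key
  calc ∑ i, ∑ j, a i * a j * ArSurf.inter R X (L j) (Γ i)
      = ∑ i, a i * ∑ j, a j * ArSurf.inter R X (L (g (rep j))) (Γ (g (rep i))) := by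
        refine Finset.sum_congr rfl fun i _ => ?_
        rw [Finset.mul_sum]
        exact Finset.sum_congr rfl fun j _ => by rw [hM]; ring
    _ = ∑ p, ∑ i ∈ Finset.univ.filter (fun i => rep i = p),
          a i * ∑ j, a j * ArSurf.inter R X (L (g (rep j))) (Γ (g p)) := by
        rw [← Finset.sum_fiberwise Finset.univ rep]
        exact Finset.sum_congr rfl fun p _ => Finset.sum_congr rfl fun i hi => by
          rw [(Finset.mem_filter.1 hi).2]
    _ = ∑ p, A p * ∑ q, A q * ArSurf.inter R X (L (g q)) (Γ (g p)) := by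
        refine Finset.sum_congr rfl fun p _ => ?_
        rw [← Finset.sum_mul]
        congr 1
        rw [← Finset.sum_fiberwise Finset.univ rep]
        exact Finset.sum_congr rfl fun q _ => by
          rw [Finset.sum_mul]
          exact Finset.sum_congr rfl fun j hj => by rw [(Finset.mem_filter.1 hj).2]
    _ = _ := by
        refine Finset.sum_congr rfl fun p _ => ?_
        rw [Finset.mul_sum]
        exact Finset.sum_congr rfl fun q _ => by ring

end Groth.Agent.ArInt
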