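import Groth.Agent.ArInt.Form
import Groth.Prelude.Def_Curve

/-!
# Models of curves over a DVR as regular surfaces
-/

set_option autoImplicit false
set_option linter.style.haveILetI false
set_option linter.unusedSectionVars false
set_option backward.isDefEq.respectTransparency false
set_option backward.isDefEq.respectTransparency.types false
set_option maxHeartbeats 1000000

universe u

open CategoryTheory CategoryTheory.Limits AlgebraicGeometry TopologicalSpace

noncomputable section

namespace Groth.Agent.ArInt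

open Groth.Agent

variable {R : Type u} [CommRing R] [IsDomain R] [IsDiscreteValuationRing R]

section Fibre

variable (X : Over (Spec (CommRingCat.of R)))

/-- The components listed cover the closed fibre. -/
theorem cover {n : ℕ} (Γ : Fin n → ArSurf.VertComp R X) (hΓ : Models.IsComponentList R X Γ) :
    Models.specialFibreSet R X ⊆ ⋃ j, Set.range (Γ j).ι.base := fun z hz => by
  let F := Models.specialFibreSet R X
  let z' : F := ⟨z, hz⟩
  have hC : (Subtype.val '' irreducibleComponent z') ∈ Models.fibreComponents R X := by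
    refine ⟨⟨isIrreducible_irreducibleComponent.image _ continuous_subtype_val.continuousOn,
      fun _ ⟨w, _, hw⟩ => hw ▸ w.2⟩, fun S ⟨hS, hSF⟩ hle => ?_⟩
    have hpre : IsIrreducible (Subtype.val ⁻¹' S : Set F) := by
      refine ⟨⟨z', hle ⟨z', mem_irreducibleComponent, rfl⟩⟩, fun u v hu hv ⟨a, ha, hau⟩ ⟨b, hb, hbv⟩ => ?_⟩
      obtain ⟨u', hu', rfl⟩ := isOpen_induced_iff.1 hu
      obtain ⟨v', hv', rfl⟩ := isOpen_induced_iff.1 hv
      obtain ⟨c, hc, hcu, hcv⟩ := hS.2 u' v' hu' hv' ⟨a.1, ha, hau⟩ ⟨b.1, hb, hbv⟩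
      exact ⟨⟨c, hSF hc⟩, hc, hcu, hcv⟩
    have hsub : irreducibleComponent z' ⊆ Subtype.val ⁻¹' S := fun w hw => hle ⟨w, hw, rfl⟩
    have heq := (irreducibleComponent_mem_irreducibleComponents z').2 hpre hsub
    exact fun w hw => ⟨⟨w, hSF hw⟩, heq (show (⟨w, hSF hw⟩ : F) ∈ Subtype.val ⁻¹' S from hw), rfl⟩
  rw [← hΓ.2] at hC
  obtain ⟨j, hj⟩ := hC
  exact Set.mem_iUnion.2 ⟨j, hj.ge ⟨z', mem_irreducibleComponent, rfl⟩⟩

variable {X}

/-- Nothing in the closed fibre is more generic than the generic point of a component. -/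
theorem gen_maximal {n : ℕ} (Γ : Fin n → ArSurf.VertComp R X) (hΓ : Models.IsComponentList R X Γ)
    (i : Fin n) {y : X.left} (hy : y ∈ Models.specialFibreSet R X)
    (hs : y ⤳ Models.genPtOf R X (Γ i)) : y = Models.genPtOf R X (Γ i) := by
  have hrange : closure ({Models.genPtOf R X (Γ i)} : Set X.left) = Set.range (Γ i).ι.base := by
    haveI := (Γ i).isClosedImmersion
    haveI := (Γ i).isIntegral
    show closure ({(Γ i).ι (genericPoint (Γ i).curve.left)} : Set X.left) = Set.range (Γ i).ι
    rw [← Set.image_singleton, (Γ i).ι.isClosedEmbedding.closure_image_eq, genericPoint_closure, Set.image_univ]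
  have hmax : Maximal (fun S : Set X.left => IsIrreducible S ∧ S ⊆ Models.specialFibreSet R X)
      (Set.range (Γ i).ι.base) := by
    have h : Set.range (Γ i).ι.base ∈ Models.fibreComponents R X := hΓ.2 ▸ ⟨i, rfl⟩
    exact h
  have hle : closure ({y} : Set X.left) ⊆ Set.range (Γ i).ι.base :=
    hmax.2 ⟨isIrreducible_singleton.closure,
      closure_minimal (Set.singleton_subset_iff.2 hy) (Models.isClosed_specialFibreSet R X)⟩
      (hrange.symm.subset.trans (closure_minimal (Set.singleton_subset_iff.2
        (specializes_iff_mem_closure.1 hs)) isClosed_closure))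
  rw [← hrange] at hle
  exact (hs.antisymm (specializes_iff_mem_closure.2 (hle (subset_closure rfl)))).eq

/-- A point of the closed fibre without proper generisation in it has height at most one. -/
theorem coheight_le_one [IsLocallyNoetherian X.left] {ξ : X.left} (hξ : ξ ∈ Models.specialFibreSet R X)
    (hmax : ∀ y ∈ Models.specialFibreSet R X, y ⤳ ξ → y = ξ) : Order.coheight ξ ≤ 1 := by
  obtain ⟨π, hπ⟩ := IsDiscreteValuationRing.exists_irreducible R
  let O := X.left.presheaf.stalk ξ
  let φ : CommRingCat.of R ⟶ O := Spec.preimage (X.left.fromSpecStalk ξ ≫ X.hom)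
  have hφ : ∀ P : Spec O, X.hom (X.left.fromSpecStalk ξ P) = Spec.map φ P := fun P => by
    rw [Spec.map_preimage]; rfl
  let a : O := φ.hom π
  have hmem : ∀ P : PrimeSpectrum O, a ∈ P.asIdeal ↔
      X.left.fromSpecStalk ξ P ∈ Models.specialFibreSet R X := fun P => by
    show π ∈ (PrimeSpectrum.comap φ.hom P).asIdeal ↔ X.hom (X.left.fromSpecStalk ξ P) = IsLocalRing.closedPoint R
    rw [hφ P]
    refine ⟨fun h => PrimeSpectrum.ext ?_, fun h => ?_⟩
    · refine ((IsLocalRing.maximalIdeal.isMaximal R).eq_of_le (PrimeSpectrum.isPrime _).ne_top ?_).symm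
      rw [hπ.maximalIdeal_eq, Ideal.span_singleton_le_iff_mem]
      exact h
    · show π ∈ PrimeSpectrum.asIdeal (show PrimeSpectrum R from Spec.map φ P)
      rw [h]
      exact (show π ∈ IsLocalRing.maximalIdeal R from hπ.maximalIdeal_eq.symm ▸ Ideal.mem_span_singleton_self π)
  have hcp : X.left.fromSpecStalk ξ (IsLocalRing.closedPoint O) = ξ := Scheme.fromSpecStalk_closedPoint
  have hm : IsLocalRing.maximalIdeal O ∈ (Ideal.span {a}).minimalPrimes := by
    refine ⟨⟨inferInstance, ?_⟩, fun P ⟨hP, haP⟩ _ => ?_⟩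
    · rw [Ideal.span_singleton_le_iff_mem]
      exact (hmem (IsLocalRing.closedPoint O)).2 (hcp.symm ▸ hξ)
    · rw [Ideal.span_singleton_le_iff_mem] at haP
      let P' : PrimeSpectrum O := ⟨P, hP⟩
      have hy := hmax _ ((hmem P').1 haP) (by
        have : X.left.fromSpecStalk ξ P' ∈ Set.range (X.left.fromSpecStalk ξ) := ⟨_, rfl⟩
        rw [Scheme.range_fromSpecStalk] at this
        exact this)
      have : P' = IsLocalRing.closedPoint O :=
        (X.left.fromSpecStalk ξ).isEmbedding.injective (hy.trans hcp.symm)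
      exact (congrArg PrimeSpectrum.asIdeal this).ge
  have h1 : (IsLocalRing.maximalIdeal O).height ≤ 1 :=
    Ideal.height_le_one_of_isPrincipal_of_mem_minimalPrimes _ _ hm
  have h2 : ringKrullDim O ≤ 1 := by
    rw [← IsLocalRing.maximalIdeal_height_eq_ringKrullDim]
    exact_mod_cast h1
  rw [ringKrullDim_stalk_eq_coheight] at h2
  exact_mod_cast h2

/-- A chain of three points cannot lie in a curve. -/
theorem false_of_chain {Y : Scheme.{u}} (hY : topologicalKrullDim Y ≤ 1) {Z : Scheme.{u}} (f : Y ⟶ Z)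
    (hf : Topology.IsInducing f) {a b c : Z} (hab : a < b) (hbc : b < c)
    (ha : a ∈ Set.range f) (hb : b ∈ Set.range f) (hc : c ∈ Set.range f) : False := by
  obtain ⟨a, rfl⟩ := ha
  obtain ⟨b, rfl⟩ := hb
  obtain ⟨c, rfl⟩ := hc
  have hiff : ∀ x y : Y, f x ≤ f y ↔ x ≤ y := fun x y => hf.specializes_iff
  have h1 : a < b := lt_of_le_not_ge ((hiff _ _).1 hab.le) fun h => hab.not_ge ((hiff _ _).2 h)
  have h2 : b < c := lt_of_le_not_ge ((hiff _ _).1 hbc.le) fun h => hbc.not_ge ((hiff _ _).2 h)
  have hk : Order.krullDim Y ≤ 1 :=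
    ((Order.krullDim_eq_of_orderIso (irreducibleSetEquivPoints (α := Y))).symm.trans_le hY)
  have := (Order.LTSeries.length_le_krullDim
    (RelSeries.cons ((RelSeries.singleton _ c).cons b h2) a h1)).trans hk
  simp at this

end Fibre

section Model

variable {C X : Scheme.{u}} {f : C ⟶ Spec (CommRingCat.of (FractionRing R))}
  {p : X ⟶ Spec (CommRingCat.of R)}

theorem model_facts' [IsIntegral C] (hX : Models.IsModel R X p C f) :
    IsIntegral X ∧ ∃ g : C ⟶ X, IsDominant g ∧ Topology.IsInducing g ∧
      ∀ z, z ∈ Set.range g ↔ p z ≠ IsLocalRing.closedPoint R := by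
  obtain ⟨hflat, hlft, hqc, g, hg⟩ := hX
  haveI := hflat
  let jK := Spec.map (CommRingCat.ofHom (algebraMap R (FractionRing R)))
  haveI : IsDominant jK := ⟨(PrimeSpectrum.denseRange_comap_iff_ker_le_nilRadical _).2 (by
    show RingHom.ker (algebraMap R (FractionRing R)) ≤ _
    rw [(RingHom.injective_iff_ker_eq_bot _).1 (IsFractionRing.injective R (FractionRing R))]
    exact bot_le)⟩
  haveI : IsSchemeTheoreticallyDominant jK := IsSchemeTheoreticallyDominant.of_isDominant jK
  haveI : IsSchemeTheoreticallyDominant g := IsSchemeTheoreticallyDominant.of_isPullback hg.flip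
  haveI : QuasiCompact g := MorphismProperty.of_isPullback hg.flip inferInstance
  haveI : IsDominant g := inferInstance
  haveI : IsReduced X := IsSchemeTheoreticallyDominant.isReduced g
  haveI : IrreducibleSpace X := (irreducibleSpace_def _).2 (by
    have h := ((IrreducibleSpace.isIrreducible_univ C).image _ g.continuous.continuousOn).closure
    rwa [Set.image_univ, g.denseRange.closure_range] at h)
  haveI : IsPreimmersion jK := IsPreimmersion.of_isLocalization (nonZeroDivisors R)
  haveI : IsPreimmersion g := MorphismProperty.of_isPullback hg.flip inferInstance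
  refine ⟨isIntegral_of_irreducibleSpace_of_isReduced X, g, inferInstance, g.isEmbedding.isInducing, fun z => ?_⟩
  have hrange : Set.range g = p ⁻¹' Set.range jK := by
    rw [← hg.isoPullback_hom_fst, Scheme.Hom.comp_base, TopCat.coe_comp, Set.range_comp,
      Set.range_eq_univ.2 hg.isoPullback.hom.surjective, Set.image_univ, Scheme.Pullback.range_fst]
  have hj : ∀ t : Spec (CommRingCat.of R), t ∈ Set.range jK ↔ t ≠ IsLocalRing.closedPoint R := fun t => by
    have hbot : ∀ s : Spec (CommRingCat.of (FractionRing R)),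
        (jK s : PrimeSpectrum R).asIdeal = ⊥ := fun s => by
      show Ideal.comap (algebraMap R (FractionRing R)) (PrimeSpectrum.asIdeal s) = ⊥
      rw [(Ideal.eq_bot_or_top (PrimeSpectrum.asIdeal s)).resolve_right (PrimeSpectrum.isPrime _).ne_top,
        ← RingHom.ker_eq_comap_bot, (RingHom.injective_iff_ker_eq_bot _).1
          (IsFractionRing.injective R (FractionRing R))]
    refine ⟨fun ⟨s, hs⟩ h => IsDiscreteValuationRing.not_a_field R ?_, fun h => ?_⟩
    · have h0 := hbot s
      rw [hs, h] at h0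
      exact h0
    · have hb : PrimeSpectrum.asIdeal (t : PrimeSpectrum R) = ⊥ := by
        by_contra hne
        exact h (PrimeSpectrum.ext (IsLocalRing.eq_maximalIdeal
          ((PrimeSpectrum.isPrime t).isMaximal hne)))
      exact ⟨⟨⊥, Ideal.isPrime_bot⟩, PrimeSpectrum.ext ((hbot _).trans hb.symm)⟩
  rw [hrange, Set.mem_preimage, hj]

theorem model_facts (hC : Curve.IsSmoothProperCurve (FractionRing R) C f) (hX : Models.IsModel R X p C f) :
    IsIntegral X ∧ ∃ g : C ⟶ X, IsDominant g ∧ Topology.IsInducing g ∧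
      ∀ z, z ∈ Set.range g ↔ p z ≠ IsLocalRing.closedPoint R :=
  haveI : IsIntegral C := hC.2.2.1
  model_facts' hX

theorem isRegModel (hC : Curve.IsSmoothProperCurve (FractionRing R) C f) (hX : Models.IsModel R X p C f)
    (hreg : Models.IsRegularScheme X) : IsRegModel (Over.mk p) :=
  ⟨(model_facts hC hX).1, hX.2.1, hX.2.2.1, hreg⟩

variable [IsIntegral X]

theorem gen_lt_generic (g : C ⟶ X) [IsDominant g] [IsIntegral C]
    (hg : ∀ z, z ∈ Set.range g ↔ p z ≠ IsLocalRing.closedPoint R) {z : X}
    (hz : p z = IsLocalRing.closedPoint R) : z < genericPoint X := by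
  have hne : z ≠ genericPoint X := fun h => by
    have : genericPoint X ∈ Set.range g := ⟨genericPoint C, by
      have h1 := (genericPoint_spec C).image g.continuous
      rw [Set.image_univ, g.denseRange.closure_range] at h1
      exact h1.eq (genericPoint_spec X)⟩
    exact (hg _).1 (h ▸ this) hz
  have hle : z ≤ genericPoint X := (genericPoint_spec X).specializes (Set.mem_univ z)
  exact lt_of_le_not_ge hle fun h => hne (Specializes.antisymm h hle).eq

theorem dim_gen_model (hC : Curve.IsSmoothProperCurve (FractionRing R) C f) (hX : Models.IsModel R X p C f)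
    (hreg : Models.IsRegularScheme X) {n : ℕ} (Γ : Fin n → ArSurf.VertComp R (Over.mk p))
    (hΓ : Models.IsComponentList R (Over.mk p) Γ) (i : Fin n) :
    ringKrullDim (X.presheaf.stalk (Models.genPtOf R (Over.mk p) (Γ i))) = 1 := by
  obtain ⟨-, g, hgd, -, hg⟩ := model_facts hC hX
  haveI : IsIntegral C := hC.2.2.1
  haveI := isRegModel hC hX hreg
  haveI : Flat (Over.mk p).hom := hX.1
  have hF : Models.genPtOf R (Over.mk p) (Γ i) ∈ Models.specialFibreSet R (Over.mk p) := mem_specialFibre (Γ i) _
  have h1 : Order.coheight (α := X) (Models.genPtOf R (Over.mk p) (Γ i)) ≤ 1 :=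
    coheight_le_one hF fun y hy hs => gen_maximal Γ hΓ i hy hs
  have h2 : (1 : ℕ∞) ≤ Order.coheight (α := X) (Models.genPtOf R (Over.mk p) (Γ i)) :=
    le_of_add_le_right (a := Order.coheight (genericPoint X))
      (Order.coheight_add_one_le (gen_lt_generic g hg hF))
  rw [ringKrullDim_stalk_eq_coheight, le_antisymm h1 h2]
  rfl

omit [IsIntegral X] in
theorem specialFibreIdeal_eq : Models.specialFibreIdeal R (Over.mk p) = fibreIdeal (Over.mk p) := by
  refine congrArg (fun I => Scheme.IdealSheafData.comap I p) (Scheme.IdealSheafData.ext_of_isAffine ?_)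
  rw [closedPtIdeal_ideal]
  simp [Curv2.idealSheaf]

theorem isSurf (hC : Curve.IsSmoothProperCurve (FractionRing R) C f)
    (hX : Models.IsRegularProperModel R X p C f) {n : ℕ} (Γ : Fin n → ArSurf.VertComp R (Over.mk p))
    (hΓ : Models.IsComponentList R (Over.mk p) Γ) : IsSurf (Over.mk p) := by
  obtain ⟨-, g, hgd, hgi, hg⟩ := model_facts hC hX.1
  haveI : IsIntegral C := hC.2.2.1
  haveI := hX.2.1
  haveI := isRegModel hC hX.1 hX.2.2
  haveI : Flat (Over.mk p).hom := hX.1.1
  refine ⟨inferInstanceAs (IsIntegral X), inferInstanceAs (IsProper p), hX.2.2, ?_⟩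
  show topologicalKrullDim X = 2
  rw [show topologicalKrullDim X = Order.krullDim X from Order.krullDim_eq_of_orderIso (irreducibleSetEquivPoints (α := X))]
  let F := Models.specialFibreSet R (Over.mk p)
  have hdown : ∀ {a b : X}, a ≤ b → b ∈ F → a ∈ F := fun {a b} hab hb =>
    Specializes.mem_closed hab (Models.isClosed_specialFibreSet R (Over.mk p)) hb
  have hcurve : ∀ {a b : X}, a < b → b ∈ F → ∃ j, a ∈ Set.range (Γ j).ι.base ∧ b ∈ Set.range (Γ j).ι.base :=
    fun {a b} hab hb => by
      obtain ⟨j, hj⟩ := Set.mem_iUnion.1 (cover _ Γ hΓ hb)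
      exact ⟨j, Specializes.mem_closed hab.le (Γ j).ι.isClosedEmbedding.isClosed_range hj, hj⟩
  have hgen : ∀ {a b : X}, a < b → b ∈ F → ∃ j, b = Models.genPtOf R (Over.mk p) (Γ j) := fun {a b} hab hb => by
    obtain ⟨j, ha, hb'⟩ := hcurve hab hb
    refine ⟨j, ?_⟩
    obtain ⟨c, rfl⟩ := hb'
    by_contra hne
    have hcl : IsClosed ({c} : Set (Γ j).curve.left) :=
      GmDiv.isClosed_singleton_of_dim (Γ j).dim_eq.le fun h =>
        hne (congrArg (Γ j).ι.base (h _ ((genericPoint_spec _).specializes (Set.mem_univ c))).symm)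
    have h1 : IsClosed ((Γ j).ι '' {c}) := (Γ j).ι.isClosedEmbedding.isClosedMap _ hcl
    rw [Set.image_singleton] at h1
    have ha' : a ∈ ({(Γ j).ι c} : Set X) := Specializes.mem_closed hab.le h1 (Set.mem_singleton _)
    exact hab.ne ha'
  refine le_antisymm (iSup_le fun s => ?_) ?_
  · by_contra hs
    push Not at hs
    have hlen : 3 ≤ s.length := by
      have : (2 : ℕ) < s.length := by exact_mod_cast hs
      omega
    let x : ℕ → X := fun i => s.toFun ⟨min i s.length, by omega⟩
    have h01 : x 0 < x 1 := s.strictMono (Fin.mk_lt_mk.2 (by omega))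
    have h12 : x 1 < x 2 := s.strictMono (Fin.mk_lt_mk.2 (by omega))
    have h23 : x 2 < x 3 := s.strictMono (Fin.mk_lt_mk.2 (by omega))
    by_cases h2F : x 2 ∈ F
    · obtain ⟨j, hj⟩ := Set.mem_iUnion.1 (cover _ Γ hΓ h2F)
      have hcl := (Γ j).ι.isClosedEmbedding.isClosed_range
      exact false_of_chain (Γ j).dim_eq.le (Γ j).ι (Γ j).ι.isClosedEmbedding.isInducing h01 h12
        (Specializes.mem_closed (h01.trans h12).le hcl hj) (Specializes.mem_closed h12.le hcl hj) hj
    · have hnF : ∀ {b : X}, x 2 ≤ b → b ∉ F := fun {b} hb h => h2F (hdown hb h)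
      by_cases h1F : x 1 ∈ F
      · obtain ⟨j, hj⟩ := hgen h01 h1F
        have hco : Order.coheight (x 1) ≤ 1 := by
          rw [hj]
          exact coheight_le_one (X := Over.mk p) (mem_specialFibre (Γ j) _) fun y hy hs => gen_maximal Γ hΓ j hy hs
        have h3 : (2 : ℕ∞) ≤ Order.coheight (x 1) :=
          Order.length_le_coheight (p := RelSeries.cons ((RelSeries.singleton _ (x 3)).cons (x 2) h23) (x 1) h12)
            (by simp)
        exact absurd (h3.trans hco) (by norm_num)
      · exact false_of_chain hC.2.2.2.le g hgi h12 h23 ((hg _).2 h1F) ((hg _).2 h2F)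
          ((hg _).2 (hnF h23.le))
  · obtain ⟨z, hz⟩ : F.Nonempty := by
      obtain ⟨z, hz, hz'⟩ : ∃ z, z ∈ closure ({g (genericPoint C)} : Set X) ∧ p z = IsLocalRing.closedPoint R := by
        have h1 := p.isClosedMap _ (isClosed_closure (s := ({g (genericPoint C)} : Set X)))
        have h2 : p (g (genericPoint C)) ⤳ IsLocalRing.closedPoint R :=
          IsLocalRing.specializes_closedPoint _
        obtain ⟨z, hz, hz'⟩ := h2.mem_closed h1 ⟨_, subset_closure rfl, rfl⟩
        exact ⟨z, hz, hz'⟩
      exact ⟨z, hz'⟩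
    obtain ⟨j, -⟩ := Set.mem_iUnion.1 (cover _ Γ hΓ hz)
    haveI := (Γ j).isIntegral
    obtain ⟨c, hc⟩ : ∃ c : (Γ j).curve.left, c ≠ genericPoint _ := by
      by_contra h
      push Not at h
      haveI : Subsingleton (Γ j).curve.left := ⟨fun a b => (h a).trans (h b).symm⟩
      have h0 : Order.krullDim (Γ j).curve.left ≤ 0 := Order.krullDim_nonpos_of_subsingleton
      rw [← Order.krullDim_eq_of_orderIso (irreducibleSetEquivPoints (α := (Γ j).curve.left))] at h0
      exact absurd ((Γ j).dim_eq.symm.trans_le h0) (by norm_num)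
    have hlt : ((Γ j).ι c : X) < Models.genPtOf R (Over.mk p) (Γ j) := by
      have hle : (genericPoint (Γ j).curve.left) ⤳ c := (genericPoint_spec _).specializes (Set.mem_univ c)
      refine lt_of_le_not_ge (hle.map (Γ j).ι.continuous) fun h => hc ?_
      exact ((Γ j).ι.isClosedEmbedding.isInducing.specializes_iff.1 h).antisymm hle |>.eq
    exact le_iSup_of_le (RelSeries.cons ((RelSeries.singleton _ (genericPoint X)).cons
      (Models.genPtOf R (Over.mk p) (Γ j)) (gen_lt_generic g hg (mem_specialFibre (Γ j) _)))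
      ((Γ j).ι c) hlt) (by simp)

end Model

end Groth.Agent.ArInt
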