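import Groth.Agent.AlgSpDec.BirationalNormalScheme
import Groth.Prelude.Def_ModelsG
import Mathlib.AlgebraicGeometry.Morphisms.QuasiFinite
import Mathlib.RingTheory.IntegralClosure.GoingDown

/-!
# Finite morphisms onto normal schemes
-/

set_option autoImplicit false
set_option linter.style.haveILetI false
set_option backward.isDefEq.respectTransparency false
set_option backward.isDefEq.respectTransparency.types false
set_option maxHeartbeats 1000000

universe u

open CategoryTheory CategoryTheory.Limits AlgebraicGeometry TopologicalSpace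

namespace Groth.Agent.ArInt

/-- Going down. -/
theorem generalizingMap_of_finite {X Y : Scheme.{u}} (f : X ⟶ Y) [IsFinite f] [IsDominant f] [IsIntegral X]
    [IsIntegral Y] (hY : Pi1.IsNormalScheme Y) : GeneralizingMap f := by
  intro x y hy
  obtain ⟨V, hV, hfx, -⟩ := exists_isAffineOpen_mem_and_subset (U := (⊤ : Y.Opens)) (x := f x) trivial
  haveI : Nonempty V := ⟨⟨f x, hfx⟩⟩
  have hU : IsAffineOpen (f ⁻¹ᵁ V) := hV.preimage f
  haveI : Nonempty ↥(f ⁻¹ᵁ V) := ⟨⟨x, hfx⟩⟩
  haveI := AlgSpDec.BiratNormal.isIntegrallyClosed_sections hY hV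
  haveI : IsSchemeTheoreticallyDominant f := IsSchemeTheoreticallyDominant.of_isDominant f
  letI : Algebra Γ(Y, V) Γ(X, f ⁻¹ᵁ V) := (f.app V).hom.toAlgebra
  haveI : Algebra.IsIntegral Γ(Y, V) Γ(X, f ⁻¹ᵁ V) := ⟨(IsFinite.finite_app f V hV).to_isIntegral⟩
  haveI : FaithfulSMul Γ(Y, V) Γ(X, f ⁻¹ᵁ V) :=
    (faithfulSMul_iff_algebraMap_injective _ _).2 (f.app_injective V)
  haveI : IsDomain Γ(X, f ⁻¹ᵁ V) := @IsIntegral.component_integral X _ _ ‹_›
  haveI : IsDomain Γ(Y, V) := inferInstance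
  have hgd : GeneralizingMap (PrimeSpectrum.comap (algebraMap Γ(Y, V) Γ(X, f ⁻¹ᵁ V))) :=
    Algebra.HasGoingDown.iff_generalizingMap_primeSpectrumComap.1 inferInstance
  obtain ⟨x', rfl⟩ := hU.range_fromSpec.ge hfx
  obtain ⟨y', rfl⟩ := hV.range_fromSpec.ge (hy.mem_open V.2 hfx)
  have hcomm : ∀ z, f (hU.fromSpec z) = hV.fromSpec (Spec.map (f.app V) z) := fun z => by
    rw [← Scheme.Hom.comp_apply, ← Scheme.Hom.comp_apply, f.app_eq_appLE,
      IsAffineOpen.SpecMap_appLE_fromSpec]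
  rw [hcomm] at hy
  obtain ⟨x'', h1, h2⟩ := @hgd x' y' (hV.fromSpec.isEmbedding.isInducing.specializes_iff.1 hy)
  exact ⟨hU.fromSpec x'', h1.map hU.fromSpec.continuous, by rw [hcomm]; exact congrArg _ h2⟩

/-- No proper specializations in the fibres of a finite morphism. -/
theorem eq_of_specializes {X Y : Scheme.{u}} (f : X ⟶ Y) [LocallyQuasiFinite f] {a b : X} (h : a ⤳ b)
    (he : f a = f b) : a = b := by
  have hd := f.isDiscrete_preimage_singleton (f b)
  have h' : (⟨a, he⟩ : f ⁻¹' {f b}) ⤳ ⟨b, rfl⟩ := (subtype_specializes_iff _ _).2 h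
  haveI := hd.to_subtype
  exact congrArg Subtype.val h'.eq

variable {R : Type u} [CommRing R] [IsDomain R] [IsDiscreteValuationRing R]
  (X : Over (Spec (CommRingCat.of R)))

theorem finite_fibreComponents [NoetherianSpace X.left] : (Models.fibreComponents R X).Finite := by
  let F := Models.specialFibreSet R X
  refine ((NoetherianSpace.finite_irreducibleComponents (α := F)).image (Subtype.val '' ·)).subset
    fun Z ⟨⟨hZ, hZF⟩, hmax⟩ => ?_
  have hpre : IsIrreducible (Subtype.val ⁻¹' Z : Set F) := by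
    obtain ⟨z, hz⟩ := hZ.nonempty
    refine ⟨⟨⟨z, hZF hz⟩, hz⟩, fun u v hu hv ⟨a, ha, hau⟩ ⟨b, hb, hbv⟩ => ?_⟩
    obtain ⟨u', hu', rfl⟩ := isOpen_induced_iff.1 hu
    obtain ⟨v', hv', rfl⟩ := isOpen_induced_iff.1 hv
    obtain ⟨c, hc, hcu, hcv⟩ := hZ.2 u' v' hu' hv' ⟨a.1, ha, hau⟩ ⟨b.1, hb, hbv⟩
    exact ⟨⟨c, hZF hc⟩, hc, hcu, hcv⟩
  refine ⟨Subtype.val ⁻¹' Z, ⟨hpre, fun S hS hle w hw => ?_⟩, ?_⟩
  · exact hmax ⟨hS.image _ continuous_subtype_val.continuousOn, fun _ ⟨v, _, hv⟩ => hv ▸ v.2⟩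
      (fun z hz => ⟨⟨z, hZF hz⟩, hle hz, rfl⟩) ⟨w, hw, rfl⟩
  · show Subtype.val '' (Subtype.val ⁻¹' Z : Set F) = Z
    rw [Set.image_preimage_eq_inter_range, Subtype.range_coe]
    exact Set.inter_eq_left.2 hZF

/-- A component of the closed fibre is closed, with a generic point which nothing in the fibre generises. -/
theorem exists_gen_component {Z : Set X.left} (hZ : Z ∈ Models.fibreComponents R X) :
    ∃ η, closure ({η} : Set X.left) = Z ∧ η ∈ Models.specialFibreSet R X ∧
      ∀ θ ∈ Models.specialFibreSet R X, θ ⤳ η → θ = η := by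
  obtain ⟨⟨hirr, hsub⟩, hmax⟩ := hZ
  have hcl : IsClosed Z := closure_subset_iff_isClosed.1 (hmax ⟨hirr.closure,
    closure_minimal hsub (Models.isClosed_specialFibreSet R X)⟩ subset_closure)
  obtain ⟨η, hη⟩ := quasiSober_iff _ |>.1 inferInstance hirr hcl
  refine ⟨η, hη, hsub hη.mem, fun θ hθ hs => ?_⟩
  have h1 : Z ⊆ closure ({θ} : Set X.left) := hη ▸ closure_minimal
    (Set.singleton_subset_iff.2 hs.mem_closure) isClosed_closure
  have h2 : θ ∈ Z := hmax ⟨isIrreducible_singleton.closure,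
    closure_minimal (Set.singleton_subset_iff.2 hθ) (Models.isClosed_specialFibreSet R X)⟩ h1 (subset_closure rfl)
  exact (hs.antisymm (specializes_iff_mem_closure.2 (hη.symm ▸ h2))).eq

/-- The closure of a point maximal in the closed fibre is a component. -/
theorem closure_mem_fibreComponents {θ : X.left} (hθ : θ ∈ Models.specialFibreSet R X)
    (hmax : ∀ t ∈ Models.specialFibreSet R X, t ⤳ θ → t = θ) :
    closure ({θ} : Set X.left) ∈ Models.fibreComponents R X := by
  refine ⟨⟨isIrreducible_singleton.closure, closure_minimal (Set.singleton_subset_iff.2 hθ)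
    (Models.isClosed_specialFibreSet R X)⟩, fun S ⟨hS, hSF⟩ hle => ?_⟩
  obtain ⟨t, ht⟩ := quasiSober_iff _ |>.1 inferInstance hS.closure isClosed_closure
  have htF : t ∈ Models.specialFibreSet R X :=
    closure_minimal hSF (Models.isClosed_specialFibreSet R X) ht.mem
  have hts : t ⤳ θ := ht.specializes (subset_closure (hle (subset_closure rfl)))
  rw [← hmax t htF hts]
  exact subset_closure.trans ht.symm.subset

end Groth.Agent.ArInt
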