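import Groth.Agent.ArInt.Fundamental
import Groth.Agent.ArInt.FiniteNormal
import Groth.Agent.H23.RedSub

/-!
# Components of the closed fibre, and functions on a primitive closed fibre
-/

set_option autoImplicit false
set_option linter.style.haveILetI false
set_option linter.unusedSectionVars false
set_option backward.isDefEq.respectTransparency false
set_option backward.isDefEq.respectTransparency.types false
set_option maxHeartbeats 1000000

universe u

open CategoryTheory CategoryTheory.Limits AlgebraicGeometry TopologicalSpace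

noncomputable section

namespace Groth.Agent.ArInt

open Groth.Agent

variable {R : Type u} [CommRing R] [IsDomain R] [IsDiscreteValuationRing R]
  {X : Over (Spec (CommRingCat.of R))} [IsSurf X] [Flat X.hom]

/-- A scheme without a chain of three points is at most a curve. -/
theorem dim_le_one_of_no_chain {C : Scheme.{u}} (h : ∀ a b c : C, a < b → b < c → False) :
    topologicalKrullDim C ≤ 1 := by
  rw [show topologicalKrullDim C = Order.krullDim C from Order.krullDim_eq_of_orderIso (irreducibleSetEquivPoints (α := C))]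
  refine iSup_le fun s => ?_
  by_contra hs
  push Not at hs
  have hlen : 2 ≤ s.length := by
    have : (1 : ℕ) < s.length := by exact_mod_cast hs
    omega
  exact h (s.toFun ⟨0, by omega⟩) (s.toFun ⟨1, by omega⟩) (s.toFun ⟨2, by omega⟩)
    (s.strictMono (Fin.mk_lt_mk.2 (by omega))) (s.strictMono (Fin.mk_lt_mk.2 (by omega)))

/-- A surface has no chain of four points. -/
theorem no_chain_four {a b c d : X.left} (hab : a < b) (hbc : b < c) (hcd : c < d) : False := by
  have hk : Order.krullDim X.left ≤ 2 :=
    ((Order.krullDim_eq_of_orderIso (irreducibleSetEquivPoints (α := X.left))).symm.trans_le IsSurf.dim_eq.le)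
  have := (Order.LTSeries.length_le_krullDim
    (RelSeries.cons (RelSeries.cons ((RelSeries.singleton _ d).cons c hcd) b hbc) a hab)).trans hk
  exact absurd this (by simp only [RelSeries.cons_length, RelSeries.singleton_length]; norm_num)

/-- A point maximal in a connected closed fibre is not closed. -/
theorem exists_lt_of_maximal (hconn : _root_.IsConnected (Models.specialFibreSet R X)) {η : X.left}
    (hη : η ∈ Models.specialFibreSet R X) (hmax : ∀ θ ∈ Models.specialFibreSet R X, θ ⤳ η → θ = η) :
    ∃ w : X.left, w < η := by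
  by_contra h
  push Not at h
  have hle : ∀ w : X.left, η ⤳ w → w = η := fun w hw => by
    by_contra hne
    exact h w (lt_of_le_not_ge hw fun h' => hne (Specializes.antisymm h' hw).eq)
  let F := Models.specialFibreSet R X
  have hcl : IsClosed ({η} : Set X.left) := by
    refine closure_subset_iff_isClosed.1 fun w hw => ?_
    exact hle w (specializes_iff_mem_closure.2 hw)
  -- the rest of the fibre is closed, hence empty
  let S := {Z ∈ Models.fibreComponents R X | η ∉ Z}
  have hSfin : S.Finite := (finite_fibreComponents X).subset fun Z hZ => hZ.1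
  have hSclosed : IsClosed (⋃ Z ∈ S, Z) := hSfin.isClosed_biUnion fun Z hZ => by
    obtain ⟨θ, hθ, -⟩ := exists_gen_component X hZ.1
    exact hθ ▸ isClosed_closure
  have hsub : F ⊆ {η} ∪ ⋃ Z ∈ S, Z := fun z hz => by
    let z' : F := ⟨z, hz⟩
    obtain ⟨t, ht, htz, htmax⟩ : ∃ t ∈ F, t ⤳ z ∧ ∀ θ ∈ F, θ ⤳ t → θ = t := by
      obtain ⟨g, hg⟩ := (isIrreducible_irreducibleComponent (x := z')).image _ continuous_subtype_val.continuousOn |>.closure
        |> fun hi => (quasiSober_iff _ |>.1 inferInstance hi isClosed_closure)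
      have hgF : g ∈ F := closure_minimal (by rintro _ ⟨w, -, rfl⟩; exact w.2)
        (Models.isClosed_specialFibreSet R X) hg.mem
      refine ⟨g, hgF, hg.specializes (subset_closure ⟨z', mem_irreducibleComponent, rfl⟩), fun θ hθ hs => ?_⟩
      have h1 : irreducibleComponent z' ⊆ closure ({(⟨θ, hθ⟩ : F)} : Set F) := fun w hw =>
        specializes_iff_mem_closure.1 ((subtype_specializes_iff _ _).2
          (hs.trans (hg.specializes (subset_closure ⟨w, hw, rfl⟩))))
      have h2 := (irreducibleComponent_mem_irreducibleComponents z').2 isIrreducible_singleton.closure h1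
      have h3 : (⟨θ, hθ⟩ : F) ∈ irreducibleComponent z' := h2 (subset_closure rfl)
      exact (hs.antisymm (hg.specializes (subset_closure ⟨_, h3, rfl⟩))).eq
    by_cases hte : t = η
    · exact Or.inl (hle z (hte ▸ htz))
    · refine Or.inr (Set.mem_biUnion (show closure {t} ∈ S from
        ⟨closure_mem_fibreComponents X ht htmax, fun hm => hte ?_⟩) htz.mem_closure)
      exact (hmax t ht (specializes_iff_mem_closure.2 hm))
  have hall : F ⊆ {η} := fun z hz => by
    by_contra hne
    obtain ⟨y, -, hy1, hy2⟩ := isPreconnected_closed_iff.1 hconn.isPreconnected {η} (⋃ Z ∈ S, Z) hcl hSclosed hsub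
      ⟨η, hη, rfl⟩ ⟨z, hz, (hsub hz).resolve_left hne⟩
    rw [Set.mem_singleton_iff] at hy1
    subst hy1
    obtain ⟨Z, hZ, hyZ⟩ := Set.mem_iUnion₂.1 hy2
    exact hZ.2 hyZ
  -- so every point generises `η`
  have hgen : ∀ y : X.left, y ⤳ η := fun y => by
    have h1 := X.hom.isClosedMap _ (isClosed_closure (s := ({y} : Set X.left)))
    obtain ⟨z, hz, hz'⟩ := (IsLocalRing.specializes_closedPoint (X.hom y)).mem_closed h1 ⟨_, subset_closure rfl, rfl⟩
    exact (hall (show z ∈ F from hz')) ▸ (specializes_iff_mem_closure.2 hz)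
  have hco : Order.coheight η ≤ 1 := coheight_le_one hη hmax
  have hk : Order.krullDim X.left ≤ (1 : ℕ) := iSup_le fun s => by
    by_contra hs
    push Not at hs
    have hlen : 2 ≤ s.length := by
      have : (1 : ℕ) < s.length := by exact_mod_cast hs
      omega
    let x : ℕ → X.left := fun i => s.toFun ⟨min i s.length, by omega⟩
    have h01 : x 0 < x 1 := s.strictMono (Fin.mk_lt_mk.2 (by omega))
    have h12 : x 1 < x 2 := s.strictMono (Fin.mk_lt_mk.2 (by omega))
    have hη1 : η < x 1 := lt_of_le_of_lt (show η ≤ x 0 from hgen _) h01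
    have h2 : (2 : ℕ∞) ≤ Order.coheight η :=
      Order.length_le_coheight (p := RelSeries.cons ((RelSeries.singleton _ (x 2)).cons (x 1) h12) η hη1)
        (by simp)
    exact absurd (h2.trans hco) (by norm_num)
  rw [← Order.krullDim_eq_of_orderIso (irreducibleSetEquivPoints (α := X.left))] at hk
  have := IsSurf.dim_eq.symm.trans_le hk
  norm_num at this

/-- A component of a connected closed fibre as a vertical curve. -/
theorem exists_vertComp (hconn : _root_.IsConnected (Models.specialFibreSet R X)) {Z : Set X.left}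
    (hZ : Z ∈ Models.fibreComponents R X) : ∃ Γ : ArSurf.VertComp R X, Set.range Γ.ι.base = Z := by
  obtain ⟨η, hη, hηF, hmax⟩ := exists_gen_component X hZ
  let jk := Spec.map (CommRingCat.ofHom (IsLocalRing.residue R))
  haveI : IsClosedImmersion jk := IsClosedImmersion.spec_of_surjective _ IsLocalRing.residue_surjective
  obtain ⟨z, hz⟩ : η ∈ Set.range (pullback.fst X.hom jk) := by
    rw [Scheme.Pullback.range_fst]
    exact ⟨IsLocalRing.closedPoint _, (IsLocalRing.comap_closedPoint (IsLocalRing.residue R)).trans hηF.symm⟩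
  let V : Closeds ↥(pullback X.hom jk) := ⟨closure {z}, isClosed_closure⟩
  let C := (Scheme.IdealSheafData.vanishingIdeal V).subscheme
  haveI : IsReduced C := H23.RedSub.isReduced_vanishingIdeal V
  let j : C ⟶ pullback X.hom jk := (Scheme.IdealSheafData.vanishingIdeal V).subschemeι
  have hjr : Set.range j = closure {z} := by
    rw [show Set.range j = _ from Scheme.IdealSheafData.range_subschemeι _,
      Scheme.IdealSheafData.coe_support_vanishingIdeal]
    rfl
  haveI : IrreducibleSpace C := (irreducibleSpace_def _).2 (by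
    obtain ⟨e, he⟩ : z ∈ Set.range j := hjr ▸ subset_closure rfl
    have hu : closure ({e} : Set C) = Set.univ := by
      rw [j.isEmbedding.isInducing.closure_eq_preimage_closure_image, Set.image_singleton, he, ← hjr,
        Set.preimage_range]
    show IsIrreducible (Set.univ : Set C)
    rw [← hu]
    exact isIrreducible_singleton.closure)
  haveI : IsIntegral C := isIntegral_of_irreducibleSpace_of_isReduced C
  let ι : C ⟶ X.left := j ≫ pullback.fst X.hom jk
  haveI : IsClosedImmersion ι := inferInstance
  have hr : Set.range ι = Z := by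
    rw [show (ι : C → X.left) = pullback.fst X.hom jk ∘ j from rfl, Set.range_comp, hjr,
      ← (pullback.fst X.hom jk).isClosedEmbedding.closure_image_eq, Set.image_singleton, hz, hη]
  have hmono : ∀ {a b : C}, a < b → ι a < ι b := fun {a b} hab => by
    have hiff : ∀ x y : C, ι x ≤ ι y ↔ x ≤ y := fun x y => ι.isEmbedding.isInducing.specializes_iff
    exact lt_of_le_not_ge ((hiff _ _).2 hab.le) fun h => hab.not_ge ((hiff _ _).1 h)
  have hle : ∀ c : C, ι c ≤ η := fun c => by
    have h : ι c ∈ Z := hr ▸ ⟨c, rfl⟩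
    exact specializes_iff_mem_closure.2 (hη ▸ h)
  have hlt : η < genericPoint X.left := by
    refine lt_of_le_not_ge ((genericPoint_spec X.left).specializes (Set.mem_univ η)) fun h => ?_
    have he := (Specializes.antisymm h ((genericPoint_spec X.left).specializes (Set.mem_univ η))).eq
    exact gen_ne_closedPoint X (he ▸ hηF)
  obtain ⟨w, hw⟩ := exists_lt_of_maximal hconn hηF hmax
  obtain ⟨c, hc⟩ : w ∈ Set.range ι := by rw [hr, ← hη]; exact specializes_iff_mem_closure.1 hw.le
  refine ⟨⟨Over.mk (j ≫ pullback.snd X.hom jk), ι, inferInstance, ‹_›, le_antisymm ?_ ?_, ?_⟩, hr⟩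
  · exact dim_le_one_of_no_chain fun a b d hab hbd =>
      no_chain_four (hmono hab) (hmono hbd) (lt_of_le_of_lt (hle d) hlt)
  · show 1 ≤ topologicalKrullDim C
    rw [show topologicalKrullDim C = Order.krullDim C from Order.krullDim_eq_of_orderIso (irreducibleSetEquivPoints (α := C))]
    obtain ⟨e, he⟩ : η ∈ Set.range ι := by rw [hr, ← hη]; exact subset_closure rfl
    have hce : c < e := by
      refine lt_of_le_not_ge (ι.isEmbedding.isInducing.specializes_iff.1 ?_) fun h => ?_
      · show ι e ⤳ ι c
        rw [he, hc]; exact hw.le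
      · have : ι e ≤ ι c := h.map ι.continuous
        rw [he, hc] at this
        exact hw.not_ge this
    simpa using Order.LTSeries.length_le_krullDim ((RelSeries.singleton _ e).cons c hce)
  · show (j ≫ pullback.fst X.hom jk) ≫ X.hom = _
    rw [Category.assoc, pullback.condition, ← Category.assoc]
    rfl

/-- The components of a connected closed fibre form a list. -/
theorem exists_componentList (hconn : _root_.IsConnected (Models.specialFibreSet R X)) :
    ∃ (n : ℕ) (Γ : Fin n → ArSurf.VertComp R X), Models.IsComponentList R X Γ := by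
  haveI := (finite_fibreComponents X).fintype
  let e := (Fintype.equivFin (Models.fibreComponents R X)).symm
  choose Γ hΓ using fun Z : Models.fibreComponents R X => exists_vertComp hconn Z.2
  refine ⟨_, fun i => Γ (e i), fun i j h => e.injective (Subtype.ext ?_), ?_⟩
  · simpa only [hΓ] using h
  · refine Set.ext fun Z => ⟨?_, fun hZ => ⟨e.symm ⟨Z, hZ⟩, ?_⟩⟩
    · rintro ⟨i, rfl⟩; simp only [hΓ]; exact (e i).2
    · simp only [e.apply_symm_apply, hΓ]

/-- A closed fibre of multiplicity one has a field of functions, finite over the base. -/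
theorem isFieldFinite_fibreIdeal {n : ℕ} (Γ : Fin n → ArSurf.VertComp R X) (hΓ : Models.IsComponentList R X Γ)
    (hconnF : _root_.IsConnected (Models.specialFibreSet R X)) (hgcd : Models.multGcd R X Γ = 1) :
    IsFieldFinite X (fibreIdeal X) := by
  classical
  have hconn : _root_.IsConnected (⋃ i, Set.range (Γ i).ι.base) := by
    have he : (⋃ i, Set.range (Γ i).ι.base : Set X.left) = Models.specialFibreSet R X :=
      subset_antisymm (Set.iUnion_subset fun i => by rintro _ ⟨c, rfl⟩; exact mem_specialFibre (Γ i) c)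
        (cover X Γ hΓ)
    exact he.symm ▸ hconnF
  choose L₀ hL₀ using fun i => H23.PicInv.exists_inverse (Big.isInvertible_ideal (isEffCartier_ker (Γ i)))
  have hL : ∀ i, ClSub.IsInverseOf (L₀ i) (ClSub.idealMod (Γ i).ι.ker) := fun i =>
    ⟨(H23.PicMul.comm _ _).some ≪≫ (hL₀ i).2.some⟩
  haveI : Nonempty (Fin n) := by
    obtain ⟨w, hw⟩ := hconn.nonempty
    exact ⟨(Set.mem_iUnion.1 hw).choose⟩
  obtain ⟨dd, G, -, hGs, hFib⟩ := exists_split_curves Γ (fibreIdeal X) (isEffCartier_fibreIdeal X)
  have hm : ∀ i, 0 < Models.mult R X (Γ i) := fun i => by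
    rw [(mult_eq Γ hGs hFib hΓ.1 i).1]; exact (mult_eq Γ hGs hFib hΓ.1 i).2
  let g := Models.multGcd R X Γ
  have hgdvd : ∀ i, g ∣ Models.mult R X (Γ i) := fun i => Finset.gcd_dvd (Finset.mem_univ i)
  let m : Fin n → ℕ := fun i => Models.mult R X (Γ i) / g
  have hmg : ∀ i, m i * g = Models.mult R X (Γ i) := fun i => Nat.div_mul_cancel (hgdvd i)
  have hm1 : ∀ i, 1 ≤ m i := fun i => Nat.pos_of_ne_zero fun h => (hm i).ne' (by rw [← hmg i, h, zero_mul])
  let S : (Fin n → ℕ) → Fin n → ℤ := fun a i => ∑ j, (a j : ℤ) * ArSurf.inter R X (L₀ j) (Γ i)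
  have hrow : ∀ i, S m i = 0 := fun i => by
    have h0 := (sum_mult_inter Γ hΓ.1 L₀ hL i).2 (cover X Γ hΓ)
    have h1 : (g : ℤ) * S m i = 0 := by
      rw [Finset.mul_sum, ← h0]
      refine Finset.sum_congr rfl fun j _ => ?_
      rw [← hmg j]; push_cast; ring
    refine (mul_eq_zero.1 h1).resolve_left ?_
    exact_mod_cast fun h : g = 0 => (hm i).ne' (by rw [← hmg i, h, mul_zero])
  -- there is always a next curve below `m`
  have hnext : ∀ a : Fin n → ℕ, (∀ i, a i ≤ m i) → (∀ i, 1 ≤ a i) → a ≠ m → ∃ i, a i < m i ∧ 0 < S a i := by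
    intro a hle ha hne
    by_contra h
    push Not at h
    have hS : ∀ i, S a i ≤ 0 := fun i => by
      by_contra hi
      push Not at hi
      exact absurd (h i (lt_of_pos Γ L₀ hL hΓ.1 hle i (hrow i).le hi)) (not_le.2 hi)
    let b : Fin n → ℤ := fun i => (m i : ℤ) - a i
    have hb : ∀ i, S a i = -∑ j, b j * ArSurf.inter R X (L₀ j) (Γ i) := fun i => by
      have := hrow i
      simp only [S, b, sub_mul, Finset.sum_sub_distrib] at this ⊢
      omega
    have hQ : ∑ i, ∑ j, b i * b j * ArSurf.inter R X (L₀ j) (Γ i) = 0 := by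
      refine le_antisymm (form_nonpos Γ L₀ hL hΓ.1 b).1 (Finset.sum_nonneg fun i _ => ?_)
      rw [show ∑ j, b i * b j * ArSurf.inter R X (L₀ j) (Γ i) = b i * (∑ j, b j * ArSurf.inter R X (L₀ j) (Γ i)) by
        rw [Finset.mul_sum]; exact Finset.sum_congr rfl fun j _ => by ring]
      refine mul_nonneg ?_ ?_
      · have := hle i; simp only [b]; omega
      · have := hS i; rw [hb] at this; omega
    obtain ⟨c, hc⟩ := exists_mult_of_form_eq_zero Γ L₀ hL hΓ.1 (cover X Γ hΓ) hconnF b hQ
    -- `a` is then a multiple of the primitive vector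
    obtain ⟨i₀, hi₀⟩ : ∃ i, a i ≠ m i := Function.ne_iff.1 hne
    have hq : ∀ i, (a i : ℚ) = (1 - c * g) * m i := fun i => by
      have := hc i
      rw [← hmg i] at this
      push_cast [b] at this
      linarith
    have hcross : ∀ i, a i * m i₀ = a i₀ * m i := fun i => by
      have h1 := hq i; have h2 := hq i₀
      exact_mod_cast (show (a i : ℚ) * m i₀ = a i₀ * m i by rw [h1, h2]; ring)
    have hdvd : m i₀ ∣ a i₀ := by
      have hall : m i₀ ∣ Finset.univ.gcd fun i => a i₀ * m i :=
        Finset.dvd_gcd fun i _ => ⟨a i, by rw [← hcross i]; ring⟩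
      rw [Finset.gcd_mul_left] at hall
      have hprim : Finset.univ.gcd m = 1 :=
        Finset.gcd_div_eq_one (f := fun i => Models.mult R X (Γ i)) (Finset.mem_univ i₀) (hm i₀).ne'
      rw [hprim, mul_one] at hall
      simpa using hall
    have h1 := Nat.le_of_dvd (ha i₀) hdvd
    have h2 := hle i₀
    omega
  have hfin : divOf Γ m = fibreIdeal X := by
    rw [fibreIdeal_eq_prod Γ hΓ.1 (fun i => dim_gen (Γ i)) (cover X Γ hΓ)]
    refine Finset.prod_congr rfl fun i _ => ?_
    simp only [m, g, hgcd, Nat.div_one]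
  rw [← hfin]
  suffices key : ∀ N, ∀ a : Fin n → ℕ, (∀ i, a i ≤ m i) → (∃ i, a i ≠ 0) → ∑ i, (m i - a i) ≤ N →
      IsFieldFinite X (divOf Γ a) → IsFieldFinite X (divOf Γ m) by
    obtain ⟨i₀⟩ := ‹Nonempty (Fin n)›
    refine key _ (Pi.single i₀ 1) (fun i => ?_) ⟨i₀, by simp⟩ le_rfl (by rw [divOf_single]; exact isFieldFinite_ker _)
    by_cases h : i = i₀
    · subst h; simpa using hm1 i
    · simp [Pi.single_eq_of_ne h]
  intro N
  induction N with
  | zero =>
    intro a hle _ hsum hF
    have : a = m := funext fun i => le_antisymm (hle i) (Nat.sub_eq_zero_iff_le.1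
      (Finset.sum_eq_zero_iff.1 (Nat.le_zero.1 hsum) i (Finset.mem_univ i)))
    rwa [this] at hF
  | succ N ih =>
    intro a hle hne0 hsum hF
    by_cases hne : a = m
    · rwa [hne] at hF
    obtain ⟨i, hlt, hi⟩ : ∃ i, a i < m i ∧ 0 < S a i := by
      by_cases h1 : ∀ i, 1 ≤ a i
      · exact hnext a hle h1 hne
      · push Not at h1
        obtain ⟨i, hi0, hi⟩ := exists_pos_of_zero Γ L₀ hL hΓ.1 hconn a hne0
          (h1.imp fun i hi => by omega)
        exact ⟨i, by rw [hi0]; exact hm1 i, hi⟩
    refine ih (a + Pi.single i 1) (fun j => ?_) ⟨i, by simp⟩ ?_ (isFieldFinite_add_single Γ L₀ hL a i hi hF)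
    · by_cases hj : j = i
      · subst hj; simp; omega
      · simp [Pi.single_eq_of_ne hj, hle j]
    · have hs : ∑ j, (m j - (a + Pi.single i 1 : Fin n → ℕ) j) < ∑ j, (m j - a j) :=
        Finset.sum_lt_sum (fun j _ => by simp only [Pi.add_apply]; omega) ⟨i, Finset.mem_univ i, by simp; omega⟩
      omega

end Groth.Agent.ArInt
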