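import Groth.Agent.ArInt.Fundamental
import Groth.Agent.GeomField.GlobalFunctions
import Groth.Agent.ArInt.ModelLib
import Groth.Agent.ArInt.Form
import Groth.Agent.ArInt.Primitive
import Groth.Agent.CurveBC.Coh
import Groth.Agent.CurveReg.NefBC
import Groth.Agent.PBC.Betti
import Groth.Agent.PushAmp.Adjoint
import Groth.Agent.SurfRR.MulSeq
import Groth.Agent.PnCoh.Finite.HHLin

/-!
# Euler characteristics of vertical divisors
-/

set_option autoImplicit false
set_option linter.style.haveILetI false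
set_option linter.unusedSectionVars false
set_option backward.isDefEq.respectTransparency false
set_option backward.isDefEq.respectTransparency.types false
set_option maxHeartbeats 1000000

universe u

open CategoryTheory CategoryTheory.Limits AlgebraicGeometry TopologicalSpace
open CategoryTheory.Abelian
open Groth.Agent.PnCoh.Finite (mapLin deltaLin)
open Groth.Agent.H23.PicMul

noncomputable section

namespace Groth.Agent.ArInt

open Groth.Agent

section LongExact

variable (A : Type u) [CommRing A] {Y : Scheme.{u}} [Y.Over (Spec (CommRingCat.of A))] {S : ShortComplex Y.Modules}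

theorem range_map_f (hS : S.ShortExact) (n : ℕ) :
    LinearMap.range (mapLin A S.f n) = LinearMap.ker (mapLin A S.g n) := by
  have hT := QCoh.toAb_shortExact hS
  refine le_antisymm ?_ (fun x hx => Ext.covariant_sequence_exact₂ _ hT x hx)
  rintro _ ⟨y, rfl⟩
  refine LinearMap.mem_ker.2 ?_
  show Sheaf.H.map _ n (Sheaf.H.map _ n y) = 0
  refine (Groth.Agent.PnCoh.Finite.map_map (Y := Y.toPresheafedSpace.carrier)
    (((QCoh.toAbFunctor Y).map_comp S.f S.g).symm.trans
      (by rw [S.zero, Functor.map_zero])) n y).trans ?_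
  show ((Sheaf.functorH _ n).map 0).hom y = 0
  rw [Functor.map_zero]
  rfl

theorem range_map_g (hS : S.ShortExact) (n : ℕ) :
    LinearMap.range (mapLin A S.g n) = LinearMap.ker (deltaLin A hS n) := by
  refine le_antisymm ?_ fun x hx =>
    Groth.Agent.PnCoh.Finite.exists_of_deltaLin_eq_zero A hS n (LinearMap.mem_ker.1 hx)
  rintro _ ⟨y, rfl⟩
  exact LinearMap.mem_ker.2 ((QCoh.Ab.connecting_eq_zero_iff
    (X := Y.toPresheafedSpace.carrier) (QCoh.toAb_shortExact hS) n _).2 ⟨y, rfl⟩)

theorem range_delta (hS : S.ShortExact) (n : ℕ) :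
    LinearMap.range (deltaLin A hS n) = LinearMap.ker (mapLin A S.f (n + 1)) := by
  have hT := QCoh.toAb_shortExact hS
  refine le_antisymm ?_ fun x hx => ?_
  · rintro _ ⟨y, rfl⟩
    refine LinearMap.mem_ker.2 ?_
    show ((y.comp hT.extClass rfl).comp (Ext.mk₀ ((QCoh.toAbFunctor Y).map S.f)) (add_zero _)) = 0
    rw [Ext.comp_assoc_of_third_deg_zero]
    exact (congrArg (fun z => Ext.comp y z _) hT.extClass_comp).trans (Ext.comp_zero _ _ _ _ _)
  · exact Ext.covariant_sequence_exact₁ _ hT x hx rfl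

theorem ker_map_f_zero (hS : S.ShortExact) : LinearMap.ker (mapLin A S.f 0) = ⊥ := by
  rw [LinearMap.ker_eq_bot]
  intro x y hxy
  apply (Sheaf.H.equiv₀ (Coh.toAb S.X₁) isTerminalTop).injective
  refine QCoh.app_f_injective hS ⊤ ?_
  have hx := Sheaf.H.equiv₀_naturality isTerminalTop ((QCoh.toAbFunctor Y).map S.f) x
  have hy := Sheaf.H.equiv₀_naturality isTerminalTop ((QCoh.toAbFunctor Y).map S.f) y
  exact hx.trans ((congrArg (Sheaf.H.equiv₀ (Coh.toAb S.X₂) isTerminalTop) hxy).trans hy.symm)

/-- The length of the source is the sum of the lengths of the kernel and of the range. -/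
theorem length_eq_ker_add_range {M N : Type u} [AddCommGroup M] [Module A M] [AddCommGroup N] [Module A N]
    (g : M →ₗ[A] N) : Module.length A M = Module.length A (LinearMap.ker g) + Module.length A (LinearMap.range g) :=
  Module.length_eq_add_of_exact (LinearMap.ker g).subtype g.rangeRestrict (Submodule.subtype_injective _)
    g.surjective_rangeRestrict
    (LinearMap.exact_iff.2 (by rw [LinearMap.ker_rangeRestrict, Submodule.range_subtype]))

/-- Additivity of the alternating length of a six-term sequence. -/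
theorem length_six (hS : S.ShortExact) [Subsingleton (Coh.HH Y S.X₁ 2)] :
    ∃ b c d : ℕ∞, Module.length A (Coh.HH Y S.X₂ 0) = Module.length A (Coh.HH Y S.X₁ 0) + b ∧
      Module.length A (Coh.HH Y S.X₃ 0) = b + c ∧
      Module.length A (Coh.HH Y S.X₁ 1) = c + d ∧
      Module.length A (Coh.HH Y S.X₂ 1) = d + Module.length A (Coh.HH Y S.X₃ 1) := by
  have h20 := length_eq_ker_add_range A (mapLin A S.g 0)
  have h30 := length_eq_ker_add_range A (deltaLin A hS 0)
  have h11 := length_eq_ker_add_range A (mapLin A S.f 1)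
  have h21 := length_eq_ker_add_range A (mapLin A S.g 1)
  have h10 : Module.length A (LinearMap.range (mapLin A S.f 0)) = Module.length A (Coh.HH Y S.X₁ 0) :=
    (LinearEquiv.ofInjective (mapLin A S.f 0) (LinearMap.ker_eq_bot.1 (ker_map_f_zero A hS))).length_eq.symm
  have h31 : LinearMap.range (mapLin A S.g 1) = ⊤ := by
    rw [range_map_g A hS 1, eq_top_iff]
    exact fun x _ => LinearMap.mem_ker.2 (Subsingleton.elim _ _)
  rw [← range_map_f A hS 0, h10] at h20
  rw [← range_map_g A hS 0, range_delta A hS 0] at h30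
  rw [← range_map_f A hS 1, h31, Submodule.topEquiv.length_eq] at h21
  exact ⟨_, _, _, h20, h30, h11, h21⟩

end LongExact

variable {R : Type u} [CommRing R] [IsDomain R] [IsDiscreteValuationRing R]

/-- Finite lengths of cohomology, none above degree one. -/
structure IsVert (X : Over (Spec (CommRingCat.of R))) (F : X.left.Modules) : Prop where
  fin0 : Module.length R (Coh.HH X.left F 0) ≠ ⊤
  fin1 : Module.length R (Coh.HH X.left F 1) ≠ ⊤
  h2 : Subsingleton (Coh.HH X.left F 2)

/-- The Euler characteristic by lengths. -/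
def chiM (X : Over (Spec (CommRingCat.of R))) (F : X.left.Modules) : ℤ :=
  (Models.lengthH R X F 0 : ℤ) - (Models.lengthH R X F 1 : ℤ)

variable {X : Over (Spec (CommRingCat.of R))}

theorem isVert_congr {F G : X.left.Modules} (e : F ≅ G) (h : IsVert X F) :
    IsVert X G ∧ chiM X G = chiM X F := by
  letI : X.left.Over (Spec (CommRingCat.of R)) := ⟨X.hom⟩
  have hl : ∀ i, Module.length R (Coh.HH X.left G i) = Module.length R (Coh.HH X.left F i) := fun i =>
    (hhEquiv (A := R) e i).length_eq.symm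
  refine ⟨⟨(hl 0).symm ▸ h.fin0, (hl 1).symm ▸ h.fin1, ?_⟩, ?_⟩
  · haveI := h.h2
    exact (hhEquiv (A := R) e 2).symm.toEquiv.subsingleton
  · simp only [chiM, Models.lengthH, hl]

theorem isVert_of_seq {S : ShortComplex X.left.Modules} (hS : S.ShortExact) (h1 : IsVert X S.X₁)
    (h3 : IsVert X S.X₃) : IsVert X S.X₂ ∧ chiM X S.X₂ = chiM X S.X₁ + chiM X S.X₃ := by
  letI : X.left.Over (Spec (CommRingCat.of R)) := ⟨X.hom⟩
  haveI := h1.h2
  obtain ⟨b, c, d, e20, e30, e11, e21⟩ := length_six R hS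
  have h30 : Module.length R (Coh.HH X.left S.X₃ 0) ≠ ⊤ := h3.fin0
  have h11 : Module.length R (Coh.HH X.left S.X₁ 1) ≠ ⊤ := h1.fin1
  rw [e30, WithTop.add_ne_top] at h30
  rw [e11, WithTop.add_ne_top] at h11
  have h20 : Module.length R (Coh.HH X.left S.X₂ 0) ≠ ⊤ := e20 ▸ WithTop.add_ne_top.2 ⟨h1.fin0, h30.1⟩
  have h21 : Module.length R (Coh.HH X.left S.X₂ 1) ≠ ⊤ := e21 ▸ WithTop.add_ne_top.2 ⟨h11.2, h3.fin1⟩
  refine ⟨⟨h20, h21, ⟨fun x y => ?_⟩⟩, ?_⟩
  · haveI := h3.h2
    have key : ∀ z : Coh.HH X.left S.X₂ 2, z = 0 := fun z => by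
      have hz : z ∈ LinearMap.range (mapLin R S.f 2) := by
        rw [range_map_f R hS 2]; exact LinearMap.mem_ker.2 (Subsingleton.elim _ _)
      obtain ⟨w, rfl⟩ := hz
      rw [Subsingleton.elim w 0, map_zero]
    rw [key x, key y]
  · have f20 := congrArg ENat.toNat e20
    have f30 := congrArg ENat.toNat e30
    have f11 := congrArg ENat.toNat e11
    have f21 := congrArg ENat.toNat e21
    rw [ENat.toNat_add h1.fin0 h30.1] at f20
    rw [ENat.toNat_add h30.1 h30.2] at f30
    rw [ENat.toNat_add h11.1 h11.2] at f11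
    rw [ENat.toNat_add h11.2 h3.fin1] at f21
    simp only [chiM, Models.lengthH, f20, f30, f11, f21]
    push_cast
    ring

/-- A module pushed from a proper curve over the residue field. -/
theorem isVert_push [IsSurf X] {Z : Scheme.{u}} [Z.Over (Spec (CommRingCat.of (IsLocalRing.ResidueField R)))]
    [IsProper (Z ↘ Spec (CommRingCat.of (IsLocalRing.ResidueField R)))] (hd : topologicalKrullDim Z ≤ 1)
    (j : Z ⟶ X.left) [IsClosedImmersion j]
    (hj : j ≫ X.hom = (Z ↘ Spec (CommRingCat.of (IsLocalRing.ResidueField R))) ≫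
      Spec.map (CommRingCat.ofHom (IsLocalRing.residue R)))
    {M : Z.Modules} (hM : Coh.IsCoh M) :
    IsVert X ((Coh.push j).obj M) ∧
      chiM X ((Coh.push j).obj M) = Curv2.euler (IsLocalRing.ResidueField R) Z M := by
  let k := IsLocalRing.ResidueField R
  haveI : IsNoetherian Z := CurveCohLib.isNoetherian_of_proper (k := k)
  haveI : Z.IsSeparated := ⟨by rw [← terminal.comp_from (Z ↘ Spec (CommRingCat.of k))]; infer_instance⟩
  letI : Algebra R k := (IsLocalRing.residue R).toAlgebra
  let sk := Z ↘ Spec (CommRingCat.of k)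
  letI : X.left.Over (Spec (CommRingCat.of R)) := ⟨X.hom⟩
  letI : Z.Over (Spec (CommRingCat.of R)) := ⟨j ≫ X.hom⟩
  haveI := fun i => S0002.result k Z M hM i
  haveI : ∀ i, IsScalarTower R k (Coh.HH Z M i) := fun i =>
    IsScalarTower.of_algebraMap_smul fun r x => by
      show Coh.toGlobal sk (IsLocalRing.residue R r) • x = Coh.toGlobal (j ≫ X.hom) r • x
      congr 1
      rw [hj]
      exact (RingHom.congr_fun (toGlobal_comp sk (IsLocalRing.residue R)) r).symm
  have hlen : ∀ i, Module.length R (Coh.HH X.left ((Coh.push j).obj M) i) =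
      (Module.finrank k (Coh.HH Z M i) : ℕ∞) := fun i => by
    obtain ⟨a⟩ := PnCoh.exists_linearEquiv_push R j rfl hM.1 i
    rw [← a.length_eq, Module.length_eq_of_surjective (R := k) (IsLocalRing.residue_surjective),
      H23.FiniteFibreSum.length_eq_finrank]
  refine ⟨⟨by rw [hlen]; exact ENat.natCast_ne_top _, by rw [hlen]; exact ENat.natCast_ne_top _, ?_⟩, ?_⟩
  · obtain ⟨a⟩ := PnCoh.exists_linearEquiv_push R j rfl hM.1 2
    haveI := CurveReg.subsingleton_HH_ge_two hd hM.1 0
    exact a.symm.toEquiv.subsingleton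
  · rw [CurveReg.euler_eq k hd hM]
    simp only [chiM, Models.lengthH, hlen, ENat.toNat_coe]

section Divisors

variable [IsSurf X] [Flat X.hom] (Γ₀ : ArSurf.VertComp R X)

/-- The twist of the structure sheaf of a curve. -/
theorem isVert_twist {N : X.left.Modules} (hN : PicF.IsInvertible N) :
    IsVert X (CohB1.tensorMod (ClSub.quotMod Γ₀.ι.ker) N) ∧
      chiM X (CohB1.tensorMod (ClSub.quotMod Γ₀.ι.ker) N) =
        ArSurf.inter R X N Γ₀ + ((Models.wdeg R X Γ₀ : ℤ) - (Models.h1 R X Γ₀ : ℤ)) := by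
  let k := IsLocalRing.ResidueField R
  let C := Γ₀.curve.left
  haveI := isProper_curve_over Γ₀
  haveI : IsNoetherian C := CurveCohLib.isNoetherian_of_proper (k := k)
  obtain ⟨q⟩ := ExtShX.nonempty_push_iso_quotMod Γ₀.ι
  obtain ⟨e⟩ := AmpleDev.push_tensor_iso Γ₀.ι hN (Coh.structureModule C)
  have hM' : PicF.IsInvertible ((Scheme.Modules.pullback Γ₀.ι).obj N) := PicClLib.isInvertible_pullback _ hN
  obtain ⟨ψ⟩ : Nonempty (CohB1.tensorMod (Coh.structureModule C) ((Scheme.Modules.pullback Γ₀.ι).obj N) ≅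
      (Scheme.Modules.pullback Γ₀.ι).obj N) := cl_eq_iff.1 (by
    rw [cl_tensor, ← H23.PicMul.one_def, one_mul])
  have hd : topologicalKrullDim C ≤ 1 := Γ₀.dim_eq.le
  obtain ⟨hv, hχ⟩ := isVert_push hd Γ₀.ι Γ₀.w (CurveDeg.isCoh_of_isInvertible hM')
  obtain ⟨hv', hχ'⟩ := isVert_congr ((AmpleVan.tw N).mapIso q.symm ≪≫ e ≪≫ (Coh.push Γ₀.ι).mapIso ψ).symm hv
  refine ⟨hv', hχ'.trans (hχ.trans ?_)⟩
  have h0 : Curv2.euler k C (Coh.structureModule C) = (Models.wdeg R X Γ₀ : ℤ) - (Models.h1 R X Γ₀ : ℤ) :=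
    CurveReg.euler_eq k hd (RefX.isCoh_unit (X := C))
  rw [inter_eq_deg Γ₀ hN, ← h0]
  simp only [Curv2.deg, Nat.cast_one, one_mul, k, C]
  ring

theorem isVert_top : IsVert X (ClSub.quotMod (⊤ : X.left.IdealSheafData)) ∧
    chiM X (ClSub.quotMod (⊤ : X.left.IdealSheafData)) = 0 := by
  haveI : IsEmpty (⊤ : X.left.IdealSheafData).subscheme :=
    ⟨fun z => by
      have h : (⊤ : X.left.IdealSheafData).subschemeι z ∈ Set.range (⊤ : X.left.IdealSheafData).subschemeι := ⟨z, rfl⟩
      rw [Scheme.IdealSheafData.range_subschemeι, Scheme.IdealSheafData.support_top] at h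
      exact h⟩
  have hz : IsZero (ClSub.quotMod (⊤ : X.left.IdealSheafData)) :=
    KFlatLib.isZero_of_stalk _ fun x => by
      haveI : Subsingleton (ParShLib.stk (ClSub.quotMod (⊤ : X.left.IdealSheafData)) x) :=
        ParShLib.subsingleton_stalk_quotMod _ (by rw [Scheme.IdealSheafData.support_top]; exact id)
      exact ModuleCat.isZero_of_iff_subsingleton.mpr ‹_›
  haveI : ∀ i, Subsingleton (Coh.HH X.left (ClSub.quotMod (⊤ : X.left.IdealSheafData)) i) := fun i =>
    Euler.subsingleton_HH_of_isZero hz i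
  refine ⟨⟨by simp [Module.length_eq_zero], by simp [Module.length_eq_zero], this 2⟩, ?_⟩
  simp [chiM, Models.lengthH, Module.length_eq_zero]

/-- Adding a curve to an effective divisor. -/
theorem chi_step {B : X.left.IdealSheafData} (hB : BlowUp.IsEffCartierIdeal B)
    (h : IsVert X (ClSub.quotMod B)) :
    IsVert X (ClSub.quotMod (Γ₀.ι.ker * B)) ∧
      chiM X (ClSub.quotMod (Γ₀.ι.ker * B)) =
        chiM X (ClSub.quotMod B) + φ Γ₀ B + ((Models.wdeg R X Γ₀ : ℤ) - (Models.h1 R X Γ₀ : ℤ)) := by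
  obtain ⟨f, g, w, hS, -⟩ := SurfRR.MulSeq.exists_seq Γ₀.ι.ker B (isEffCartier_ker Γ₀) hB
  obtain ⟨hv, hχ⟩ := isVert_twist Γ₀ (Big.isInvertible_ideal hB)
  obtain ⟨h2, hχ2⟩ := isVert_of_seq hS hv h
  refine ⟨h2, ?_⟩
  rw [show chiM X (ClSub.quotMod (Γ₀.ι.ker * B)) = _ from hχ2, hχ]
  simp only [φ]
  ring

variable {n : ℕ} (Γ : Fin n → ArSurf.VertComp R X)

theorem divOf_add_single (a : Fin n → ℕ) (i : Fin n) :
    divOf Γ (a + Pi.single i 1) = (Γ i).ι.ker * divOf Γ a := by
  classical
  simp only [divOf, Pi.add_apply, pow_add, Finset.prod_mul_distrib]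
  have h := divOf_single Γ i
  simp only [divOf] at h
  rw [h, mul_comm]

/-- The local contribution of a curve. -/
def χ₀ (i : Fin n) : ℤ := (Models.wdeg R X (Γ i) : ℤ) - (Models.h1 R X (Γ i) : ℤ)

variable (L : Fin n → X.left.Modules) (hL : ∀ j, ClSub.IsInverseOf (L j) (ClSub.idealMod (Γ j).ι.ker))
  (hinj : Function.Injective fun i => Set.range ((Γ i).ι.base))

theorem isVert_divOf (a : Fin n → ℕ) : IsVert X (ClSub.quotMod (divOf Γ a)) := by
  classical
  suffices key : ∀ N, ∀ a : Fin n → ℕ, ∑ i, a i ≤ N → IsVert X (ClSub.quotMod (divOf Γ a)) from key _ a le_rfl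
  intro N
  induction N with
  | zero =>
    intro a ha
    have h0 : a = 0 := funext fun i => Finset.sum_eq_zero_iff.1 (Nat.le_zero.1 ha) i (Finset.mem_univ i)
    subst h0
    rw [show divOf Γ 0 = ⊤ from (Finset.prod_eq_one fun j _ => pow_zero _).trans Scheme.IdealSheafData.one_eq_top]
    exact (isVert_top (X := X)).1
  | succ N ih =>
    intro a ha
    by_cases h : ∑ i, a i ≤ N
    · exact ih a h
    obtain ⟨i, -, hi⟩ : ∃ i ∈ Finset.univ, a i ≠ 0 := Finset.exists_ne_zero_of_sum_ne_zero (by omega)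
    let b := a - Pi.single i 1
    have hab : a = b + Pi.single i 1 := funext fun j => by
      by_cases hj : j = i
      · subst hj; simp only [b, Pi.add_apply, Pi.sub_apply, Pi.single_eq_same]; omega
      · simp [b, Pi.single_eq_of_ne hj]
    have hb : ∑ j, b j ≤ N := by
      rw [hab] at ha
      simp only [Pi.add_apply, Finset.sum_add_distrib, Finset.sum_pi_single', Finset.mem_univ, if_true] at ha
      omega
    rw [hab, divOf_add_single]
    exact (chi_step (Γ i) (isEffCartier_divOf Γ b) (ih b hb)).1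

include hL in
/-- The Euler characteristic after adding a curve. -/
theorem chi_add_single (a : Fin n → ℕ) (i : Fin n) :
    chiM X (ClSub.quotMod (divOf Γ (a + Pi.single i 1))) =
      chiM X (ClSub.quotMod (divOf Γ a)) + χ₀ Γ i - ∑ j, (a j : ℤ) * ArSurf.inter R X (L j) (Γ i) := by
  rw [divOf_add_single, (chi_step (Γ i) (isEffCartier_divOf Γ a) (isVert_divOf Γ a)).2, φ_divOf Γ L hL, χ₀]
  ring

include hL hinj in
theorem inter_symm' (i j : Fin n) : ArSurf.inter R X (L j) (Γ i) = ArSurf.inter R X (L i) (Γ j) := by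
  by_cases h : i = j
  · rw [h]
  · exact inter_symm Γ L hL hinj h

include hL hinj in
/-- Riemann–Roch for a vertical divisor. -/
theorem two_chi (a : Fin n → ℕ) :
    2 * chiM X (ClSub.quotMod (divOf Γ a)) =
      ∑ i, (a i : ℤ) * (2 * χ₀ Γ i + ArSurf.inter R X (L i) (Γ i)) -
        ∑ i, ∑ j, (a i : ℤ) * a j * ArSurf.inter R X (L j) (Γ i) := by
  classical
  suffices key : ∀ N, ∀ a : Fin n → ℕ, ∑ i, a i ≤ N → 2 * chiM X (ClSub.quotMod (divOf Γ a)) =
      ∑ i, (a i : ℤ) * (2 * χ₀ Γ i + ArSurf.inter R X (L i) (Γ i)) -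
        ∑ i, ∑ j, (a i : ℤ) * a j * ArSurf.inter R X (L j) (Γ i) from key _ a le_rfl
  intro N
  induction N with
  | zero =>
    intro a ha
    have h0 : a = 0 := funext fun i => Finset.sum_eq_zero_iff.1 (Nat.le_zero.1 ha) i (Finset.mem_univ i)
    subst h0
    rw [show divOf Γ 0 = ⊤ from (Finset.prod_eq_one fun j _ => pow_zero _).trans Scheme.IdealSheafData.one_eq_top,
      (isVert_top (X := X)).2]
    simp
  | succ N ih =>
    intro a ha
    by_cases h : ∑ i, a i ≤ N
    · exact ih a h
    obtain ⟨k, -, hk⟩ : ∃ i ∈ Finset.univ, a i ≠ 0 := Finset.exists_ne_zero_of_sum_ne_zero (by omega)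
    let b := a - Pi.single k 1
    have hab : a = b + Pi.single k 1 := funext fun j => by
      by_cases hj : j = k
      · subst hj; simp only [b, Pi.add_apply, Pi.sub_apply, Pi.single_eq_same]; omega
      · simp [b, Pi.single_eq_of_ne hj]
    have hb : ∑ j, b j ≤ N := by
      rw [hab] at ha
      simp only [Pi.add_apply, Finset.sum_add_distrib, Finset.sum_pi_single', Finset.mem_univ, if_true] at ha
      omega
    clear_value b
    subst hab
    rw [chi_add_single Γ L hL, mul_sub, mul_add, ih b hb]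
    have hcast : ∀ i, (((b + Pi.single k 1 : Fin n → ℕ) i : ℕ) : ℤ) = (b i : ℤ) + (Pi.single k (1 : ℤ) : Fin n → ℤ) i := fun i => by
      by_cases hi : i = k
      · subst hi; simp
      · simp [Pi.single_eq_of_ne hi]
    simp only [hcast, add_mul, mul_add, Finset.sum_add_distrib, Pi.single_apply, ite_mul, one_mul, zero_mul,
      mul_ite, mul_one, mul_zero, Finset.sum_ite_eq', Finset.mem_univ, if_true]
    have hs : ∑ i, (b i : ℤ) * ArSurf.inter R X (L k) (Γ i) = ∑ i, (b i : ℤ) * ArSurf.inter R X (L i) (Γ k) :=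
      Finset.sum_congr rfl fun i _ => by rw [inter_symm' Γ L hL hinj i k]
    simp only [Finset.sum_ite_irrel, Finset.sum_const_zero, Finset.sum_ite_eq', Finset.mem_univ, if_true, hs]
    ring

end Divisors

section Fibre

/-- The Euler characteristic of the fibre over a field valued point. -/
theorem euler_basePoint {S X' Z : Scheme.{u}} (f : X' ⟶ S) [IsProper f] {K : Type u} [Field K]
    [Z.Over (Spec (CommRingCat.of K))] (g : Z ⟶ X') (j : Spec (CommRingCat.of K) ⟶ S)
    (hsq : IsPullback g (Z ↘ Spec (CommRingCat.of K)) f j) :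
    ∃ s : S, Curv2.euler K Z (Coh.structureModule Z) = PerfAux.eulerChar f (Coh.structureModule X') s := by
  let s := j (IsLocalRing.closedPoint K)
  let φ := Scheme.descResidueField (Scheme.stalkClosedPointTo j)
  have hj : Spec.map φ ≫ S.fromSpecResidueField s = j := Scheme.descResidueField_stalkClosedPointTo_fromSpecResidueField K S j
  refine ⟨s, ?_⟩
  letI : Algebra (S.residueField s) K := φ.hom.toAlgebra
  letI : (f.fiber s).Over (Spec (CommRingCat.of (S.residueField s))) := ⟨f.fiberToSpecResidueField s⟩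
  haveI : IsProper (f.fiber s ↘ Spec (CommRingCat.of (S.residueField s))) :=
    MorphismProperty.pullback_snd _ _ (inferInstance : IsProper f)
  haveI : CompactSpace (f.fiber s) := QuasiCompact.compactSpace_of_compactSpace (f.fiberToSpecResidueField s)
  haveI : (f.fiber s).IsSeparated := ⟨by
    rw [← terminal.comp_from (f.fiber s ↘ Spec (CommRingCat.of (S.residueField s)))]; infer_instance⟩
  let q : Z ⟶ f.fiber s := pullback.lift g ((Z ↘ Spec (CommRingCat.of K)) ≫ Spec.map φ)
    (by rw [Category.assoc, hj]; exact hsq.w)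
  have hq1 : q ≫ f.fiberι s = g := pullback.lift_fst _ _ _
  have hq2 : q ≫ f.fiberToSpecResidueField s = (Z ↘ Spec (CommRingCat.of K)) ≫ Spec.map φ := pullback.lift_snd _ _ _
  have hpb : IsPullback q (Z ↘ Spec (CommRingCat.of K)) (f.fiberToSpecResidueField s) (Spec.map φ) := by
    refine IsPullback.of_right (h₁₂ := f.fiberι s) (v₁₃ := f) (h₂₂ := S.fromSpecResidueField s) ?_ hq2
      (IsPullback.of_hasPullback _ _)
    rw [hq1, hj]; exact hsq
  refine finsum_congr fun i => ?_
  refine congrArg (fun t : ℕ => (-1 : ℤ) ^ i * (t : ℤ)) ?_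
  exact (CurveBC.finrank_hh_unit (S.residueField s) K q hpb i).trans
    (CurveCohLib.hhEquiv (k := S.residueField s) (CurveBC.unitIso (f.fiberι s)) i).finrank_eq.symm

variable [Flat X.hom] [IsSurf X]

/-- Two fibres over field valued points have the same Euler characteristic. -/
theorem euler_eq_of_basePoints {Z₁ Z₂ : Scheme.{u}} {K₁ K₂ : Type u} [Field K₁] [Field K₂]
    [Z₁.Over (Spec (CommRingCat.of K₁))] [Z₂.Over (Spec (CommRingCat.of K₂))]
    {g₁ : Z₁ ⟶ X.left} {g₂ : Z₂ ⟶ X.left} {j₁ : Spec (CommRingCat.of K₁) ⟶ Spec (CommRingCat.of R)}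
    {j₂ : Spec (CommRingCat.of K₂) ⟶ Spec (CommRingCat.of R)}
    (h₁ : IsPullback g₁ (Z₁ ↘ Spec (CommRingCat.of K₁)) X.hom j₁)
    (h₂ : IsPullback g₂ (Z₂ ↘ Spec (CommRingCat.of K₂)) X.hom j₂) :
    Curv2.euler K₁ Z₁ (Coh.structureModule Z₁) = Curv2.euler K₂ Z₂ (Coh.structureModule Z₂) := by
  haveI : IsLocallyNoetherian X.left := LocallyOfFiniteType.isLocallyNoetherian X.hom
  have hlc := PBC.isLocallyConstant_eulerChar X.hom (Coh.structureModule X.left)
    (QCoh.isCoh_iff_isFP.1 (RefX.isCoh_unit (X := X.left))) (PushAmp.isFlatOver_structureModule X.hom)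
  obtain ⟨s, hs⟩ := euler_basePoint X.hom g₁ j₁ h₁
  obtain ⟨t, ht⟩ := euler_basePoint X.hom g₂ j₂ h₂
  rw [hs, ht]
  have hcl : ∀ z : Spec (CommRingCat.of R), PerfAux.eulerChar X.hom (Coh.structureModule X.left) z =
      PerfAux.eulerChar X.hom (Coh.structureModule X.left) (IsLocalRing.closedPoint R) := fun z =>
    ((IsLocalRing.specializes_closedPoint z).mem_open
      (hlc.isOpen_fiber (PerfAux.eulerChar X.hom (Coh.structureModule X.left) (IsLocalRing.closedPoint R))) rfl)
  rw [hcl s, hcl t]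

variable {n : ℕ} (Γ : Fin n → ArSurf.VertComp R X)

/-- The Euler characteristic of the closed fibre. -/
theorem chi_fibre {C : Scheme.{u}} [C.Over (Spec (CommRingCat.of (FractionRing R)))] (g : C ⟶ X.left)
    (hg : IsPullback g (C ↘ Spec (CommRingCat.of (FractionRing R))) X.hom
      (Spec.map (CommRingCat.ofHom (algebraMap R (FractionRing R))))) :
    chiM X (ClSub.quotMod (fibreIdeal X)) =
      Curv2.euler (FractionRing R) C (Coh.structureModule C) := by
  let k := IsLocalRing.ResidueField R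
  let jk := Spec.map (CommRingCat.ofHom (IsLocalRing.residue R))
  haveI : IsClosedImmersion jk := IsClosedImmersion.spec_of_surjective _ IsLocalRing.residue_surjective
  let Z := pullback X.hom jk
  letI : Z.Over (Spec (CommRingCat.of k)) := ⟨pullback.snd X.hom jk⟩
  haveI : IsProper (Z ↘ Spec (CommRingCat.of k)) := MorphismProperty.pullback_snd _ _ (inferInstance : IsProper X.hom)
  let j := pullback.fst X.hom jk
  have hker : j.ker = fibreIdeal X := Scheme.IdealSheafData.ker_fst_of_isClosedImmersion jk X.hom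
  have hd : topologicalKrullDim Z ≤ 1 := by
    refine dim_le_one_of_no_chain fun a b c hab hbc => ?_
    have hlt : ∀ {y z : Z}, y < z → j y < j z := fun {y z} h =>
      lt_of_le_not_ge ((j.isEmbedding.isInducing.specializes_iff).2 h.le)
        fun h' => h.not_ge ((j.isEmbedding.isInducing.specializes_iff).1 h')
    have hc : j c < genericPoint X.left := by
      refine lt_of_le_not_ge ((genericPoint_spec X.left).specializes (Set.mem_univ _)) fun h' => ?_
      have he : genericPoint X.left = j c :=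
        ((Specializes.antisymm ((genericPoint_spec X.left).specializes (Set.mem_univ (j c))) h').eq)
      refine gen_ne_closedPoint X ?_
      have h1 : X.hom (j c) = jk (pullback.snd X.hom jk c) := by
        rw [← Scheme.Hom.comp_apply, pullback.condition, Scheme.Hom.comp_apply]
      rw [he, h1, Subsingleton.elim (pullback.snd X.hom jk c) (IsLocalRing.closedPoint k)]
      exact IsLocalRing.comap_closedPoint (IsLocalRing.residue R)
    exact no_chain_four (hlt hab) (hlt hbc) hc
  obtain ⟨hv, hχ⟩ := isVert_push hd j pullback.condition (RefX.isCoh_unit (X := Z))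
  obtain ⟨q⟩ := ExtShX.nonempty_push_iso_quotMod j
  rw [hker] at q
  rw [(isVert_congr q hv).2, hχ]
  exact euler_eq_of_basePoints (IsPullback.of_hasPullback X.hom jk) hg

end Fibre

section Model

/-- The Euler characteristic of the closed fibre of a model. -/
theorem chi_fibre_eq_genus {C X : Scheme.{u}} {f : C ⟶ Spec (CommRingCat.of (FractionRing R))}
    {p : X ⟶ Spec (CommRingCat.of R)} (hC : Curve.IsSmoothProperCurve (FractionRing R) C f)
    (hH0 : IsIso f.appTop) (hX : Models.IsRegularProperModel R X p C f)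
    {n : ℕ} (Γ : Fin n → ArSurf.VertComp R (Over.mk p)) (hΓ : Models.IsComponentList R (Over.mk p) Γ) :
    chiM (Over.mk p) (ClSub.quotMod (divOf Γ fun i => Models.mult R (Over.mk p) (Γ i))) =
      1 - (Models.curveGenus (FractionRing R) C f : ℤ) := by
  let K := FractionRing R
  haveI := (model_facts hC hX.1).1
  haveI := isSurf hC hX Γ hΓ
  haveI : Flat (Over.mk p).hom := hX.1.1
  obtain ⟨-, -, -, g, hg⟩ := hX.1
  letI : C.Over (Spec (CommRingCat.of K)) := ⟨f⟩
  haveI : IsProper (C ↘ Spec (CommRingCat.of K)) := hC.1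
  haveI : IsNoetherian C := CurveCohLib.isNoetherian_of_proper (k := K)
  have hd : topologicalKrullDim C ≤ 1 := hC.2.2.2.le
  rw [show divOf Γ (fun i => Models.mult R (Over.mk p) (Γ i)) = fibreIdeal (Over.mk p) from
    (fibreIdeal_eq_prod Γ hΓ.1 (fun i => dim_gen (Γ i)) (cover _ Γ hΓ)).symm]
  rw [chi_fibre (X := Over.mk p) (C := C) g hg, CurveReg.euler_eq K hd (RefX.isCoh_unit (X := C))]
  have h0 : Module.finrank K (Coh.HH C (Coh.structureModule C) 0) = 1 := by
    rw [GeomField.finrank_HH_zero]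
    letI := GeomField.globalAlgebra K C
    have hb : Function.Bijective (Algebra.linearMap K Γ(C, ⊤)) :=
      (ConcreteCategory.bijective_of_isIso f.appTop).comp
        (ConcreteCategory.bijective_of_isIso (Scheme.ΓSpecIso (CommRingCat.of K)).inv)
    exact ((LinearEquiv.ofBijective _ hb).finrank_eq).symm.trans (Module.finrank_self K)
  rw [h0]
  rfl

end Model

end Groth.Agent.ArInt
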