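import Groth.Agent.ArInt.Fundamental
import Groth.Agent.ArInt.EulerChi
import Groth.Agent.ArInt.ConstField
import Groth.Agent.ArInt.Primitive
import Groth.Agent.S2209

/-!
# The reduced closed fibre as a divisor
-/

set_option autoImplicit false
set_option linter.style.haveILetI false
set_option linter.unusedSectionVars false
set_option backward.isDefEq.respectTransparency false
set_option backward.isDefEq.respectTransparency.types false
set_option maxHeartbeats 1000000

universe u

open CategoryTheory CategoryTheory.Limits AlgebraicGeometry TopologicalSpace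

noncomputable section

namespace Groth.Agent.ArInt

open Groth.Agent ModPairLib

/-- A prime divisor and a divisor not containing it intersect in their product. -/
theorem inf_eq_mul_of_integral {Y : Scheme.{u}} {C P : Y.IdealSheafData} [IsIntegral C.subscheme]
    (hP : BlowUp.IsEffCartierIdeal P) (hη : C.subschemeι (genericPoint C.subscheme) ∉ P.support) :
    C ⊓ P = C * P := by
  refine le_antisymm ?_ ?_
  · let Q := colon (C ⊓ P) P (isLocPrincipal_of_isEffCartier hP)
    have hmul : Q * P = C ⊓ P := colon_mul hP inf_le_right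
    have hQC : Q ≤ C := fun U a ha => by
      rw [← C.ker_subschemeι_app U, RingHom.mem_ker]
      by_contra hne
      have hne' : Nonempty (C.subschemeι ⁻¹ᵁ U.1 : C.subscheme.Opens) := by
        by_contra he
        have he' : (C.subschemeι ⁻¹ᵁ U.1) = ⊥ := eq_bot_iff.2 fun z hz => (he ⟨⟨z, hz⟩⟩).elim
        haveI : Subsingleton Γ(C.subscheme, C.subschemeι ⁻¹ᵁ U.1) := by rw [he']; infer_instance
        exact hne (Subsingleton.elim _ _)
      haveI := hne'
      obtain ⟨⟨z, hz⟩⟩ := hne'
      have hηU : C.subschemeι (genericPoint C.subscheme) ∈ U.1 :=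
        ((genericPoint_specializes z).map C.subschemeι.continuous).mem_open U.1.isOpen hz
      have hle : P.ideal U ≤ C.ideal U := fun p hp => by
        have hmem : a * p ∈ (C ⊓ P).ideal U := by
          rw [← hmul, Scheme.IdealSheafData.ideal_mul, Pi.mul_apply]
          exact Ideal.mul_mem_mul ha hp
        rw [Scheme.IdealSheafData.ideal_inf, Pi.inf_apply] at hmem
        have h1 := hmem.1
        rw [SetLike.mem_coe, ← C.ker_subschemeι_app U, RingHom.mem_ker, map_mul] at h1
        rw [← C.ker_subschemeι_app U, RingHom.mem_ker]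
        exact (mul_eq_zero.1 h1).resolve_left hne
      apply hη
      rw [Scheme.IdealSheafData.mem_support_iff_of_mem (U := U) hηU, Scheme.mem_zeroLocus_iff]
      intro p hp
      have hC' : C.subschemeι (genericPoint C.subscheme) ∈ C.support := by
        rw [← SetLike.mem_coe, ← C.range_subschemeι]
        exact ⟨_, rfl⟩
      rw [Scheme.IdealSheafData.mem_support_iff_of_mem (U := U) hηU, Scheme.mem_zeroLocus_iff] at hC'
      exact hC' p (hle hp)
    intro U
    rw [← hmul, Scheme.IdealSheafData.ideal_mul, Scheme.IdealSheafData.ideal_mul, Pi.mul_apply, Pi.mul_apply]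
    exact Ideal.mul_mono_left (hQC U)
  · refine le_inf (fun U => ?_) (fun U => ?_) <;> rw [Scheme.IdealSheafData.ideal_mul, Pi.mul_apply]
    · exact Ideal.mul_le_left
    · exact Ideal.mul_le_right

variable {R : Type u} [CommRing R] [IsDomain R] [IsDiscreteValuationRing R]
  {X : Over (Spec (CommRingCat.of R))} [IsSurf X] [Flat X.hom] {n : ℕ} (Γ : Fin n → ArSurf.VertComp R X)
  (hinj : Function.Injective fun i => Set.range ((Γ i).ι.base))
  (hcov : Models.specialFibreSet R X ⊆ ⋃ j, Set.range (Γ j).ι.base)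

include hinj in
/-- The union of distinct curves is their sum. -/
theorem prod_eq_inf (t : Finset (Fin n)) :
    ∏ i ∈ t, (Γ i).ι.ker = t.inf (fun i => (Γ i).ι.ker) ∧ BlowUp.IsEffCartierIdeal (∏ i ∈ t, (Γ i).ι.ker) ∧
      (∏ i ∈ t, (Γ i).ι.ker).radical = ∏ i ∈ t, (Γ i).ι.ker ∧
      ((∏ i ∈ t, (Γ i).ι.ker).support : Set X.left) = ⋃ i ∈ t, Set.range (Γ i).ι.base := by
  classical
  induction t using Finset.induction with
  | empty =>
    simp only [Finset.prod_empty, Finset.inf_empty, Scheme.IdealSheafData.one_eq_top, true_and]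
    refine ⟨isEffCartier_top _, ?_, ?_⟩
    · exact top_le_iff.1 (Scheme.IdealSheafData.le_radical _)
    · rw [Scheme.IdealSheafData.support_top]; simp
  | insert a t ha ih =>
    obtain ⟨ih1, ih2, ih3, ih4⟩ := ih
    haveI : IsIntegral (Γ a).ι.ker.subscheme := inferInstance
    have hη : (Γ a).ι.ker.subschemeι (genericPoint (Γ a).ι.ker.subscheme) ∉ (∏ i ∈ t, (Γ i).ι.ker).support := by
      intro h
      rw [← SetLike.mem_coe, ih4] at h
      obtain ⟨i, hi, hr⟩ := Set.mem_iUnion₂.1 h
      have hgen : (Γ a).ι.ker.subschemeι (genericPoint (Γ a).ι.ker.subscheme) = Models.genPtOf R X (Γ a) := by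
        have h1 := (genericPoint_spec (Γ a).ι.ker.subscheme).image (Γ a).ι.ker.subschemeι.continuous
        rw [Set.image_univ, Scheme.IdealSheafData.range_subschemeι, (Γ a).ι.ker.support.isClosed.closure_eq,
          support_ker] at h1
        have h2 : IsGenericPoint (Models.genPtOf R X (Γ a)) (Set.range (Γ a).ι.base) := closure_gen (Γ a)
        exact h1.eq h2
      rw [hgen, ← support_ker] at hr
      exact gen_notMem (Γ a) (Γ i) (fun he => ha ((hinj he) ▸ hi)) hr
    have hmul := inf_eq_mul_of_integral ih2 hη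
    rw [Finset.prod_insert ha, Finset.inf_insert, ← ih1, hmul]
    refine ⟨rfl, isEffCartier_mul (isEffCartier_ker _) ih2, ?_, ?_⟩
    · rw [← hmul, Scheme.IdealSheafData.radical_inf, ih3, CartierExt.radical_eq_of_isReduced]
    · rw [Scheme.IdealSheafData.support_mul, Closeds.coe_sup, support_ker, ih4, Finset.set_biUnion_insert]

include hinj hcov in
/-- The reduced closed fibre is the sum of its components. -/
theorem redFibreIdeal_eq : Models.redFibreIdeal R X = divOf Γ fun _ => 1 := by
  classical
  obtain ⟨-, -, h3, h4⟩ := prod_eq_inf Γ hinj Finset.univ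
  have h1 : divOf Γ (fun _ => 1) = ∏ i, (Γ i).ι.ker := Finset.prod_congr rfl fun i _ => pow_one _
  rw [h1, ← h3, ← Scheme.IdealSheafData.vanishingIdeal_support, Models.redFibreIdeal]
  refine congrArg _ (Closeds.ext ?_)
  rw [h4]
  simp only [Finset.mem_univ, Set.iUnion_true]
  exact subset_antisymm hcov (Set.iUnion_subset fun i => by rintro _ ⟨c, rfl⟩; exact mem_specialFibre (Γ i) c)

end Groth.Agent.ArInt

namespace Groth.Agent.ArInt

open Groth.Agent

variable {R : Type u} [CommRing R] [IsDomain R] [IsDiscreteValuationRing R]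
  {X : Over (Spec (CommRingCat.of R))} [IsSurf X]

/-- Sections of a quotient as functions on the subscheme, in lengths. -/
theorem lengthH_zero_eq (I : X.left.IdealSheafData) :
    letI : Algebra R Γ(I.subscheme, ⊤) :=
      ((I.subschemeι ≫ X.hom).appTop.hom.comp (Scheme.ΓSpecIso (CommRingCat.of R)).inv.hom).toAlgebra
    Module.length R (Coh.HH X.left (ClSub.quotMod I) 0) = Module.length R Γ(I.subscheme, ⊤) := by
  letI : Algebra R Γ(I.subscheme, ⊤) :=
    ((I.subschemeι ≫ X.hom).appTop.hom.comp (Scheme.ΓSpecIso (CommRingCat.of R)).inv.hom).toAlgebra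
  letI : X.left.Over (Spec (CommRingCat.of R)) := ⟨X.hom⟩
  let Z := I.subscheme
  letI : Z.Over (Spec (CommRingCat.of R)) := ⟨I.subschemeι ≫ X.hom⟩
  obtain ⟨a⟩ := PnCoh.exists_linearEquiv_push R I.subschemeι rfl (M := Coh.structureModule Z)
    QCoh.isQCoh_structureModule 0
  obtain ⟨q⟩ := ExtShX.nonempty_push_iso_quotMod I.subschemeι
  rw [Scheme.IdealSheafData.ker_subschemeι] at q
  let e : Coh.HH Z (Coh.structureModule Z) 0 ≃+ Γ(Z, ⊤) :=
    Sheaf.H.equiv₀ (Coh.toAb (Coh.structureModule Z)) isTerminalTop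
  have he : ∀ (r : Coh.Γtop Z) (x : Coh.HH Z (Coh.structureModule Z) 0),
      e (r • x) = (show Γ(Z, ⊤) from r) * e x := by
    intro r x
    have h := (Sheaf.H.equiv₀_naturality isTerminalTop (Coh.smulAb (Coh.structureModule Z) r) x).symm
    refine (show e (r • x) = _ from h).trans ?_
    show (show Γ(Z, ⊤) from Coh.resTop Z (Opposite.op ⊤) r) * e x = _
    congr 1
    show (Z.presheaf.map (homOfLE le_top).op).hom r = r
    rw [show (homOfLE le_top).op = 𝟙 (Opposite.op (⊤ : Z.Opens)) from rfl, Z.presheaf.map_id]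
    rfl
  let eL : Coh.HH Z (Coh.structureModule Z) 0 ≃ₗ[R] Γ(Z, ⊤) :=
    { e with map_smul' := fun c x => he _ x }
  exact (a.trans (hhEquiv q 0)).symm.length_eq.trans eL.length_eq

/-- A field of functions inside functions of length one has length one. -/
theorem lengthH_zero_eq_one_of_le {A B : X.left.IdealSheafData} (hle : A ≤ B) (hA : IsFieldFinite X A)
    (hB : Models.lengthH R X (ClSub.quotMod B) 0 = 1) : Models.lengthH R X (ClSub.quotMod A) 0 = 1 := by
  unfold Models.lengthH at hB ⊢
  rw [lengthH_zero_eq] at hB ⊢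
  letI : Algebra R Γ(A.subscheme, ⊤) :=
    ((A.subschemeι ≫ X.hom).appTop.hom.comp (Scheme.ΓSpecIso (CommRingCat.of R)).inv.hom).toAlgebra
  letI : Algebra R Γ(B.subscheme, ⊤) :=
    ((B.subschemeι ≫ X.hom).appTop.hom.comp (Scheme.ΓSpecIso (CommRingCat.of R)).inv.hom).toAlgebra
  let j := Scheme.IdealSheafData.inclusion hle
  have hcompR := structureMap_comp j A.subschemeι B.subschemeι (Scheme.IdealSheafData.inclusion_subschemeι _)
  let ja : Γ(A.subscheme, ⊤) →ₐ[R] Γ(B.subscheme, ⊤) :=
    { j.appTop.hom with commutes' := fun r => RingHom.congr_fun hcompR r }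
  haveI : Nontrivial Γ(B.subscheme, ⊤) := not_subsingleton_iff_nontrivial.1 fun h => by
    rw [Module.length_eq_zero_iff.2 h] at hB
    exact zero_ne_one hB
  haveI : Nontrivial Γ(A.subscheme, ⊤) := hA.1.nontrivial
  letI : Field Γ(A.subscheme, ⊤) := hA.1.toField
  have hinj : Function.Injective ja.toLinearMap := ja.toRingHom.injective
  have h1 : Module.length R Γ(A.subscheme, ⊤) ≤ Module.length R Γ(B.subscheme, ⊤) :=
    Module.length_le_of_injective ja.toLinearMap hinj
  have hB' : Module.length R Γ(B.subscheme, ⊤) = 1 := ENat.toNat_eq_iff one_ne_zero |>.1 hB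
  rw [hB'] at h1
  have h0 : Module.length R Γ(A.subscheme, ⊤) ≠ 0 := fun h =>
    not_subsingleton _ (Module.length_eq_zero_iff.1 h)
  rw [le_antisymm h1 (Order.one_le_iff_pos.2 (pos_iff_ne_zero.2 h0))]
  rfl

variable [Flat X.hom] {n : ℕ} (Γ : Fin n → ArSurf.VertComp R X)
  (L : Fin n → X.left.Modules) (hL : ∀ j, ClSub.IsInverseOf (L j) (ClSub.idealMod (Γ j).ι.ker))

include hL in
/-- Below the primitive vector of the fibre some curve meets a vector positively. -/
theorem exists_next (hΓ : Models.IsComponentList R X Γ) (hconnF : _root_.IsConnected (Models.specialFibreSet R X))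
    (hgcd : Models.multGcd R X Γ = 1) (a : Fin n → ℕ) (hle : ∀ i, a i ≤ Models.mult R X (Γ i))
    (ha : ∀ i, 1 ≤ a i) (hne : a ≠ fun i => Models.mult R X (Γ i)) :
    ∃ i, a i < Models.mult R X (Γ i) ∧ 0 < ∑ j, (a j : ℤ) * ArSurf.inter R X (L j) (Γ i) := by
  classical
  let m : Fin n → ℕ := fun i => Models.mult R X (Γ i)
  let S : (Fin n → ℕ) → Fin n → ℤ := fun a i => ∑ j, (a j : ℤ) * ArSurf.inter R X (L j) (Γ i)
  have hrow : ∀ i, S m i = 0 := fun i => (sum_mult_inter Γ hΓ.1 L hL i).2 (cover X Γ hΓ)
  by_contra h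
  push Not at h
  have hS : ∀ i, S a i ≤ 0 := fun i => by
    by_contra hi
    push Not at hi
    exact absurd (h i (lt_of_pos Γ L hL hΓ.1 hle i (hrow i).le hi)) (not_le.2 hi)
  let b : Fin n → ℤ := fun i => (m i : ℤ) - a i
  have hb : ∀ i, S a i = -∑ j, b j * ArSurf.inter R X (L j) (Γ i) := fun i => by
    have := hrow i
    simp only [S, b, sub_mul, Finset.sum_sub_distrib] at this ⊢
    omega
  have hQ : ∑ i, ∑ j, b i * b j * ArSurf.inter R X (L j) (Γ i) = 0 := by
    refine le_antisymm (form_nonpos Γ L hL hΓ.1 b).1 (Finset.sum_nonneg fun i _ => ?_)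
    rw [show ∑ j, b i * b j * ArSurf.inter R X (L j) (Γ i) = b i * (∑ j, b j * ArSurf.inter R X (L j) (Γ i)) by
      rw [Finset.mul_sum]; exact Finset.sum_congr rfl fun j _ => by ring]
    refine mul_nonneg ?_ ?_
    · have : a i ≤ m i := hle i; simp only [b]; omega
    · have := hS i; rw [hb] at this; omega
  obtain ⟨c, hc⟩ := exists_mult_of_form_eq_zero Γ L hL hΓ.1 (cover X Γ hΓ) hconnF b hQ
  obtain ⟨i₀, hi₀⟩ : ∃ i, a i ≠ m i := Function.ne_iff.1 hne
  have hq : ∀ i, (a i : ℚ) = (1 - c) * m i := fun i => by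
    have := hc i
    push_cast [b] at this
    linarith
  have hcross : ∀ i, a i * m i₀ = a i₀ * m i := fun i => by
    exact_mod_cast (show (a i : ℚ) * m i₀ = a i₀ * m i by rw [hq i, hq i₀]; ring)
  have hdvd : m i₀ ∣ a i₀ := by
    have hall : m i₀ ∣ Finset.univ.gcd fun i => a i₀ * m i :=
      Finset.dvd_gcd fun i _ => ⟨a i, by rw [← hcross i]; ring⟩
    rw [Finset.gcd_mul_left, show Finset.univ.gcd m = 1 from hgcd, mul_one] at hall
    simpa using hall
  have h1 := Nat.le_of_dvd (ha i₀) hdvd
  have h2 : a i₀ ≤ m i₀ := hle i₀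
  omega

include hL in
/-- The Euler characteristic falls from the reduced fibre to the fibre. -/
theorem chi_le (hΓ : Models.IsComponentList R X Γ) (hconnF : _root_.IsConnected (Models.specialFibreSet R X))
    (hgcd : Models.multGcd R X Γ = 1)
    (hmin : ∀ i, ¬ (Models.h1 R X (Γ i) = 0 ∧
      ArSurf.inter R X (L i) (Γ i) = -(Models.wdeg R X (Γ i) : ℤ))) :
    chiM X (ClSub.quotMod (divOf Γ fun i => Models.mult R X (Γ i))) ≤
        chiM X (ClSub.quotMod (divOf Γ fun _ => 1)) ∧
      ((∃ i, 2 ≤ Models.mult R X (Γ i)) →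
        chiM X (ClSub.quotMod (divOf Γ fun i => Models.mult R X (Γ i))) <
          chiM X (ClSub.quotMod (divOf Γ fun _ => 1))) := by
  classical
  let m : Fin n → ℕ := fun i => Models.mult R X (Γ i)
  obtain ⟨dd, G, -, hGs, hFib⟩ := exists_split_curves Γ (fibreIdeal X) (isEffCartier_fibreIdeal X)
  have hm : ∀ i, 1 ≤ m i := fun i => by
    show 1 ≤ Models.mult R X (Γ i)
    rw [(mult_eq Γ hGs hFib hΓ.1 i).1]; exact (mult_eq Γ hGs hFib hΓ.1 i).2
  let c : (Fin n → ℕ) → ℤ := fun a => chiM X (ClSub.quotMod (divOf Γ a))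
  suffices key : ∀ N, ∀ a : Fin n → ℕ, (∀ i, a i ≤ m i) → (∀ i, 1 ≤ a i) → ∑ i, (m i - a i) ≤ N →
      c m ≤ c a ∧ (a ≠ m → c m < c a) by
    obtain ⟨h1, h2⟩ := key _ (fun _ => 1) hm (fun _ => le_rfl) le_rfl
    exact ⟨h1, fun ⟨i, hi⟩ => h2 fun he => by
      have h' : (1 : ℕ) = Models.mult R X (Γ i) := congrFun he i
      omega⟩
  intro N
  induction N with
  | zero =>
    intro a hle _ hsum
    have : a = m := funext fun i => le_antisymm (hle i) (Nat.sub_eq_zero_iff_le.1
      (Finset.sum_eq_zero_iff.1 (Nat.le_zero.1 hsum) i (Finset.mem_univ i)))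
    exact ⟨this ▸ le_rfl, fun h => absurd this h⟩
  | succ N ih =>
    intro a hle ha hsum
    by_cases hne : a = m
    · exact ⟨hne ▸ le_rfl, fun h => absurd hne h⟩
    obtain ⟨i, hlt, hpos⟩ := exists_next Γ L hL hΓ hconnF hgcd a hle ha hne
    replace hlt : a i < m i := hlt
    let a' := a + Pi.single i 1
    have hle' : ∀ j, a' j ≤ m j := fun j => by
      by_cases hj : j = i
      · subst hj; simp only [a', Pi.add_apply, Pi.single_eq_same]; omega
      · simp only [a', Pi.add_apply, Pi.single_eq_of_ne hj, add_zero]; exact hle j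
    have hsum' : ∑ j, (m j - a' j) ≤ N := by
      have hsucc : ∑ j, (m j - a j) = ∑ j, (m j - a' j) + 1 := by
        rw [← Finset.add_sum_erase _ _ (Finset.mem_univ i), ← Finset.add_sum_erase _ _ (Finset.mem_univ i),
          Finset.sum_congr rfl fun j hj => show m j - a j = m j - a' j by
            simp only [a', Pi.add_apply, Pi.single_eq_of_ne (Finset.ne_of_mem_erase hj), add_zero]]
        simp only [a', Pi.add_apply, Pi.single_eq_same]
        omega
      omega
    obtain ⟨ih1, ih2⟩ := ih a' hle' (fun j => le_add_right (ha j)) hsum'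
    -- one step
    obtain ⟨q, hq⟩ : (Models.wdeg R X (Γ i) : ℤ) ∣ ∑ j, (a j : ℤ) * ArSurf.inter R X (L j) (Γ i) :=
      Finset.dvd_sum fun j _ => Dvd.dvd.mul_left (wdeg_dvd_inter (Γ i)
        (isInvertible_of_inverse (Big.isInvertible_ideal (isEffCartier_ker (Γ j))) (hL j))) _
    have hw := (wdeg_pos_dvd (Γ i)).1
    have hq1 : 1 ≤ q := by
      by_contra hq0
      push Not at hq0
      nlinarith
    have hstep : c a' = c a + χ₀ Γ i - ∑ j, (a j : ℤ) * ArSurf.inter R X (L j) (Γ i) := chi_add_single Γ L hL a i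
    rw [hq, χ₀] at hstep
    have hge : (Models.wdeg R X (Γ i) : ℤ) ≤ (Models.wdeg R X (Γ i) : ℤ) * q := le_mul_of_one_le_right (by omega) hq1
    refine ⟨by omega, fun _ => ?_⟩
    by_cases hlast : a' = m
    · by_contra hcon
      push Not at hcon
      have h1 : Models.h1 R X (Γ i) = 0 := by rw [hlast] at hstep; omega
      have hS : (Models.wdeg R X (Γ i) : ℤ) * q = Models.wdeg R X (Γ i) := by rw [hlast] at hstep; omega
      refine hmin i ⟨h1, ?_⟩
      have hrow := (sum_mult_inter Γ hΓ.1 L hL i).2 (cover X Γ hΓ)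
      have hsplit : ∑ j, (m j : ℤ) * ArSurf.inter R X (L j) (Γ i) =
          ∑ j, (a j : ℤ) * ArSurf.inter R X (L j) (Γ i) + ArSurf.inter R X (L i) (Γ i) := by
        have hmj : ∀ j, (m j : ℤ) = (a j : ℤ) + if j = i then 1 else 0 := fun j => by
          rw [← hlast]
          by_cases hj : j = i
          · subst hj; simp [a']
          · simp [a', Pi.single_eq_of_ne hj, hj]
        simp only [hmj, add_mul, Finset.sum_add_distrib, ite_mul, one_mul, zero_mul, Finset.sum_ite_eq',
          Finset.mem_univ, if_true]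
      rw [hrow, hq, hS] at hsplit
      omega
    · have := ih2 hlast
      omega

end Groth.Agent.ArInt

namespace Groth.Agent.ArInt

/-- The closed fibre is contained in no smaller ideal than the reduced one. -/
theorem fibreIdeal_le_red {R : Type u} [CommRing R] [IsDomain R] [IsDiscreteValuationRing R]
    (X : Over (Spec (CommRingCat.of R))) : fibreIdeal X ≤ Models.redFibreIdeal R X := by
  rw [Models.redFibreIdeal, ← Scheme.IdealSheafData.le_support_iff_le_vanishingIdeal]
  intro z hz
  rw [← SetLike.mem_coe, support_fibreIdeal]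
  exact hz

/-- The closed fibre of a model is connected. -/
theorem isConnected_fibre {R : Type u} [CommRing R] [IsDomain R] [IsDiscreteValuationRing R]
    {C X : Scheme.{u}} {f : C ⟶ Spec (CommRingCat.of (FractionRing R))} {p : X ⟶ Spec (CommRingCat.of R)}
    (hC : Curve.IsSmoothProperCurve (FractionRing R) C f) (hH0 : IsIso f.appTop)
    (hX : Models.IsRegularProperModel R X p C f) :
    _root_.IsConnected (Models.specialFibreSet R (Over.mk p)) := by
  haveI : ConnectedSpace ↥(Limits.pullback p (Spec.map (CommRingCat.ofHom (algebraMap R (IsLocalRing.ResidueField R))))) :=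
    Groth.Agent.S2209.result R C X f p hC hH0 hX
  have h : Models.specialFibreSet R (Over.mk p) = Set.range (Limits.pullback.fst p
      (Spec.map (CommRingCat.ofHom (algebraMap R (IsLocalRing.ResidueField R))))) := by
    rw [Scheme.Pullback.range_fst]
    refine congrArg (p ⁻¹' ·) (Set.ext fun t => ⟨fun ht => ⟨IsLocalRing.closedPoint _, ?_⟩, ?_⟩)
    · rw [Set.mem_singleton_iff] at ht
      rw [ht]
      exact IsLocalRing.comap_closedPoint (IsLocalRing.residue R)
    · rintro ⟨w, rfl⟩
      rw [Set.mem_singleton_iff, Subsingleton.elim w (IsLocalRing.closedPoint (IsLocalRing.ResidueField R))]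
      exact IsLocalRing.comap_closedPoint (IsLocalRing.residue R)
  rw [h]
  exact isConnected_range (Limits.pullback.fst p
      (Spec.map (CommRingCat.ofHom (algebraMap R (IsLocalRing.ResidueField R))))).continuous

end Groth.Agent.ArInt
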