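import Groth.Agent.ArInt.PicDeg
import Groth.Agent.ArInt.RedFibre
import Groth.Agent.Big.Comap

/-!
# Vertical twists
-/

set_option autoImplicit false
set_option linter.style.haveILetI false
set_option linter.unusedSectionVars false
set_option backward.isDefEq.respectTransparency false
set_option backward.isDefEq.respectTransparency.types false
set_option maxHeartbeats 1000000

universe u

open CategoryTheory CategoryTheory.Limits AlgebraicGeometry TopologicalSpace
open Groth.Agent.H23.PicMul

noncomputable section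

namespace Groth.Agent.ArInt

open Groth.Agent

variable {R : Type u} [CommRing R] [IsDomain R] [IsDiscreteValuationRing R]
  {X : Over (Spec (CommRingCat.of R))} [IsSurf X] [Flat X.hom] {n : ℕ} (Γ : Fin n → ArSurf.VertComp R X)
  (L : Fin n → X.left.Modules) (hL : ∀ j, ClSub.IsInverseOf (L j) (ClSub.idealMod (Γ j).ι.ker))
  (hinj : Function.Injective fun i => Set.range ((Γ i).ι.base))
  (hcov : Models.specialFibreSet R X ⊆ ⋃ j, Set.range (Γ j).ι.base)

/-- The class of the vertical divisor with the given multiplicities. -/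
def twistCl (e : Fin n → ℕ) : PicF.Cl X.left := ∏ j, PicF.cl (L j) ^ e j

theorem twistCl_add (e e' : Fin n → ℕ) : twistCl L (e + e') = twistCl L e * twistCl L e' := by
  simp only [twistCl, Pi.add_apply, pow_add, Finset.prod_mul_distrib]

theorem twistCl_smul (q : ℕ) (e : Fin n → ℕ) : twistCl L (q • e) = twistCl L e ^ q := by
  simp only [twistCl, Pi.smul_apply, smul_eq_mul, ← Finset.prod_pow]
  exact Finset.prod_congr rfl fun j _ => by rw [← pow_mul, mul_comm]

theorem twistCl_zero : twistCl L 0 = 1 := by simp [twistCl]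

theorem cl_twist (e : Fin n → ℕ) : PicF.cl (FGA.multiTwist L e) = twistCl L e := cl_multiTwist L e

include hL in
theorem twistCl_mul_divOf (e : Fin n → ℕ) :
    twistCl L e * PicF.cl (ClSub.idealMod (divOf Γ e)) = 1 := by
  rw [cl_divOf Γ, twistCl, ← Finset.prod_mul_distrib]
  refine Finset.prod_eq_one fun j _ => ?_
  rw [← mul_pow, show PicF.cl (L j) * PicF.cl (ClSub.idealMod (Γ j).ι.ker) = 1 by
    rw [← cl_tensor, one_def]; exact cl_eq_iff.2 (hL j), one_pow]

include hL in
theorem twistCl_cancel {A B : PicF.Cl X.left} (e : Fin n → ℕ) (h : A * twistCl L e = B * twistCl L e) : A = B := by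
  have := congrArg (· * PicF.cl (ClSub.idealMod (divOf Γ e))) h
  simpa [mul_assoc, twistCl_mul_divOf Γ L hL e] using this

include hL in
theorem isInvertible_multiTwist (e : Fin n → ℕ) : PicF.IsInvertible (FGA.multiTwist L e) :=
  isInvertible_of_inverse (Big.isInvertible_ideal (isEffCartier_divOf Γ e))
    (cl_eq_iff.1 (by rw [cl_tensor, cl_twist, twistCl_mul_divOf Γ L hL e, one_def]))

include hinj in
theorem mult_pos (i : Fin n) : 1 ≤ Models.mult R X (Γ i) := by
  obtain ⟨d, G, -, hG, hF⟩ := exists_split_curves Γ (fibreIdeal X) (isEffCartier_fibreIdeal X)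
  rw [(mult_eq Γ hG hF hinj i).1]
  exact (mult_eq Γ hG hF hinj i).2

include hL in
/-- Degrees of a twist. -/
theorem inter_twist {M : X.left.Modules} (hM : PicF.IsInvertible M) (e : Fin n → ℕ) (Γ₀ : ArSurf.VertComp R X) :
    ArSurf.inter R X (CohB1.tensorMod M (FGA.multiTwist L e)) Γ₀ =
      ArSurf.inter R X M Γ₀ + ∑ j, (e j : ℤ) * ArSurf.inter R X (L j) Γ₀ := by
  rw [inter_tensor Γ₀ hM (isInvertible_multiTwist Γ L hL e),
    inter_of_cl_mul Γ L hL e (M := FGA.multiTwist L e) (by rw [cl_twist]; exact twistCl_mul_divOf Γ L hL e) Γ₀]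

variable {C : Scheme.{u}} (g : C ⟶ X.left) (f : C ⟶ Spec (CommRingCat.of (FractionRing R)))
  (hg : IsPullback g f X.hom (Spec.map (CommRingCat.ofHom (algebraMap R (FractionRing R)))))

include hg in
/-- The ideal of a vertical component is trivial on the generic fibre. -/
theorem pullCl_ker (Γ₀ : ArSurf.VertComp R X) : PicF.pullCl g (PicF.cl (ClSub.idealMod Γ₀.ι.ker)) = 1 := by
  have hempty : Γ₀.ι.ker.comap g = ⊤ := by
    rw [← Scheme.IdealSheafData.support_eq_bot_iff]
    refine TopologicalSpace.Closeds.ext ?_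
    rw [Scheme.IdealSheafData.support_comap]
    refine Set.eq_empty_iff_forall_notMem.2 fun z hz => ?_
    have hz' : g z ∈ (Γ₀.ι.ker.support : Set X.left) := hz
    rw [support_ker] at hz'
    obtain ⟨c, hc⟩ := hz'
    have h1 : X.hom (g z) = IsLocalRing.closedPoint R := by
      have := mem_specialFibre Γ₀ c
      rw [hc] at this
      exact this
    rw [← Scheme.Hom.comp_apply, hg.w, Scheme.Hom.comp_apply] at h1
    have h2 := congrArg PrimeSpectrum.asIdeal h1
    refine IsDiscreteValuationRing.not_a_field R (h2.symm.trans ?_)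
    show Ideal.comap (algebraMap R (FractionRing R)) _ = ⊥
    rw [(Ideal.eq_bot_or_top (PrimeSpectrum.asIdeal (f z))).resolve_right (PrimeSpectrum.isPrime _).ne_top,
      ← RingHom.ker_eq_comap_bot,
      (RingHom.injective_iff_ker_eq_bot _).1 (IsFractionRing.injective R (FractionRing R))]
  show PicF.cl ((Scheme.Modules.pullback g).obj _) = 1
  rw [Big.cl_idealMod_comap g (I := Γ₀.ι.ker) (isEffCartier_ker _) (by rw [hempty]; exact isEffCartier_top _),
    hempty, cl_idealMod_top]

include hL hg in
/-- A twist is trivial on the generic fibre. -/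
theorem pullCl_twistCl (e : Fin n → ℕ) : PicF.pullCl g (twistCl L e) = 1 := by
  classical
  have hgL : ∀ j, PicF.pullCl g (PicF.cl (L j)) = 1 := fun j => by
    have := congrArg (PicF.pullCl g) (show PicF.cl (L j) * PicF.cl (ClSub.idealMod (Γ j).ι.ker) = 1 by
      rw [← cl_tensor, one_def]; exact cl_eq_iff.2 (hL j))
    rwa [pullCl_mul, pullCl_one, pullCl_ker g f hg (Γ j), mul_one] at this
  unfold twistCl
  induction (Finset.univ : Finset (Fin n)) using Finset.induction with
  | empty => rw [Finset.prod_empty, pullCl_one]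
  | insert j t hj ih => rw [Finset.prod_insert hj, pullCl_mul, pullCl_pow, hgL j, one_pow, one_mul, ih]

include hL hcov hg in
/-- Two extensions of the same module differ by a vertical twist. -/
theorem exists_twist_of_iso {M M' : X.left.Modules} (hM : PicF.IsInvertible M) (hM' : PicF.IsInvertible M')
    (h : PicF.pullCl g (PicF.cl M) = PicF.pullCl g (PicF.cl M')) :
    ∃ e : Fin n → ℕ, PicF.cl M' = PicF.cl M * twistCl L e := by
  obtain ⟨Mi, hMi, hinv⟩ := H23.PicInv.exists_inverse hM
  have h1 : PicF.cl M * PicF.cl Mi = 1 := by rw [← cl_tensor, one_def]; exact cl_eq_iff.2 hinv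
  obtain ⟨e, he⟩ := exists_divOf_of_trivial Γ hcov g f hg
    (M := CohB1.tensorMod M' Mi) (H23.PicMul.isInvertible_tensor hM' hMi) (cl_eq_iff.1 (by
      show PicF.pullCl g (PicF.cl (CohB1.tensorMod M' Mi)) = _
      rw [cl_tensor, pullCl_mul, ← h, ← pullCl_mul, h1, pullCl_one, one_def]))
  rw [cl_tensor] at he
  refine ⟨e, ?_⟩
  calc PicF.cl M' = PicF.cl M' * (twistCl L e * PicF.cl (ClSub.idealMod (divOf Γ e))) * (PicF.cl M * PicF.cl Mi) := by
        rw [twistCl_mul_divOf Γ L hL e, h1, mul_one, mul_one]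
    _ = PicF.cl M * twistCl L e * (PicF.cl M' * PicF.cl Mi * PicF.cl (ClSub.idealMod (divOf Γ e))) := by ac_rfl
    _ = PicF.cl M * twistCl L e := by rw [he, mul_one]

end Groth.Agent.ArInt
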