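import Groth.Agent.ArInt.ContractExist
import Groth.Agent.ArInt.Twist
import Groth.Agent.AVHomLib.CurveExist
import Groth.Agent.AmpleVan.Uniform
import Groth.Agent.AmpleDev.Nef
import Groth.Agent.Nakai.Gen
import Groth.Agent.ExtShX.Divisor
import Groth.Agent.Big.Values

/-!
# Invertible modules contracting curves without degree zero line bundles
-/

set_option autoImplicit false
set_option linter.style.haveILetI false
set_option linter.unusedSectionVars false
set_option backward.isDefEq.respectTransparency false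
set_option backward.isDefEq.respectTransparency.types false
set_option maxHeartbeats 1000000

universe u

open CategoryTheory CategoryTheory.Limits AlgebraicGeometry TopologicalSpace
open Groth.Agent.H23.PicMul

noncomputable section

namespace Groth.Agent.ArInt

open Groth.Agent

/-- A negative definite matrix with nonnegative entries off the diagonal balances any positive vector. -/
theorem exists_balanced {r : ℕ} {M : Matrix (Fin r) (Fin r) ℤ} (hoff : ∀ i j, i ≠ j → 0 ≤ M i j)
    (hneg : ∀ a : Fin r → ℤ, a ≠ 0 → ∑ i, ∑ j, a i * a j * M i j < 0) (b : Fin r → ℤ) (hb : ∀ i, 0 < b i) :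
    ∃ m : ℕ, 0 < m ∧ ∃ a : Fin r → ℕ, (∀ i, 0 < a i) ∧ ∀ i, (m : ℤ) * b i + ∑ j, (a j : ℤ) * M i j = 0 := by
  classical
  have hdet : M.det ≠ 0 := fun h => by
    obtain ⟨v, hv, hv0⟩ := Matrix.exists_mulVec_eq_zero_iff.2 h
    have h1 := hneg v hv
    have h2 : ∑ i, ∑ j, v i * v j * M i j = ∑ i, v i * (M.mulVec v) i := Finset.sum_congr rfl fun i _ => by
      simp only [Matrix.mulVec, dotProduct, Finset.mul_sum]
      exact Finset.sum_congr rfl fun j _ => by ring
    rw [h2, hv0] at h1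
    simp at h1
  let a : Fin r → ℤ := (-(M.det.sign)) • M.adjugate.mulVec b
  have ha : ∀ i, ∑ j, a j * M i j = -((M.det.natAbs : ℤ) * b i) := fun i => by
    have h : (M.mulVec a) i = -((M.det.natAbs : ℤ) * b i) := by
      show (M.mulVec ((-(M.det.sign)) • M.adjugate.mulVec b)) i = _
      rw [Matrix.mulVec_smul, Matrix.mulVec_mulVec, Matrix.mul_adjugate, Matrix.smul_mulVec, Matrix.one_mulVec,
        Pi.smul_apply, Pi.smul_apply, smul_eq_mul, smul_eq_mul, neg_mul, ← mul_assoc, Int.sign_mul_self_eq_natAbs]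
    rw [← h]
    exact Finset.sum_congr rfl fun j _ => mul_comm _ _
  let x : Fin r → ℤ := fun i => min (a i) 0
  have hm : (0 : ℤ) < M.det.natAbs := by exact_mod_cast Int.natAbs_pos.2 hdet
  have hge : ∀ i, 0 ≤ a i := fun i => by
    by_contra hlt
    push Not at hlt
    have hx : x ≠ 0 := fun h => by
      have := congrFun h i
      simp only [x, Pi.zero_apply, min_eq_left hlt.le] at this
      omega
    have h1 : 0 ≤ ∑ p, ∑ q, x p * a q * M p q := Finset.sum_nonneg fun p _ => by
      rw [show ∑ q, x p * a q * M p q = x p * ∑ q, a q * M p q by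
        rw [Finset.mul_sum]; exact Finset.sum_congr rfl fun q _ => by ring, ha p]
      exact mul_nonneg_of_nonpos_of_nonpos (min_le_right _ _) (by nlinarith [hb p])
    have h2 : ∑ p, ∑ q, x p * a q * M p q ≤ ∑ p, ∑ q, x p * x q * M p q :=
      Finset.sum_le_sum fun p _ => Finset.sum_le_sum fun q _ => by
        by_cases hpq : p = q
        · subst hpq
          by_cases hp : a p ≤ 0
          · simp only [x, min_eq_left hp, le_refl]
          · simp only [x, min_eq_right (not_le.1 hp).le]; simp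
        · have h3 : x q ≤ a q := min_le_left _ _
          have h4 : x p ≤ 0 := min_le_right _ _
          nlinarith [mul_nonneg (mul_nonneg (neg_nonneg.2 h4) (sub_nonneg.2 h3)) (hoff p q hpq)]
    linarith [hneg x hx]
  have hpos : ∀ i, 0 < a i := fun i => by
    refine lt_of_le_of_ne (hge i) fun h0 => ?_
    have h1 : 0 ≤ ∑ j, a j * M i j := Finset.sum_nonneg fun j _ => by
      by_cases hij : i = j
      · subst hij; rw [← h0, zero_mul]
      · exact mul_nonneg (hge j) (hoff i j hij)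
    rw [ha i] at h1
    nlinarith [hb i]
  refine ⟨M.det.natAbs, Int.natAbs_pos.2 hdet, fun i => (a i).toNat, fun i => by simpa using hpos i, fun i => ?_⟩
  rw [show ∑ j, (((a j).toNat : ℕ) : ℤ) * M i j = ∑ j, a j * M i j from
    Finset.sum_congr rfl fun j _ => by rw [Int.toNat_of_nonneg (hge j)], ha i]
  ring

/-- Loci as in the two developments agree. -/
theorem locus_eq {Y : Scheme.{u}} {L : Y.Modules} (t : Γ(L, ⊤)) :
    H23.TrivBasic.locus t = AmpleX.locus t := by
  show CohB1.genLocus L (InvX.ofSect t) = _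
  rw [AmpleX.genLocus_eq_locus, InvX.one_ofSect]

variable {R : Type u} [CommRing R] [IsDomain R] [IsDiscreteValuationRing R]
  {X : Over (Spec (CommRingCat.of R))} [IsSurf X] [Flat X.hom] {r : ℕ} (Γ : Fin r → ArSurf.VertComp R X)

theorem support_prod_ker (e : Fin r → ℕ) (he : ∀ j, 0 < e j) (s : Finset (Fin r)) :
    ((∏ j ∈ s, (Γ j).ι.ker ^ e j).support : Set X.left) = ⋃ j ∈ s, Set.range (Γ j).ι.base := by
  classical
  induction s using Finset.induction with
  | empty => simp [Scheme.IdealSheafData.one_eq_top]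
  | insert j t hj ih =>
    rw [Finset.prod_insert hj, Scheme.IdealSheafData.support_mul, Closeds.coe_sup, ih,
      Scheme.IdealSheafData.support_pow _ _ (he j).ne', support_ker, Finset.set_biUnion_insert]

theorem support_divOf (e : Fin r → ℕ) (he : ∀ j, 0 < e j) :
    ((divOf Γ e).support : Set X.left) = ⋃ j, Set.range (Γ j).ι.base := by
  rw [divOf, support_prod_ker Γ e he]
  simp

/-- A section generating along the curves, from vanishing and triviality on the divisor. -/
theorem exists_section_generating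
    (hpic : ∀ (Z : Scheme.{u}) (z : Z ⟶ X.left) [IsClosedImmersion z], BlowUp.IsEffCartierIdeal z.ker →
      Nonempty Z → Set.range z.base ⊆ (⋃ i, Set.range (Γ i).ι.base) →
      ∀ N : Z.Modules, PicF.IsInvertible N →
        (∀ (i : Fin r) (g : (Γ i).curve.left ⟶ Z), g ≫ z = (Γ i).ι →
          ArSurf.curveDeg (IsLocalRing.ResidueField R) (Γ i).curve.left ((Scheme.Modules.pullback g).obj N) = 0) →
        Nonempty (N ≅ Coh.structureModule Z))
    (e : Fin r → ℕ) (he : ∀ j, 0 < e j) {N A : X.left.Modules} (hN : PicF.IsInvertible N)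
    (hA : PicF.cl N * PicF.cl (ClSub.idealMod (divOf Γ e)) = PicF.cl A)
    (hN0 : ∀ i, ArSurf.inter R X N (Γ i) = 0) (hvan : Subsingleton (Coh.HH X.left A 1)) :
    ∃ t : Γ(N, ⊤), ∀ i c, (Γ i).ι c ∈ AmpleX.locus t := by
  rcases Nat.eq_zero_or_pos r with rfl | hr
  · exact ⟨0, fun i => i.elim0⟩
  let D := divOf Γ e
  let j := D.subschemeι
  have hD : BlowUp.IsEffCartierIdeal D := isEffCartier_divOf Γ e
  have hrange : Set.range j.base = ⋃ i, Set.range (Γ i).ι.base := by
    rw [← support_divOf Γ e he]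
    exact Scheme.IdealSheafData.range_subschemeι D
  haveI : Nonempty D.subscheme := by
    obtain ⟨z, hz⟩ : (Γ ⟨0, hr⟩).ι (genericPoint _) ∈ Set.range j.base := by
      rw [hrange]; exact Set.mem_iUnion.2 ⟨_, _, rfl⟩
    exact ⟨z⟩
  let G := (Scheme.Modules.pullback j).obj N
  have hG : PicF.IsInvertible G := PicClLib.isInvertible_pullback j hN
  obtain ⟨φ⟩ := hpic D.subscheme j (by rw [D.ker_subschemeι]; exact hD) inferInstance hrange.le G hG fun i g hg => by
    rw [← hN0 i, ← sub_eq_zero]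
    have e1 : (Scheme.Modules.pullback g).obj G ≅ (Scheme.Modules.pullback (Γ i).ι).obj N :=
      (Scheme.Modules.pullbackComp g j).app N ≪≫ (Scheme.Modules.pullbackCongr hg).app N
    unfold ArSurf.inter ArSurf.curveDeg
    rw [JacTangent.eulerCharLE_iso e1 1, sub_self]
  haveI : (AmpleVan.tw N).IsEquivalence := AmpleVan.isEquivalence_tw hN
  have hS := (Big.shortExact_ideal D).map_of_exact (AmpleVan.tw N)
  obtain ⟨ψ⟩ : Nonempty ((AmpleVan.tw N).obj (ClSub.idealMod D) ≅ A) := cl_eq_iff.1 (by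
    show PicF.cl (CohB1.tensorMod _ _) = _
    rw [cl_tensor, mul_comm, hA])
  have hsurj := QCoh.app_top_surjective_of_HH_one hS (AmpleVan.subsingleton_of_iso ψ.symm 1 hvan)
  obtain ⟨α⟩ := AmpleDev.push_tensor_iso j hN (Coh.structureModule D.subscheme)
  obtain ⟨β⟩ : Nonempty (CohB1.tensorMod (Coh.structureModule D.subscheme) G ≅ Coh.structureModule D.subscheme) :=
    cl_eq_iff.1 (by rw [cl_tensor, cl_eq_iff.2 ⟨φ⟩, ← H23.PicMul.one_def, mul_one])
  obtain ⟨γ⟩ : Nonempty (N ≅ (AmpleVan.tw N).obj (Coh.structureModule X.left)) := cl_eq_iff.1 (by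
    show _ = PicF.cl (CohB1.tensorMod _ _)
    rw [cl_tensor, ← H23.PicMul.one_def, one_mul])
  let ω := α ≪≫ (Coh.push j).mapIso β
  let π : N ⟶ (Coh.push j).obj (Coh.structureModule D.subscheme) :=
    γ.hom ≫ (AmpleVan.tw N).map (ClSub.toSubscheme D) ≫ ω.hom
  obtain ⟨v, hv⟩ := hsurj (ω.inv.app ⊤ (show Γ((Coh.push j).obj (Coh.structureModule D.subscheme), ⊤) from
    (1 : Γ(D.subscheme, ⊤))))
  let t : Γ(N, ⊤) := γ.inv.app ⊤ v
  refine ⟨t, fun i c => ?_⟩
  obtain ⟨z, hz⟩ : (Γ i).ι c ∈ Set.range j.base := by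
    rw [hrange]; exact Set.mem_iUnion.2 ⟨i, c, rfl⟩
  have hπt : π.app ⊤ t = (show Γ((Coh.push j).obj (Coh.structureModule D.subscheme), ⊤) from
      (1 : Γ(D.subscheme, ⊤))) := by
    show (γ.hom ≫ (AmpleVan.tw N).map (ClSub.toSubscheme D) ≫ ω.hom).app ⊤ (γ.inv.app ⊤ v) = _
    have h1 : ∀ {P Q : X.left.Modules} (f : P ≅ Q) (y : Γ(Q, ⊤)), f.hom.app ⊤ (f.inv.app ⊤ y) = y := fun f y => by
      show (f.inv ≫ f.hom).app ⊤ y = _
      rw [f.inv_hom_id]; rfl
    show ω.hom.app ⊤ (((AmpleVan.tw N).map (ClSub.toSubscheme D)).app ⊤ (γ.hom.app ⊤ (γ.inv.app ⊤ v))) = _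
    rw [h1 γ, show ((AmpleVan.tw N).map (ClSub.toSubscheme D)).app ⊤ v = _ from hv, h1 ω]
  rw [← hz]
  refine Nakai.mem_locus_of_map hN j π t ?_
  rw [hπt]
  exact AmpleX.mem_locus.2 ⟨⊤, le_rfl, trivial, by rw [AModX.res_self]; exact InvX.isFrame_one ⊤⟩

omit [IsSurf X] [Flat X.hom] in
theorem cl_pullback_tensorPow {Y Z : Scheme.{u}} (f : Y ⟶ Z) (H : Z.Modules) (d : ℕ) :
    PicF.cl ((Scheme.Modules.pullback f).obj (CohB1.tensorPow H d)) = PicF.pullCl f (PicF.cl H) ^ d := by
  show PicF.pullCl f (PicF.cl _) = _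
  rw [cl_tensorPow, pullCl_pow]

/-- An ample module has positive degree on every vertical curve. -/
theorem inter_pos_of_ample {H : X.left.Modules} (hH : CohB1.IsAmple H) (Γ₀ : ArSurf.VertComp R X) :
    0 < ArSurf.inter R X H Γ₀ := by
  rw [inter_eq_deg Γ₀ hH.1]
  haveI : CompactSpace Γ₀.curve.left := QuasiCompact.compactSpace_of_compactSpace Γ₀.curve.hom
  exact S18840.deg_pos_of_ample _ Γ₀.dim_eq
    (AmpleVan.isAmple_pullback_of_isEmbedding Γ₀.ι Γ₀.ι.isClosedEmbedding.isEmbedding hH)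

theorem inter_tensorPow {H : X.left.Modules} (hH : PicF.IsInvertible H) (Γ₀ : ArSurf.VertComp R X) :
    ∀ d : ℕ, ArSurf.inter R X (CohB1.tensorPow H d) Γ₀ = (d : ℤ) * ArSurf.inter R X H Γ₀
  | 0 => by
    rw [inter_congr Γ₀ (InvX.isInvertible_tensorPow hH 0) CurveDeg.isInvertible_structureModule
      (by rw [cl_tensorPow, pow_zero, H23.PicMul.one_def]), inter_structureModule]
    simp
  | d + 1 => by
    rw [inter_congr Γ₀ (InvX.isInvertible_tensorPow hH (d + 1))
      (H23.PicMul.isInvertible_tensor (InvX.isInvertible_tensorPow hH d) hH)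
      (by rw [cl_tensor, cl_tensorPow, cl_tensorPow, pow_succ]),
      inter_tensor Γ₀ (InvX.isInvertible_tensorPow hH d) hH, inter_tensorPow hH Γ₀ d]
    push_cast
    ring

/-- The generic fibre has a point which is not generic. -/
theorem exists_horizontal : ∃ P : X.left, X.hom P ≠ IsLocalRing.closedPoint R ∧ P ≠ genericPoint X.left := by
  by_contra hcon
  push Not at hcon
  haveI : IsLocallyNoetherian X.left := inferInstance
  have hk : (2 : WithBot ℕ∞) ≤ Order.krullDim X.left :=
    ((Order.krullDim_eq_of_orderIso (irreducibleSetEquivPoints (α := X.left))).symm.trans IsSurf.dim_eq).ge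
  obtain ⟨s, hs⟩ : ∃ s : LTSeries X.left, 2 ≤ s.length := by
    by_contra hc
    push Not at hc
    have : Order.krullDim X.left ≤ (1 : ℕ) := iSup_le fun s => by
      have := hc s
      exact_mod_cast Nat.le_of_lt_succ this
    exact absurd (hk.trans this) (by norm_num)
  let z : ℕ → X.left := fun i => s.toFun ⟨min i s.length, by omega⟩
  have h01 : z 0 < z 1 := s.strictMono (Fin.mk_lt_mk.2 (by omega))
  have h12 : z 1 < z 2 := s.strictMono (Fin.mk_lt_mk.2 (by omega))
  let w := z 0
  let O := X.left.presheaf.stalk w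
  haveI : IsNoetherianRing O := inferInstance
  have hmem : ∀ y : X.left, y ⤳ w → y ∈ Set.range (X.left.fromSpecStalk w) := fun y hy => by
    rw [Scheme.range_fromSpecStalk]; exact hy
  have hiff : ∀ a b : PrimeSpectrum O, a < b ↔ (X.left.fromSpecStalk w b : X.left) < X.left.fromSpecStalk w a := fun a b => by
    rw [lt_iff_le_not_ge, lt_iff_le_not_ge, PrimeSpectrum.le_iff_specializes, PrimeSpectrum.le_iff_specializes]
    exact and_congr (X.left.fromSpecStalk w).isEmbedding.isInducing.specializes_iff.symm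
      (not_congr (X.left.fromSpecStalk w).isEmbedding.isInducing.specializes_iff.symm)
  obtain ⟨P0, hP0⟩ := hmem w specializes_rfl
  obtain ⟨P1, hP1⟩ := hmem (z 1) (show w ≤ z 1 from h01.le)
  obtain ⟨P2, hP2⟩ := hmem (z 2) (show w ≤ z 2 from (h01.trans h12).le)
  let Q0 : PrimeSpectrum O := P0
  let Q1 : PrimeSpectrum O := P1
  let Q2 : PrimeSpectrum O := P2
  have hQ21 : Q2 < Q1 := (hiff Q2 Q1).2 (by show X.left.fromSpecStalk w P1 < X.left.fromSpecStalk w P2; rw [hP1, hP2]; exact h12)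
  have hQ10 : Q1 < Q0 := (hiff Q1 Q0).2 (by show X.left.fromSpecStalk w P0 < X.left.fromSpecStalk w P1; rw [hP0, hP1]; exact h01)
  have hne : ∀ Q : PrimeSpectrum O, Q.asIdeal ≠ ⊥ → X.left.fromSpecStalk w Q ≠ genericPoint X.left := fun Q hQ he => by
    let B : PrimeSpectrum O := ⟨⊥, Ideal.isPrime_bot⟩
    have hlt : B < Q := show (⊥ : Ideal O) < Q.asIdeal from bot_lt_iff_ne_bot.2 hQ
    have := (hiff B Q).1 hlt
    rw [he] at this
    exact this.not_ge ((genericPoint_spec X.left).specializes (Set.mem_univ _))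
  obtain ⟨π, hπ⟩ := IsDiscreteValuationRing.exists_irreducible R
  let φ : CommRingCat.of R ⟶ O := Spec.preimage (X.left.fromSpecStalk w ≫ X.hom)
  let a : O := φ.hom π
  have hmemπ : ∀ P : PrimeSpectrum O, a ∈ P.asIdeal ↔ X.hom (X.left.fromSpecStalk w P) = IsLocalRing.closedPoint R := fun P => by
    have hφ : X.hom (X.left.fromSpecStalk w P) = Spec.map φ P := by rw [Spec.map_preimage]; rfl
    rw [hφ]
    refine ⟨fun h => PrimeSpectrum.ext ?_, fun h => ?_⟩
    · refine ((IsLocalRing.maximalIdeal.isMaximal R).eq_of_le (PrimeSpectrum.isPrime _).ne_top ?_).symm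
      rw [hπ.maximalIdeal_eq, Ideal.span_singleton_le_iff_mem]
      exact h
    · show π ∈ PrimeSpectrum.asIdeal (show PrimeSpectrum R from Spec.map φ P)
      rw [h]
      exact (show π ∈ IsLocalRing.maximalIdeal R from hπ.maximalIdeal_eq.symm ▸ Ideal.mem_span_singleton_self π)
  have ha : a ≠ 0 := fun ha0 => by
    let B : PrimeSpectrum O := ⟨⊥, Ideal.isPrime_bot⟩
    have h1 := (hmemπ B).1 (show a ∈ (⊥ : Ideal O) by rw [ha0]; exact Submodule.zero_mem _)
    obtain ⟨PB, hPB⟩ := hmem (genericPoint X.left) ((genericPoint_spec X.left).specializes (Set.mem_univ w))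
    let QB : PrimeSpectrum O := PB
    have h2 : QB = B := PrimeSpectrum.ext (by_contra fun h => hne QB h hPB)
    rw [← h2, show X.left.fromSpecStalk w QB = genericPoint X.left from hPB] at h1
    exact gen_ne_closedPoint X h1
  obtain ⟨q, hqp, hq0, -, haq⟩ := AVHomLib.exists_prime_le_notMem (p := Q1.asIdeal) (m := Q0.asIdeal)
    (bot_lt_iff_ne_bot.2 fun h => (not_lt_bot (α := Ideal O)) (h ▸ (show Q2.asIdeal < Q1.asIdeal from hQ21)))
    (show Q1.asIdeal < Q0.asIdeal from hQ10) ha
  refine hne ⟨q, hqp⟩ hq0 (hcon _ fun h => haq ((hmemπ ⟨q, hqp⟩).2 h))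

/-- An ample module has positive degree on the generic fibre. -/
theorem curveDeg_pos_of_ample {H : X.left.Modules} (hH : CohB1.IsAmple H) :
    0 < ArSurf.curveDeg (FractionRing R) ((Neron.genericFibre R).obj X).left
      ((Scheme.Modules.pullback (pullback.fst X.hom (Neron.genPt R))).obj H) := by
  let C := pullback X.hom (Neron.genPt R)
  let ψ := pullback.fst X.hom (Neron.genPt R)
  haveI : IsOpenImmersion (Neron.genPt R) := isOpenImmersion_genPt
  haveI : IsOpenImmersion ψ := inferInstance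
  obtain ⟨P, hP, hPη⟩ := exists_horizontal (X := X)
  have hrange : ∀ x : X.left, X.hom x ≠ IsLocalRing.closedPoint R → x ∈ Set.range ψ := fun x hx => by
    rw [Scheme.Pullback.range_fst]
    refine ⟨IsLocalRing.closedPoint (FractionRing R), ?_⟩
    rw [(spec_cases R (X.hom x)).resolve_left hx]
    exact genPt_apply R _
  haveI : Nonempty C := by
    obtain ⟨c, -⟩ := hrange P hP
    exact ⟨c⟩
  haveI : IsIntegral C := isIntegral_of_isOpenImmersion ψ
  haveI : IsProper (pullback.snd X.hom (Neron.genPt R)) := inferInstance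
  letI : C.Over (Spec (CommRingCat.of (FractionRing R))) := ⟨pullback.snd X.hom (Neron.genPt R)⟩
  haveI : IsProper (C ↘ Spec (CommRingCat.of (FractionRing R))) := inferInstanceAs (IsProper (pullback.snd X.hom (Neron.genPt R)))
  haveI : CompactSpace C := QuasiCompact.compactSpace_of_compactSpace (pullback.snd X.hom (Neron.genPt R))
  have hsp : ∀ a : C, X.hom (ψ a) ≠ IsLocalRing.closedPoint R := fun a h => by
    rw [← Scheme.Hom.comp_apply, pullback.condition, Scheme.Hom.comp_apply, genPt_apply] at h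
    exact closedPoint_ne_bot h.symm
  have hmono : ∀ {a b : C}, a < b ↔ ψ a < ψ b := fun {a b} => by
    have h : ∀ x y : C, ψ x ≤ ψ y ↔ x ≤ y := fun x y => ψ.isEmbedding.isInducing.specializes_iff
    rw [lt_iff_le_not_ge, lt_iff_le_not_ge, h, h]
  have hdim : topologicalKrullDim C = 1 := by
    refine le_antisymm (dim_le_one_of_no_chain fun a b c hab hbc => ?_) ?_
    · obtain ⟨w, hw, hw'⟩ := (IsLocalRing.specializes_closedPoint (X.hom (ψ a))).mem_closed
        (X.hom.isClosedMap _ (isClosed_closure (s := ({ψ a} : Set X.left)))) ⟨_, subset_closure rfl, rfl⟩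
      exact no_chain_four' IsSurf.dim_eq (lt_of_specializes_ne (specializes_iff_mem_closure.2 hw)
        fun h => hsp a (h ▸ hw')) (hmono.1 hab) (hmono.1 hbc)
    · rw [show topologicalKrullDim C = Order.krullDim C from Order.krullDim_eq_of_orderIso (irreducibleSetEquivPoints (α := C))]
      obtain ⟨c, hc⟩ := hrange P hP
      obtain ⟨d, hd⟩ := hrange (genericPoint X.left) (gen_ne_closedPoint X)
      have hcd : c < d := hmono.2 (by
        rw [hc, hd]
        exact lt_of_specializes_ne ((genericPoint_spec X.left).specializes (Set.mem_univ P)) fun h => hPη h.symm)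
      simpa using Order.LTSeries.length_le_krullDim ((RelSeries.singleton _ d).cons c hcd)
  have hC := AmpleVan.isAmple_pullback_of_isEmbedding ψ ψ.isOpenEmbedding.isEmbedding hH
  have hd : topologicalKrullDim C ≤ ((1 : ℕ) : WithBot ℕ∞) := hdim.le
  show 0 < ArSurf.curveDeg (FractionRing R) C ((Scheme.Modules.pullback ψ).obj H)
  have h := S18840.deg_pos_of_ample (FractionRing R) hdim hC
  unfold ArSurf.curveDeg
  rw [Nakai.eulerCharLE_eq_euler _ hd (ProjUPX.isQCoh_of_isInvertible hC.1),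
    Nakai.eulerCharLE_eq_euler _ hd QCoh.isQCoh_structureModule]
  simpa [Curv2.deg] using h

variable (L : Fin r → X.left.Modules) (hL : ∀ j, ClSub.IsInverseOf (L j) (ClSub.idealMod (Γ j).ι.ker))
  (hinj : Function.Injective fun i => Set.range ((Γ i).ι.base))

include hL hinj in
/-- Balanced combinations of a power of an ample module and the curves. -/
theorem exists_balanced_twist
    (hneg : ∀ a : Fin r → ℤ, a ≠ 0 →
      (Finset.univ : Finset (Fin r × Fin r)).sum (fun p => a p.1 * a p.2 * ArSurf.inter R X (L p.2) (Γ p.1)) < 0)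
    {H : X.left.Modules} (hH : CohB1.IsAmple H) :
    ∃ m : ℕ, 0 < m ∧ ∃ a : Fin r → ℕ, (∀ i, 0 < a i) ∧ ∀ (q : ℕ) (i : Fin r),
      ArSurf.inter R X (CohB1.tensorMod (CohB1.tensorPow H (q * m)) (FGA.multiTwist L (q • a))) (Γ i) = 0 := by
  obtain ⟨m, hm, a, ha, h⟩ := exists_balanced (M := fun i j => ArSurf.inter R X (L j) (Γ i))
    (fun i j hij => (inter_nonneg Γ L hL hinj hij).1)
    (fun v hv => by
      have := hneg v hv
      rw [Fintype.sum_prod_type] at this
      exact this)
    (fun i => ArSurf.inter R X H (Γ i)) fun i => inter_pos_of_ample hH (Γ i)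
  refine ⟨m, hm, a, ha, fun q i => ?_⟩
  rw [inter_twist Γ L hL (InvX.isInvertible_tensorPow hH.1 _) (q • a) (Γ i), inter_tensorPow hH.1 (Γ i)]
  have h2 : ∑ j, (((q • a) j : ℕ) : ℤ) * ArSurf.inter R X (L j) (Γ i) =
      (q : ℤ) * ∑ j, (a j : ℤ) * ArSurf.inter R X (L j) (Γ i) := by
    rw [Finset.mul_sum]
    exact Finset.sum_congr rfl fun j _ => by simp [mul_assoc]
  rw [h2]
  push_cast
  linear_combination (q : ℤ) * h i

omit [IsSurf X] [Flat X.hom] in
theorem isProper_of_isProjectiveOver (hproj : Neron.IsProjectiveOver R X) : IsProper X.hom := by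
  obtain ⟨m, i, hi, hiw⟩ := hproj
  haveI := hi
  haveI : IsProper (CohB1.ProjSpaceOver.toBase m (Spec (CommRingCat.of R))) := inferInstance
  rw [← hiw]; infer_instance

omit [IsSurf X] [Flat X.hom] in
theorem exists_ample_of_isProjectiveOver (hproj : Neron.IsProjectiveOver R X) :
    ∃ H : X.left.Modules, CohB1.IsAmple H := by
  haveI := isProper_of_isProjectiveOver hproj
  obtain ⟨m, i, hi, hiw⟩ := hproj
  haveI := hi
  obtain ⟨H, hH⟩ := AmpleX.exists_isRelAmple_of_immersion i
  rw [hiw] at hH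
  exact ⟨H, (AmpleX.isRelAmple_iff_isAmple X.hom H).1 hH⟩

include hL hinj in
/-- A twist of an ample module with sections off the curves, and generating sections along them. -/
theorem exists_artin_data (hproj : Neron.IsProjectiveOver R X)
    (hneg : ∀ a : Fin r → ℤ, a ≠ 0 →
      (Finset.univ : Finset (Fin r × Fin r)).sum (fun p => a p.1 * a p.2 * ArSurf.inter R X (L p.2) (Γ p.1)) < 0)
    (hpic : ∀ (Z : Scheme.{u}) (z : Z ⟶ X.left) [IsClosedImmersion z], BlowUp.IsEffCartierIdeal z.ker →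
      Nonempty Z → Set.range z.base ⊆ (⋃ i, Set.range (Γ i).ι.base) →
      ∀ N : Z.Modules, PicF.IsInvertible N →
        (∀ (i : Fin r) (g : (Γ i).curve.left ⟶ Z), g ≫ z = (Γ i).ι →
          ArSurf.curveDeg (IsLocalRing.ResidueField R) (Γ i).curve.left ((Scheme.Modules.pullback g).obj N) = 0) →
        Nonempty (N ≅ Coh.structureModule Z))
    {M : X.left.Modules} (hM : PicF.IsInvertible M) (hM0 : ∀ i, ArSurf.inter R X M (Γ i) = 0) :
    ∃ (A : X.left.Modules) (_ : CohB1.IsAmple A) (e : Fin r → ℕ), (∀ i, 0 < e i) ∧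
      (∀ i, ArSurf.inter R X (CohB1.tensorMod A (FGA.multiTwist L e)) (Γ i) = 0) ∧
      (∀ x, ∃ t : Γ(A, ⊤), x ∈ AmpleX.locus t) ∧
      (∃ t : Γ(CohB1.tensorMod A (FGA.multiTwist L e), ⊤), ∀ i c, (Γ i).ι c ∈ AmpleX.locus t) ∧
      ∃ s : Γ(CohB1.tensorMod M (CohB1.tensorMod A (FGA.multiTwist L e)), ⊤), ∀ i c, (Γ i).ι c ∈ AmpleX.locus s := by
  haveI : IsProper X.hom := inferInstance
  obtain ⟨H₀, hH₀⟩ := exists_ample_of_isProjectiveOver hproj
  haveI : CompactSpace X.left := hH₀.2.1
  haveI : X.left.IsSeparated := AmpleX.isSeparated_of_isAmple hH₀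
  obtain ⟨a₀, ha₀, κ, _, σ, -, -, hcov⟩ := AmpleX.exists_cover_genLocus hH₀
  let H := CohB1.tensorPow H₀ a₀
  have hH : CohB1.IsAmple H := AmpleX.isAmple_tensorPow hH₀ ha₀
  obtain ⟨m, hm, a, ha, hbal⟩ := exists_balanced_twist Γ L hL hinj hneg hH
  letI : X.left.Over (Spec (CommRingCat.of R)) := ⟨X.hom⟩
  haveI : IsProper (X.left ↘ Spec (CommRingCat.of R)) := ‹IsProper X.hom›
  obtain ⟨d₁, hd₁⟩ := AmpleVan.exists_vanishing (A := R) hH (RefX.isCoh_unit (X := X.left))
  obtain ⟨d₂, hd₂⟩ := AmpleVan.exists_vanishing (A := R) hH (AmpleVan.isCoh_invertible hM)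
  let q := d₁ + d₂ + 1
  have hqm : d₁ + d₂ + 1 ≤ q * m := Nat.le_mul_of_pos_right _ hm
  let d := q * m
  let A := CohB1.tensorPow H d
  have hd : 0 < d := Nat.mul_pos (Nat.succ_pos _) hm
  have hA : CohB1.IsAmple A := AmpleX.isAmple_tensorPow hH hd
  let e := q • a
  have he : ∀ i, 0 < e i := fun i => Nat.mul_pos (Nat.succ_pos _) (ha i)
  have hEi := isInvertible_multiTwist Γ L hL e
  let N := CohB1.tensorMod A (FGA.multiTwist L e)
  have hN : PicF.IsInvertible N := H23.PicMul.isInvertible_tensor hA.1 hEi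
  have hN0 : ∀ i, ArSurf.inter R X N (Γ i) = 0 := hbal q
  have hclN : PicF.cl N * PicF.cl (ClSub.idealMod (divOf Γ e)) = PicF.cl A := by
    rw [cl_tensor, cl_twist, mul_assoc, twistCl_mul_divOf Γ L hL e, mul_one]
  refine ⟨A, hA, e, he, hN0, fun x => ?_, ?_, ?_⟩
  · obtain ⟨k, hk⟩ := hcov x
    obtain ⟨c, hc⟩ : ∃ c, d = c + 1 := ⟨d - 1, (Nat.sub_add_cancel hd).symm⟩
    show ∃ t : Γ(CohB1.tensorPow H d, ⊤), x ∈ AmpleX.locus t
    rw [hc]
    refine ⟨AmpleX.powElt (InvX.one (σ k)) (c + 1), ?_⟩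
    rw [AmpleX.locus_powElt hH.1 _ c, ← AmpleX.genLocus_eq_locus]
    exact hk
  · refine exists_section_generating Γ hpic e he hN hclN hN0 ?_
    have h1 := hd₁ d (by omega) 0
    obtain ⟨ψ⟩ : Nonempty (A ≅ CohB1.tensorMod (Coh.structureModule X.left) (CohB1.tensorPow H d)) :=
      cl_eq_iff.1 (by rw [cl_tensor, ← H23.PicMul.one_def, one_mul])
    exact AmpleVan.subsingleton_of_iso ψ.symm 1 h1
  · refine exists_section_generating Γ hpic e he (A := CohB1.tensorMod M A)
      (H23.PicMul.isInvertible_tensor hM hN) (by rw [cl_tensor M N, cl_tensor M A, mul_assoc, hclN]) (fun i => ?_) ?_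
    · rw [inter_tensor (Γ i) hM hN, hM0 i, hN0 i, add_zero]
    · exact hd₂ d (by omega) 0

end Groth.Agent.ArInt
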