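import Groth.Prelude.Def_ArSurf
import Groth.Prelude.Def_Models
import Groth.Prelude.Def_ModelsG
import Groth.Agent.Big.SurfCurve
import Groth.Agent.Big.Comap
import Groth.Agent.Big.Connected
import Groth.Agent.Nakai.KleimanDeg
import Groth.Agent.Lib.CurveRR
import Groth.Agent.AmpleX.EmbedOverApps
import Groth.Agent.GmDiv.DimOne

/-!
# Intersection numbers with vertical curves on a regular surface over a DVR
-/

set_option autoImplicit false
set_option linter.style.haveILetI false
set_option linter.unusedSectionVars false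
set_option backward.isDefEq.respectTransparency false
set_option backward.isDefEq.respectTransparency.types false
set_option maxHeartbeats 1000000

universe u

open CategoryTheory CategoryTheory.Limits AlgebraicGeometry TopologicalSpace
open Groth.Agent.H23.PicMul

noncomputable section

namespace Groth.Agent.ArInt

open Groth.Agent

variable {R : Type u} [CommRing R] [IsDomain R] [IsDiscreteValuationRing R]
  {X : Over (Spec (CommRingCat.of R))}

/-- A regular surface, proper over a DVR. -/
class IsSurf (X : Over (Spec (CommRingCat.of R))) : Prop where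
  isIntegral : IsIntegral X.left
  isProper : IsProper X.hom
  regular : ∀ x : X.left, IsRegularLocalRing (X.left.presheaf.stalk x)
  dim_eq : topologicalKrullDim X.left = 2

attribute [instance] IsSurf.isIntegral IsSurf.isProper

theorem isSurf_of_isArithSurface (h : ArSurf.IsArithSurface R X) : IsSurf X := by
  obtain ⟨hreg, hint, hdim, -, n, i, hi, e⟩ := h
  haveI := AmpleX.isProper_toBase' n (Spec (CommRingCat.of R))
  exact ⟨hint, by rw [← e]; infer_instance, hreg, hdim⟩

/-- A regular integral scheme of finite type over a DVR. -/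
class IsRegModel (X : Over (Spec (CommRingCat.of R))) : Prop where
  isIntegral : IsIntegral X.left
  locallyOfFiniteType : LocallyOfFiniteType X.hom
  quasiCompact : QuasiCompact X.hom
  regular : ∀ x : X.left, IsRegularLocalRing (X.left.presheaf.stalk x)

attribute [instance] IsRegModel.isIntegral IsRegModel.locallyOfFiniteType IsRegModel.quasiCompact

instance (priority := low) [IsSurf X] : IsRegModel X :=
  ⟨inferInstance, inferInstance, inferInstance, IsSurf.regular⟩

section RegModel

variable [IsRegModel X] (Γ : ArSurf.VertComp R X)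

instance : IsLocallyNoetherian X.left := LocallyOfFiniteType.isLocallyNoetherian X.hom

instance : IsNoetherian X.left where
  toCompactSpace := QuasiCompact.compactSpace_of_compactSpace X.hom

theorem ufd (x : X.left) :
    IsDomain (X.left.presheaf.stalk x) ∧ UniqueFactorizationMonoid (X.left.presheaf.stalk x) := by
  haveI := IsRegModel.regular (X := X) x
  exact S2821.result _

theorem closure_gen :
    closure ({Γ.ι (genericPoint Γ.curve.left)} : Set X.left) = Set.range Γ.ι := by
  rw [← Set.image_singleton, Γ.ι.isClosedEmbedding.closure_image_eq, genericPoint_closure, Set.image_univ]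

theorem dim_closure_gen :
    topologicalKrullDim (closure ({Γ.ι (genericPoint Γ.curve.left)} : Set X.left)) = 1 := by
  rw [closure_gen, ← AmpleDev.dim_eq_one_of_closedImmersion Γ.ι rfl, Γ.dim_eq]

/-- A curve of codimension one is an effective Cartier divisor. -/
theorem isEffCartier_ker_of_dim
    (hd : ringKrullDim (X.left.presheaf.stalk (Models.genPtOf R X Γ)) = 1) : BlowUp.IsEffCartierIdeal Γ.ι.ker := by
  let I := Γ.ι.ker
  let e := Γ.ι.toImage
  haveI : IsIso e := inferInstance
  haveI : Nonempty I.subscheme := ⟨e (genericPoint Γ.curve.left)⟩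
  haveI : IsIntegral I.subscheme := isIntegral_of_isOpenImmersion (inv e)
  have hgen : I.subschemeι (genericPoint I.subscheme) = Γ.ι (genericPoint Γ.curve.left) := by
    have h : e (genericPoint Γ.curve.left) = genericPoint I.subscheme :=
      genericPoint_eq_of_isOpenImmersion e
    rw [← h, ← Scheme.Hom.comp_apply]
    exact congrArg (fun g : Γ.curve.left ⟶ X.left => g (genericPoint Γ.curve.left)) Γ.ι.toImage_imageι
  exact DivX.isEffCartier_of_codim_one I
    (hgen ▸ hd) fun x _ => ufd x

theorem support_ker : (Γ.ι.ker.support : Set X.left) = Set.range Γ.ι := by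
  rw [Scheme.Hom.support_ker, Γ.ι.isClosedEmbedding.isClosed_range.closure_eq]

/-- Distinct vertical curves do not contain one another. -/
theorem gen_notMem (Γ' : ArSurf.VertComp R X) (hne : Set.range Γ.ι.base ≠ Set.range Γ'.ι.base) :
    Γ.ι (genericPoint Γ.curve.left) ∉ (Γ'.ι.ker.support : Set X.left) := by
  rw [support_ker]
  rintro ⟨c, hc⟩
  by_cases hg : c = genericPoint Γ'.curve.left
  · refine hne ?_
    show Set.range Γ.ι = Set.range Γ'.ι
    rw [← closure_gen Γ, ← closure_gen Γ', ← hc, hg]
  · -- a closed point is not dense in a curve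
    have hcl : IsClosed ({c} : Set Γ'.curve.left) :=
      GmDiv.isClosed_singleton_of_dim Γ'.dim_eq.le fun h =>
        hg (h _ ((genericPoint_spec _).specializes (Set.mem_univ c))).symm
    have h1 : IsClosed (Γ'.ι '' {c}) := Γ'.ι.isClosedEmbedding.isClosedMap _ hcl
    rw [Set.image_singleton, hc] at h1
    have h2 := dim_closure_gen Γ
    rw [h1.closure_eq] at h2
    haveI : Subsingleton (IrreducibleCloseds ({Γ.ι (genericPoint Γ.curve.left)} : Set X.left)) := ⟨fun a b => by
      refine IrreducibleCloseds.ext (Set.ext fun z => ?_)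
      obtain ⟨u, hu⟩ := a.isIrreducible.nonempty
      obtain ⟨v, hv⟩ := b.isIrreducible.nonempty
      exact ⟨fun _ => by rwa [Subsingleton.elim z v], fun _ => by rwa [Subsingleton.elim z u]⟩⟩
    have h3 : topologicalKrullDim ({Γ.ι (genericPoint Γ.curve.left)} : Set X.left) ≤ 0 :=
      Order.krullDim_nonpos_of_subsingleton
    rw [h2] at h3
    exact absurd h3 (by norm_num)

end RegModel

variable [IsSurf X] (Γ : ArSurf.VertComp R X)

theorem dim_gen : ringKrullDim (X.left.presheaf.stalk (Models.genPtOf R X Γ)) = 1 :=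
  Big.stalk_dim_curve_point IsSurf.dim_eq (dim_closure_gen Γ)

/-- Vertical curves are effective Cartier divisors. -/
theorem isEffCartier_ker : BlowUp.IsEffCartierIdeal Γ.ι.ker := isEffCartier_ker_of_dim Γ (dim_gen Γ)

instance isProper_curve : IsProper Γ.curve.hom := by
  haveI h : IsProper (Γ.curve.hom ≫ Spec.map (CommRingCat.ofHom (IsLocalRing.residue R))) := by
    rw [← Γ.w]; infer_instance
  exact MorphismProperty.of_postcomp (W := @IsProper) (W' := @IsSeparated) Γ.curve.hom
    (Spec.map (CommRingCat.ofHom (IsLocalRing.residue R))) inferInstance h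

instance isProper_curve_over :
    IsProper (Γ.curve.left ↘ Spec (CommRingCat.of (IsLocalRing.ResidueField R))) :=
  isProper_curve Γ

/-- The degree on a vertical curve. -/
theorem inter_eq_deg {L : X.left.Modules} (hL : PicF.IsInvertible L) :
    ArSurf.inter R X L Γ =
      Curv2.deg (IsLocalRing.ResidueField R) Γ.curve.left ((Scheme.Modules.pullback Γ.ι).obj L) 1 := by
  have hd : topologicalKrullDim Γ.curve.left ≤ ((1 : ℕ) : WithBot ℕ∞) := Γ.dim_eq.le
  unfold ArSurf.inter ArSurf.curveDeg
  rw [Nakai.eulerCharLE_eq_euler _ hd (ProjUPX.isQCoh_of_isInvertible (PicClLib.isInvertible_pullback Γ.ι hL)),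
    Nakai.eulerCharLE_eq_euler _ hd QCoh.isQCoh_structureModule]
  simp [Curv2.deg]

theorem curveDeg_eq_deg {M : Γ.curve.left.Modules} (hM : PicF.IsInvertible M) :
    ArSurf.curveDeg (IsLocalRing.ResidueField R) Γ.curve.left M =
      Curv2.deg (IsLocalRing.ResidueField R) Γ.curve.left M 1 := by
  have hd : topologicalKrullDim Γ.curve.left ≤ ((1 : ℕ) : WithBot ℕ∞) := Γ.dim_eq.le
  unfold ArSurf.curveDeg
  rw [Nakai.eulerCharLE_eq_euler _ hd (ProjUPX.isQCoh_of_isInvertible hM),
    Nakai.eulerCharLE_eq_euler _ hd QCoh.isQCoh_structureModule]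
  simp [Curv2.deg]

/-- An inverse of an invertible module is invertible. -/
theorem isInvertible_of_inverse {Y : Scheme.{u}} {L M : Y.Modules} (hM : PicF.IsInvertible M)
    (h : ClSub.IsInverseOf L M) : PicF.IsInvertible L := by
  obtain ⟨δ⟩ := h
  obtain ⟨D, hD, ⟨ε⟩⟩ := H23.PicInv.exists_inverse hM
  have h1 : PicF.cl M * PicF.cl L = 1 := by rw [mul_comm]; exact Big.cl_mul_eq_one ⟨δ⟩
  obtain ⟨i⟩ := cl_eq_iff.1 ((H23.PicMul.isUnit_cl hM).mul_left_cancel
    ((Big.cl_mul_eq_one ⟨ε⟩).trans h1.symm))
  exact H23.PicMul.isInvertible_of_iso i hD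

theorem inter_congr {L M : X.left.Modules} (hL : PicF.IsInvertible L) (hM : PicF.IsInvertible M)
    (h : PicF.cl L = PicF.cl M) : ArSurf.inter R X L Γ = ArSurf.inter R X M Γ := by
  obtain ⟨e⟩ := cl_eq_iff.1 h
  rw [inter_eq_deg Γ hL, inter_eq_deg Γ hM]
  exact CurveRR.deg_congr _ ((Scheme.Modules.pullback Γ.ι).mapIso e) 1

theorem inter_tensor {L M : X.left.Modules} (hL : PicF.IsInvertible L) (hM : PicF.IsInvertible M) :
    ArSurf.inter R X (CohB1.tensorMod L M) Γ = ArSurf.inter R X L Γ + ArSurf.inter R X M Γ := by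
  rw [inter_eq_deg Γ (H23.PicMul.isInvertible_tensor hL hM), inter_eq_deg Γ hL, inter_eq_deg Γ hM,
    ← CurveRR.deg_tensor (IsLocalRing.ResidueField R) Γ.dim_eq (PicClLib.isInvertible_pullback Γ.ι hL)
      (PicClLib.isInvertible_pullback Γ.ι hM)]
  obtain ⟨e⟩ : Nonempty ((Scheme.Modules.pullback Γ.ι).obj (CohB1.tensorMod L M) ≅
      CohB1.tensorMod ((Scheme.Modules.pullback Γ.ι).obj L) ((Scheme.Modules.pullback Γ.ι).obj M)) :=
    cl_eq_iff.1 (by
      show PicF.pullCl Γ.ι (PicF.cl (CohB1.tensorMod L M)) = _
      rw [cl_tensor, H23.PicMul.pullCl_mul, cl_tensor]; rfl)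
  exact CurveRR.deg_congr _ e 1

theorem inter_structureModule : ArSurf.inter R X (Coh.structureModule X.left) Γ = 0 := by
  rw [inter_eq_deg Γ CurveDeg.isInvertible_structureModule]
  obtain ⟨e⟩ : Nonempty ((Scheme.Modules.pullback Γ.ι).obj (Coh.structureModule X.left) ≅
      Coh.structureModule Γ.curve.left) :=
    cl_eq_iff.1 (by
      show PicF.pullCl Γ.ι (PicF.cl (Coh.structureModule X.left)) = _
      rw [← H23.PicMul.one_def, H23.PicMul.pullCl_one, H23.PicMul.one_def])
  rw [CurveRR.deg_congr _ e 1, CurveDeg.deg_structureModule]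

theorem inter_inverse {L M : X.left.Modules} (hM : PicF.IsInvertible M) (h : ClSub.IsInverseOf L M) :
    ArSurf.inter R X L Γ = - ArSurf.inter R X M Γ := by
  have hL := isInvertible_of_inverse hM h
  have := inter_tensor Γ hL hM
  rw [inter_congr Γ (H23.PicMul.isInvertible_tensor hL hM) CurveDeg.isInvertible_structureModule
    (cl_eq_iff.2 h), inter_structureModule] at this
  omega

end Groth.Agent.ArInt
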