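import Groth.Agent.SteinBound.Main
import Groth.Agent.BirNormal.Basic
import Groth.Agent.AlgSpDec.BirationalNormalScheme
import Groth.Agent.FormCat.UnibranchCpl
import Groth.Agent.NmpFinite.Basic
import Groth.Agent.EtNorm.Dedekind
import Groth.Agent.DimFormula.DedekindFlat
import Groth.Agent.S2821
import Mathlib

/-!
# A birational proper morphism out of a smooth surface over a Dedekind domain
-/

set_option autoImplicit false
set_option linter.style.haveILetI false
set_option backward.isDefEq.respectTransparency false
set_option backward.isDefEq.respectTransparency.types false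
set_option maxHeartbeats 1000000

universe u

open CategoryTheory CategoryTheory.Limits AlgebraicGeometry TopologicalSpace

namespace Groth.Agent.ArInt.SmoothRelMin

open Groth.Agent

variable {R : Type u} [CommRing R] [IsDedekindDomain R]

/-- The spectrum of the fraction field, mapped to the base. -/
noncomputable abbrev jK (R : Type u) [CommRing R] : Spec (CommRingCat.of (FractionRing R)) ⟶ Spec (CommRingCat.of R) :=
  Spec.map (CommRingCat.ofHom (algebraMap R (FractionRing R)))

/-- The generic point of the base. -/
noncomputable abbrev o (R : Type u) [CommRing R] [IsDomain R] : Spec (CommRingCat.of R) :=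
  (⟨⊥, Ideal.isPrime_bot⟩ : PrimeSpectrum R)

theorem isDominant_jK : IsDominant (jK R) := ⟨(PrimeSpectrum.denseRange_comap_iff_ker_le_nilRadical _).2 (by
  show RingHom.ker (algebraMap R (FractionRing R)) ≤ _
  rw [(RingHom.injective_iff_ker_eq_bot _).1 (IsFractionRing.injective R (FractionRing R))]
  exact bot_le)⟩

theorem range_jK : Set.range (jK R) = {o R} := by
  refine Set.ext fun t => ⟨?_, fun ht => ⟨(⟨⊥, Ideal.isPrime_bot⟩ : PrimeSpectrum (FractionRing R)), ?_⟩⟩
  · rintro ⟨s, rfl⟩
    refine PrimeSpectrum.ext ?_
    show Ideal.comap (algebraMap R (FractionRing R)) (PrimeSpectrum.asIdeal s) = ⊥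
    rw [(Ideal.eq_bot_or_top (PrimeSpectrum.asIdeal s)).resolve_right (PrimeSpectrum.isPrime _).ne_top,
      ← RingHom.ker_eq_comap_bot, (RingHom.injective_iff_ker_eq_bot _).1
        (IsFractionRing.injective R (FractionRing R))]
  · rw [Set.mem_singleton_iff.1 ht]
    refine PrimeSpectrum.ext ?_
    show Ideal.comap (algebraMap R (FractionRing R)) ⊥ = ⊥
    rw [← RingHom.ker_eq_comap_bot, (RingHom.injective_iff_ker_eq_bot _).1
        (IsFractionRing.injective R (FractionRing R))]

/-- Facts about a flat quasi-compact scheme over the base and its generic fibre. -/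
theorem genericFibre_facts {X : Scheme.{u}} (p : X ⟶ Spec (CommRingCat.of R)) [Flat p] :
    IsDominant (pullback.fst p (jK R)) ∧ IsSchemeTheoreticallyDominant (pullback.fst p (jK R)) ∧
      IsPreimmersion (pullback.fst p (jK R)) ∧
      Set.range (pullback.fst p (jK R)) = p ⁻¹' {o R} := by
  haveI := isDominant_jK (R := R)
  haveI : IsSchemeTheoreticallyDominant (jK R) := IsSchemeTheoreticallyDominant.of_isDominant _
  have h := IsPullback.of_hasPullback p (jK R)
  haveI : IsSchemeTheoreticallyDominant (pullback.fst p (jK R)) := IsSchemeTheoreticallyDominant.of_isPullback h.flip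
  haveI : QuasiCompact (pullback.fst p (jK R)) := MorphismProperty.of_isPullback h.flip inferInstance
  haveI : IsPreimmersion (jK R) := IsPreimmersion.of_isLocalization (nonZeroDivisors R)
  exact ⟨inferInstance, inferInstance, MorphismProperty.of_isPullback h.flip inferInstance,
    by rw [Scheme.Pullback.range_fst, range_jK]⟩

theorem bijective_stalkMap_congr {X Y : Scheme.{u}} {f f' : X ⟶ Y} (h : f = f') (x : X) :
    Function.Bijective (f.stalkMap x) ↔ Function.Bijective (f'.stalkMap x) := by
  subst h; rfl

/-- A point of `X` over a point `s ≠ o` is not generic. -/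
theorem apply_genericPoint {X : Scheme.{u}} [IsIntegral X] (p : X ⟶ Spec (CommRingCat.of R)) [Flat p] :
    p (genericPoint X) = o R := by
  obtain ⟨y, hy, hy'⟩ := Flat.generalizingMap p
    (show o R ⤳ p (genericPoint X) from (PrimeSpectrum.le_iff_specializes (o R) _).1 bot_le)
  rw [← hy', (hy.antisymm ((genericPoint_spec X).specializes (Set.mem_univ y))).eq]

/-- Connected fibres of a birational proper morphism onto a normal scheme. -/
theorem preconnected_fibre {X Y : Scheme.{u}} [IsIntegral X] [IsIntegral Y] [IsLocallyNoetherian Y] (g : X ⟶ Y)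
    [IsProper g] (hgη : g (genericPoint X) = genericPoint Y)
    (hbir : Function.Bijective (Y.presheaf.stalkSpecializes (specializes_of_eq hgη) ≫ g.stalkMap (genericPoint X)).hom)
    (hYn : Pi1.IsNormalScheme Y) (y : Y) : _root_.IsPreconnected (g ⁻¹' {y}) := by
  have hdom : g.base (genericPoint X) ⤳ genericPoint Y := specializes_of_eq hgη
  have hub : CAlg2.IsUnibranch (Y.presheaf.stalk y) := by
    haveI := (hYn y).1
    haveI := (hYn y).2
    refine (FormCat.isUnibranch_iff _).2 ⟨inferInstance, ?_⟩
    rw [IsIntegrallyClosed.integralClosure_eq_bot]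
    exact (Algebra.botEquivOfInjective (IsFractionRing.injective (Y.presheaf.stalk y)
      (FractionRing (Y.presheaf.stalk y)))).symm.toRingEquiv.isLocalRing
  haveI := SteinBound.connectedSpace_fiber g hdom (fun x _ => ⟨0, by
    rw [pow_zero, pow_one]; exact hbir.2 x⟩) y hub
  have h1 := (isPreconnected_univ (α := g.fiber y)).image _ (g.fiberHomeo y).continuous.continuousOn
  rw [Set.image_univ, (g.fiberHomeo y).surjective.range_eq] at h1
  exact isPreconnected_iff_preconnectedSpace.2 ⟨h1⟩

variable {X Y : Scheme.{u}} (p : X ⟶ Spec (CommRingCat.of R)) (q : Y ⟶ Spec (CommRingCat.of R))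
  [Flat p] [Flat q] [IsIntegral X] (g : X ⟶ Y) (hg : g ≫ q = p)
  (e : pullback p (jK R) ⟶ pullback q (jK R)) (he : e ≫ pullback.fst q (jK R) = pullback.fst p (jK R) ≫ g)
  [IsIso e]

include he in
theorem isDominant_g : IsDominant g := by
  obtain ⟨hq1, -, -, -⟩ := genericFibre_facts q
  refine ⟨Dense.mono ?_ (s₁ := Set.range (pullback.fst q (jK R))) hq1.denseRange⟩
  rintro _ ⟨z, rfl⟩
  obtain ⟨w, rfl⟩ := e.homeomorph.surjective z
  exact ⟨pullback.fst p (jK R) w, by
    rw [← Scheme.Hom.comp_apply, ← he]; rfl⟩

include he in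
theorem isIntegral_Y (hY : ∀ y : Y, IsDomain (Y.presheaf.stalk y)) : IsIntegral Y := by
  haveI := isDominant_g p q g e he
  haveI : ∀ y : Y, _root_.IsReduced (Y.presheaf.stalk y) := fun y => by have := hY y; infer_instance
  haveI : IsReduced Y := isReduced_of_isReduced_stalk Y
  haveI : IrreducibleSpace Y := (irreducibleSpace_def _).2 (by
    have h := ((IrreducibleSpace.isIrreducible_univ X).image _ g.continuous.continuousOn).closure
    rwa [Set.image_univ, g.denseRange.closure_range] at h)
  exact isIntegral_of_irreducibleSpace_of_isReduced Y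

theorem bijective_of_surjective_from_field {K S : CommRingCat.{u}} (hK : IsField K) [Nontrivial S] (φ : K ⟶ S)
    (h : Function.Surjective φ) : Function.Bijective φ :=
  ⟨letI := hK.toField; (φ.hom : K →+* S).injective, h⟩

include he in
theorem birational [IsIntegral Y] :
    ∃ h : g (genericPoint X) = genericPoint Y,
      Function.Bijective (Y.presheaf.stalkSpecializes (specializes_of_eq h) ≫ g.stalkMap (genericPoint X)).hom := by
  haveI := isDominant_g p q g e he
  have hgη : g (genericPoint X) = genericPoint Y := by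
    have h1 := (genericPoint_spec X).image g.continuous
    rw [Set.image_univ, g.denseRange.closure_range] at h1
    exact h1.eq (genericPoint_spec Y)
  obtain ⟨-, -, hpi, hpr⟩ := genericFibre_facts p
  obtain ⟨-, -, hqi, -⟩ := genericFibre_facts q
  obtain ⟨a, ha⟩ : genericPoint X ∈ Set.range (pullback.fst p (jK R)) := by
    rw [hpr]; exact apply_genericPoint p
  let P := pullback.fst p (jK R)
  let Q := pullback.fst q (jK R)
  have hQa : Q (e a) = genericPoint Y := by
    show (e ≫ Q) a = _
    rw [he, Scheme.Hom.comp_apply, ha, hgη]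
  have hfX : IsField (X.presheaf.stalk (P a)) := by rw [ha]; exact Field.toIsField X.functionField
  have hfY : IsField (Y.presheaf.stalk (Q (e a))) := by rw [hQa]; exact Field.toIsField Y.functionField
  have hP : Function.Bijective (P.stalkMap a) :=
    bijective_of_surjective_from_field hfX _ (P.stalkMap_surjective a)
  have hQ : Function.Bijective (Q.stalkMap (e a)) :=
    bijective_of_surjective_from_field hfY _ (Q.stalkMap_surjective (e a))
  have h1 : Function.Bijective ((e ≫ Q).stalkMap a) := by
    rw [Scheme.Hom.stalkMap_comp]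
    exact ((ConcreteCategory.isIso_iff_bijective (e.stalkMap a)).1 inferInstance).comp hQ
  rw [bijective_stalkMap_congr he a, Scheme.Hom.stalkMap_comp] at h1
  have h1' : Function.Bijective (⇑(P.stalkMap a) ∘ ⇑(g.stalkMap (P a))) := h1
  have h2 : Function.Bijective (g.stalkMap (P a)) := (Function.Bijective.of_comp_iff' hP _).1 h1'
  refine ⟨hgη, ?_⟩
  have key : ∀ x : X, x = genericPoint X → Function.Bijective (g.stalkMap x) →
      Function.Bijective (g.stalkMap (genericPoint X)) := by rintro x rfl h; exact h
  haveI : IsIso (Y.presheaf.stalkSpecializes (specializes_of_eq hgη)) :=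
    BirNormal.isIso_stalkSpecializes_of_eq hgη _
  rw [CommRingCat.hom_comp, RingHom.coe_comp]
  exact (key _ ha h2).comp ((ConcreteCategory.isIso_iff_bijective _).1 inferInstance)

include he in
/-- Points with the same image over the generic point coincide. -/
theorem eq_of_apply_eq {a b : X} (ha : p a = o R) (hb : p b = o R) (h : g a = g b) : a = b := by
  obtain ⟨-, -, -, hpr⟩ := genericFibre_facts p
  obtain ⟨-, -, hqi, -⟩ := genericFibre_facts q
  obtain ⟨a', rfl⟩ : a ∈ Set.range (pullback.fst p (jK R)) := by rw [hpr]; exact ha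
  obtain ⟨b', rfl⟩ : b ∈ Set.range (pullback.fst p (jK R)) := by rw [hpr]; exact hb
  rw [← Scheme.Hom.comp_apply, ← Scheme.Hom.comp_apply, ← he] at h
  rw [e.homeomorph.injective ((pullback.fst q (jK R)).isEmbedding.injective h)]

/-- An infinite fibre contains a proper specialisation. -/
theorem finite_of_no_specializations {Z W : Scheme.{u}} (f : Z ⟶ W) [IsProper f] [IsLocallyNoetherian W] (w : W)
    (h : ∀ a b : Z, f a = w → f b = w → a ⤳ b → a = b) : (f ⁻¹' {w}).Finite := by
  haveI : IsLocallyNoetherian (f.fiber w) := LocallyOfFiniteType.isLocallyNoetherian (f.fiberToSpecResidueField w)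
  haveI : CompactSpace ↥(f.fiber w) := QuasiCompact.compactSpace_of_compactSpace (f.fiberToSpecResidueField w)
  haveI : IsNoetherian (f.fiber w) := ⟨⟩
  have huniv : (Set.univ : Set ↥(f.fiber w)) ⊆ genericPoints ↥(f.fiber w) := fun z _ => by
    obtain ⟨c, hc, hcz⟩ := MorLib.Birat.exists_generic z
    have h' := h _ _ ((f.fiberHomeo w c).2) ((f.fiberHomeo w z).2) ((subtype_specializes_iff _ _).1
      (hcz.map (f.fiberHomeo w).continuous))
    rwa [← (f.fiberHomeo w).injective (Subtype.ext h')]
  haveI : Finite ↥(f.fiber w) :=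
    Set.finite_univ_iff.1 ((genericPoints.finite NoetherianSpace.finite_irreducibleComponents).subset huniv)
  exact Set.finite_coe_iff.1 (Finite.of_equiv _ (f.fiberHomeo w).toEquiv)

include hg in
/-- A point of a normal scheme, birationally covered, over which there is a curve, is not isolated in its fibre. -/
theorem not_isolated [IsIntegral Y] [IsLocallyNoetherian Y] [UniversallyClosed g] [Surjective g]
    (hgη : g (genericPoint X) = genericPoint Y)
    (hbir : Function.Bijective (Y.presheaf.stalkSpecializes (specializes_of_eq hgη) ≫ g.stalkMap (genericPoint X)).hom)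
    (hYn : Pi1.IsNormalScheme Y) (y : Y) {s : Spec (CommRingCat.of R)} (hqy : q y = s) (hs : s ≠ o R)
    {a b : X} (hga : g a = y) (hgb : g b = y) (hab : a ⤳ b) (hne : a ≠ b)
    (hisol : IsClosed (p ⁻¹' {s} \ g ⁻¹' {y})) : False := by
  subst hqy
  haveI hsmax : (PrimeSpectrum.asIdeal (q y)).IsMaximal :=
    (PrimeSpectrum.isPrime _).isMaximal fun h => hs (PrimeSpectrum.ext h)
  have hps : ∀ {z : X} {t : Y}, g z = t → p z = q t := fun {z t} h => by rw [← hg, Scheme.Hom.comp_apply, h]
  let s := q y
  -- `y` is isolated in its fibre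
  have hyiso : ∀ y' : Y, q y' = s → y' ⤳ y → y' = y := fun y' hy' hsp => by
    by_contra hne'
    obtain ⟨z, rfl⟩ := g.surjective y'
    have hz : z ∈ p ⁻¹' {s} \ g ⁻¹' {y} := ⟨(hps rfl).trans hy', hne'⟩
    obtain ⟨w, ⟨-, hw⟩, hwy⟩ := hsp.mem_closed (g.isClosedMap _ hisol) ⟨z, hz, rfl⟩
    exact hw hwy
  -- so its local ring is a valuation ring
  haveI := (hYn y).1
  haveI := (hYn y).2
  let O := Y.presheaf.stalk y
  have hdimO : ringKrullDim O ≤ 1 := by
    obtain ⟨r, hr, hr0⟩ := Submodule.exists_mem_ne_zero_of_ne_bot (p := PrimeSpectrum.asIdeal s)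
      fun h => hs (PrimeSpectrum.ext h)
    let φ : CommRingCat.of R ⟶ O := Spec.preimage (Y.fromSpecStalk y ≫ q)
    have hφ : ∀ P : Spec O, q (Y.fromSpecStalk y P) = Spec.map φ P := fun P => by
      rw [Spec.map_preimage]; rfl
    have hcp : Y.fromSpecStalk y (IsLocalRing.closedPoint O) = y := Scheme.fromSpecStalk_closedPoint
    have hm : IsLocalRing.maximalIdeal O ∈ (Ideal.span {φ.hom r}).minimalPrimes := by
      refine ⟨⟨inferInstance, ?_⟩, fun P ⟨hP, hrP⟩ _ => ?_⟩
      · rw [Ideal.span_singleton_le_iff_mem]
        have h1 : Spec.map φ (IsLocalRing.closedPoint O) = s := by rw [← hφ, hcp]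
        exact (show r ∈ PrimeSpectrum.asIdeal (show PrimeSpectrum R from Spec.map φ (IsLocalRing.closedPoint O)) by
          rw [h1]; exact hr)
      · rw [Ideal.span_singleton_le_iff_mem] at hrP
        let P' : PrimeSpectrum O := ⟨P, hP⟩
        have hy' : Y.fromSpecStalk y P' ⤳ y := by
          have : Y.fromSpecStalk y P' ∈ Set.range (Y.fromSpecStalk y) := ⟨_, rfl⟩
          rwa [Scheme.range_fromSpecStalk] at this
        have hq' : q (Y.fromSpecStalk y P') = s := by
          have hle : q (Y.fromSpecStalk y P') ⤳ s := hy'.map q.continuous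
          have hle' : PrimeSpectrum.asIdeal (q (Y.fromSpecStalk y P')) ≤ PrimeSpectrum.asIdeal s :=
            (PrimeSpectrum.le_iff_specializes _ _).2 hle
          have hne0 : PrimeSpectrum.asIdeal (q (Y.fromSpecStalk y P')) ≠ ⊥ := fun h => hr0 (by
            have : r ∈ PrimeSpectrum.asIdeal (q (Y.fromSpecStalk y P')) := by rw [hφ]; exact hrP
            rwa [h, Ideal.mem_bot] at this)
          exact PrimeSpectrum.ext (((PrimeSpectrum.isPrime _).isMaximal hne0).eq_of_le hsmax.ne_top hle')
        have : P' = IsLocalRing.closedPoint O :=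
          (Y.fromSpecStalk y).isEmbedding.injective ((hyiso _ hq' hy').trans hcp.symm)
        exact (congrArg PrimeSpectrum.asIdeal this).ge
    rw [← IsLocalRing.maximalIdeal_height_eq_ringKrullDim]
    exact_mod_cast Ideal.height_le_one_of_isPrincipal_of_mem_minimalPrimes _ _ hm
  haveI : ValuationRing O := by
    haveI : Ring.KrullDimLE 1 O := Ring.krullDimLE_iff.2 hdimO
    haveI : Ring.DimensionLEOne O :=
      ⟨fun {p} hp hpp => Ring.krullDimLE_one_iff_of_noZeroDivisors.1 inferInstance p hp hpp⟩
    haveI : IsDedekindDomain O := {}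
    by_cases hF : IsField O
    · letI := hF.toField; infer_instance
    · have hiff : IsDiscreteValuationRing O ↔ IsDedekindDomain O := (IsDiscreteValuationRing.TFAE O hF).out 0 2
      haveI := hiff.2 inferInstance
      infer_instance
  -- every local ring over `y` is that valuation ring
  have hηy : genericPoint Y ⤳ y := (genericPoint_spec Y).specializes (Set.mem_univ y)
  let β : Y.functionField ≃+* X.functionField := RingEquiv.ofBijective _ hbir
  have hbij : ∀ (x : X) (hx : g x = y),
      Function.Bijective (Y.presheaf.stalkSpecializes (specializes_of_eq hx) ≫ g.stalkMap x).hom := by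
    rintro x rfl
    have hxη : genericPoint X ⤳ x := (genericPoint_spec X).specializes (Set.mem_univ x)
    have hcomm : ∀ c : Y.presheaf.stalk (g x),
        algebraMap (X.presheaf.stalk x) X.functionField (g.stalkMap x c) =
          β (algebraMap (Y.presheaf.stalk (g x)) Y.functionField c) := fun c => by
      show X.presheaf.stalkSpecializes hxη (g.stalkMap x c) =
        g.stalkMap (genericPoint X) (Y.presheaf.stalkSpecializes (specializes_of_eq hgη)
          (Y.presheaf.stalkSpecializes hηy c))
      rw [← Scheme.Hom.stalkSpecializes_stalkMap_apply]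
      refine congrArg (g.stalkMap (genericPoint X)) ?_
      erw [← CommRingCat.comp_apply, TopCat.Presheaf.stalkSpecializes_comp]
    have hinj : Function.Injective (g.stalkMap x) := fun c d h =>
      IsFractionRing.injective (Y.presheaf.stalk (g x)) Y.functionField
        (β.injective (by rw [← hcomm, ← hcomm, h]))
    have hid : (Y.presheaf.stalkSpecializes (specializes_of_eq (rfl : g x = g x)) ≫ g.stalkMap x).hom =
        (g.stalkMap x).hom := by rw [TopCat.Presheaf.stalkSpecializes_refl, Category.id_comp]
    rw [hid]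
    refine ⟨hinj, fun z => ?_⟩
    obtain ⟨u, v, hv, huv⟩ := IsFractionRing.div_surjective (Y.presheaf.stalk (g x))
      (β.symm (algebraMap _ X.functionField z))
    have hv0 : v ≠ 0 := nonZeroDivisors.ne_zero hv
    have hK : algebraMap (X.presheaf.stalk x) X.functionField (g.stalkMap x v) *
        algebraMap _ X.functionField z = algebraMap _ X.functionField (g.stalkMap x u) := by
      rw [hcomm, hcomm, ← β.apply_symm_apply (algebraMap _ X.functionField z), ← huv, ← map_mul,
        mul_div_cancel₀ _ fun h => hv0 (IsFractionRing.injective _ Y.functionField (h.trans (map_zero _).symm))]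
    rw [← map_mul] at hK
    have hK' : g.stalkMap x v * z = g.stalkMap x u :=
      IsFractionRing.injective (X.presheaf.stalk x) X.functionField hK
    have hXd : IsDomain (X.presheaf.stalk x) := inferInstance
    rcases ValuationRing.dvd_total v u with ⟨w, rfl⟩ | ⟨w, rfl⟩
    · refine ⟨w, mul_left_cancel₀ (fun h => hv0 (hinj (h.trans (map_zero _).symm))) ?_⟩
      rw [hK', map_mul]
    · rw [map_mul] at hK'
      rcases eq_or_ne u 0 with rfl | hu
      · exact absurd (zero_mul w) hv0
      have h1 : g.stalkMap x w * z = 1 := mul_left_cancel₀ (fun h => hu (hinj (h.trans (map_zero _).symm)))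
        (by rw [mul_one, ← mul_assoc, hK'])
      obtain ⟨w', hw'⟩ := isUnit_of_map_unit (g.stalkMap x).hom w (IsUnit.of_mul_eq_one z h1)
      refine ⟨(w'⁻¹ : Units _), mul_left_cancel₀ (left_ne_zero_of_mul (h1.symm ▸ one_ne_zero)) ?_⟩
      rw [h1, ← map_mul, ← hw', Units.mul_inv, map_one]
  -- hence the two points coincide
  refine hne ?_
  have hbB := hbij b hgb
  have haB := hbij a hga
  have hspec : Function.Bijective (X.presheaf.stalkSpecializes hab).hom := by
    have h : (Y.presheaf.stalkSpecializes (specializes_of_eq hgb) ≫ g.stalkMap b) ≫ X.presheaf.stalkSpecializes hab =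
        Y.presheaf.stalkSpecializes (specializes_of_eq hga) ≫ g.stalkMap a := by
      rw [Category.assoc, ← Scheme.Hom.stalkSpecializes_stalkMap, TopCat.Presheaf.stalkSpecializes_comp_assoc]
    rw [← h, CommRingCat.hom_comp, RingHom.coe_comp] at haB
    exact (Function.Bijective.of_comp_iff _ hbB).1 haB
  haveI : IsIso (X.presheaf.stalkSpecializes hab) := (ConcreteCategory.isIso_iff_bijective _).2 hspec
  have h1 : X.fromSpecStalk a (IsLocalRing.closedPoint _) =
      X.fromSpecStalk b (Spec.map (X.presheaf.stalkSpecializes hab) (IsLocalRing.closedPoint _)) := by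
    rw [← Scheme.Hom.comp_apply, Scheme.SpecMap_stalkSpecializes_fromSpecStalk]
  rw [show Spec.map (X.presheaf.stalkSpecializes hab) (IsLocalRing.closedPoint _) = IsLocalRing.closedPoint _ from
    IsLocalRing.comap_closedPoint _, Scheme.fromSpecStalk_closedPoint, Scheme.fromSpecStalk_closedPoint] at h1
  exact h1

include hg he in
theorem isIso [IsIntegral Y] [Smooth p] [IsProper p] [IsProper q] (hdim : topologicalKrullDim X = 2)
    (hY : ∀ y : Y, IsRegularLocalRing (Y.presheaf.stalk y)) : IsIso g := by
  haveI : IsProper g := by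
    haveI h : IsProper (g ≫ q) := by rw [hg]; infer_instance
    exact MorphismProperty.of_postcomp (W := @IsProper) (W' := @IsSeparated) g q inferInstance h
  haveI : IsNoetherian (Spec (CommRingCat.of R)) := inferInstance
  haveI : IsLocallyNoetherian X := LocallyOfFiniteType.isLocallyNoetherian p
  haveI : IsLocallyNoetherian Y := LocallyOfFiniteType.isLocallyNoetherian q
  haveI : CompactSpace X := QuasiCompact.compactSpace_of_compactSpace p
  haveI : IsNoetherian X := ⟨⟩
  haveI := isDominant_g p q g e he
  haveI : Surjective g :=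
    surjective_of_isDominant_of_isClosed_range _ g.isClosedMap.isClosed_range
  obtain ⟨hgη, hbir⟩ := birational p q g e he
  have hYn : Pi1.IsNormalScheme Y := fun y =>
    ⟨by haveI := hY y; exact (S2821.result _).1, by
      haveI := hY y
      haveI := (S2821.result (Y.presheaf.stalk y)).1
      haveI := (S2821.result (Y.presheaf.stalk y)).2
      infer_instance⟩
  by_cases hfin : ∀ y, (g ⁻¹' {y}).Finite
  · haveI : LocallyQuasiFinite g := locallyQuasiFinite_iff_finite_preimage_singleton.2 hfin
    haveI : IsFinite g := IsFinite.of_isProper_of_locallyQuasiFinite g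
    exact BirNormal.isIso_of_isIntegralHom g
      (fun U hne hU => haveI := hne; AlgSpDec.BiratNormal.isIntegrallyClosed_sections hYn hU) hgη hbir
  exfalso
  push Not at hfin
  obtain ⟨y, hy⟩ := hfin
  obtain ⟨a, b, hga, hgb, hab, hne⟩ : ∃ a b : X, g a = y ∧ g b = y ∧ a ⤳ b ∧ a ≠ b := by
    by_contra hno
    push Not at hno
    exact hy (finite_of_no_specializations g y hno)
  let s := q y
  have hps : ∀ {z : X} {t : Y}, g z = t → p z = q t := fun {z t} h => by rw [← hg, Scheme.Hom.comp_apply, h]
  have hs : s ≠ o R := fun h => hne (eq_of_apply_eq p q g e he ((hps hga).trans h) ((hps hgb).trans h) (hga.trans hgb.symm))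
  haveI hsmax : (PrimeSpectrum.asIdeal s).IsMaximal :=
    (PrimeSpectrum.isPrime s).isMaximal fun h => hs (PrimeSpectrum.ext h)
  have hscl : IsClosed ({s} : Set (Spec (CommRingCat.of R))) :=
    (PrimeSpectrum.isClosed_singleton_iff_isMaximal s).2 hsmax
  let F : Set X := p ⁻¹' {s}
  have hFcl : IsClosed F := hscl.preimage p.continuous
  have hX : Order.krullDim X = 2 :=
    (Order.krullDim_eq_of_orderIso (irreducibleSetEquivPoints (α := X))).symm.trans hdim
  have hlt : ∀ {u v : X}, v ⤳ u → u ≠ v → u < v := fun {u v} h hn =>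
    lt_of_le_not_ge h fun h' => hn (Specializes.antisymm h' h).eq
  have hηF : genericPoint X ∉ F := fun h => hs ((h : p (genericPoint X) = s).symm.trans (apply_genericPoint p))
  have no3 : ∀ {u v w : X}, u < v → v < w → w ∈ F → False := fun {u v w} h1 h2 h3 => by
    have h4 : w < genericPoint X :=
      hlt ((genericPoint_spec X).specializes (Set.mem_univ w)) fun h => hηF (h ▸ h3)
    have := Order.LTSeries.length_le_krullDim
      (RelSeries.cons (RelSeries.cons ((RelSeries.singleton _ (genericPoint X)).cons w h4) v h2) u h1)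
    rw [hX] at this
    norm_num at this
  have haF : a ∈ F := hps hga
  have hbF : b ∈ F := hps hgb
  have hba : b < a := hlt hab hne.symm
  have hb : IsClosed ({b} : Set X) := by
    refine closure_subset_iff_isClosed.1 fun z hz => ?_
    by_contra hzb
    exact no3 (hlt (specializes_iff_mem_closure.2 hz) hzb) hba haF
  have hamax : ∀ z ∈ F, z ⤳ a → z = a := fun z hzF hz => by
    by_contra h
    exact no3 hba (hlt hz (Ne.symm h)) hzF
  have hycl : IsClosed ({y} : Set Y) := by
    have := g.isClosedMap _ hb
    rwa [Set.image_singleton, hgb] at this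
  -- the component of the fibre through `a` is open in the fibre
  let E : Set X := closure {a}
  have hEF : E ⊆ F := closure_minimal (Set.singleton_subset_iff.2 haF) hFcl
  have hEcompl : IsClosed (F \ E) := by
    let S := p.fiber s
    haveI : IsLocallyNoetherian S := LocallyOfFiniteType.isLocallyNoetherian (p.fiberToSpecResidueField s)
    haveI : CompactSpace ↥S := QuasiCompact.compactSpace_of_compactSpace (p.fiberToSpecResidueField s)
    haveI : IsNoetherian S := ⟨⟩
    haveI : Smooth (p.fiberToSpecResidueField s) :=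
      MorphismProperty.of_isPullback (IsPullback.of_hasPullback p ((Spec (CommRingCat.of R)).fromSpecResidueField s)) inferInstance
    have hk : Pi1.IsNormalScheme (Spec ((Spec (CommRingCat.of R)).residueField s)) :=
      EtNorm.isNormalScheme_spec _ fun P hP => by
        haveI : IsDomain (Localization.AtPrime P) :=
          IsLocalization.isDomain_localization P.primeCompl_le_nonZeroDivisors
        exact ⟨inferInstance,
          isIntegrallyClosed_of_isLocalization _ P.primeCompl P.primeCompl_le_nonZeroDivisors⟩
    have hSn := NmpFinite.isNormalScheme_of_smooth hk (p.fiberToSpecResidueField s)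
    let φ := p.fiberHomeo s
    let a' : ↥S := φ.symm ⟨a, haF⟩
    have hsp : ∀ u v : ↥S, u ⤳ v ↔ (φ u : X) ⤳ (φ v : X) := fun u v => by
      rw [← φ.isInducing.specializes_iff]; exact subtype_specializes_iff _ _
    have ha' : a' ∈ genericPoints ↥S := by
      obtain ⟨c, hc, hca⟩ := MorLib.Birat.exists_generic a'
      have h1 := (hsp _ _).1 hca
      rw [show φ a' = ⟨a, haF⟩ from φ.apply_symm_apply _] at h1
      have h2 := hamax _ (φ c).2 h1
      rwa [show a' = c from φ.injective (Subtype.ext (by rw [φ.apply_symm_apply]; exact h2.symm))]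
    let C : Set ↥S := ⋃ c ∈ genericPoints ↥S \ {a'}, closure {c}
    have hC : IsClosed C :=
      ((genericPoints.finite NoetherianSpace.finite_irreducibleComponents).subset Set.sdiff_subset).isClosed_biUnion
        fun _ _ => isClosed_closure
    have heq : F \ E = (Subtype.val ∘ φ) '' C := by
      refine Set.ext fun z => ⟨fun ⟨hzF, hzE⟩ => ⟨φ.symm ⟨z, hzF⟩, ?_, by simp⟩, ?_⟩
      · obtain ⟨c, hc, hcz⟩ := MorLib.Birat.exists_generic (φ.symm ⟨z, hzF⟩)
        refine Set.mem_iUnion₂.2 ⟨c, ⟨hc, fun h => hzE (specializes_iff_mem_closure.1 ?_)⟩,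
          specializes_iff_mem_closure.1 hcz⟩
        have h1 := (hsp _ _).1 hcz
        rwa [Set.mem_singleton_iff.1 h, show φ a' = ⟨a, haF⟩ from φ.apply_symm_apply _,
          show φ (φ.symm ⟨z, hzF⟩) = ⟨z, hzF⟩ from φ.apply_symm_apply _] at h1
      · rintro ⟨w, hw, rfl⟩
        obtain ⟨c, ⟨hc, hca⟩, hcw⟩ := Set.mem_iUnion₂.1 hw
        refine ⟨(φ w).2, fun hE => hca ?_⟩
        have haw : a' ⤳ w := (hsp _ _).2 (by
          rw [show φ a' = ⟨a, haF⟩ from φ.apply_symm_apply _]
          exact specializes_iff_mem_closure.2 hE)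
        haveI := (hSn w).1
        exact AlgSpDec.BiratNormal.generic_eq w hc (specializes_iff_mem_closure.2 hcw) ha' haw
    rw [heq]
    exact (hFcl.isClosedEmbedding_subtypeVal.comp φ.isClosedEmbedding).isClosedMap _ hC
  have hgE : ∀ z ∈ E, g z = y := fun z hz => by
    have := (specializes_iff_mem_closure.2 hz).map g.continuous
    rw [hga] at this
    exact this.mem_closed hycl (Set.mem_singleton y)
  have hconn := preconnected_fibre g hgη hbir hYn y
  have hFy : g ⁻¹' {y} ⊆ F := fun z hz => hps hz
  have hTE : ∀ z, g z = y → z ∈ E := fun z hz => by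
    by_contra hzE
    obtain ⟨w, hwy, hw1, hw2⟩ := (isPreconnected_closed_iff.1 hconn) E (F \ E) isClosed_closure hEcompl
      (fun t ht => (em (t ∈ E)).imp_right fun h => ⟨hFy ht, h⟩)
      ⟨a, hga, subset_closure rfl⟩ ⟨z, hz, hFy hz, hzE⟩
    exact hw2.2 hw1
  refine not_isolated p q g hg hgη hbir hYn y rfl hs hga hgb hab hne ?_
  have : F \ g ⁻¹' {y} = F \ E := Set.ext fun z => ⟨fun h => ⟨h.1, fun hE => h.2 (hgE z hE)⟩,
    fun h => ⟨h.1, fun hz => h.2 (hTE z hz)⟩⟩
  exact this ▸ hEcompl

end Groth.Agent.ArInt.SmoothRelMin
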