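import Groth.Agent.ArInt.ModelLib
import Groth.Agent.ArInt.SmoothRelMin
import Groth.Agent.AmpleX.EmbedOverApps
import Groth.Agent.AlgSpDec.MonoPoint

/-!
# Uniqueness of contractions
-/

set_option autoImplicit false
set_option linter.style.haveILetI false
set_option linter.unusedSectionVars false
set_option backward.isDefEq.respectTransparency false
set_option backward.isDefEq.respectTransparency.types false
set_option maxHeartbeats 1000000

universe u

open CategoryTheory CategoryTheory.Limits AlgebraicGeometry TopologicalSpace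

noncomputable section

namespace Groth.Agent.ArInt

open Groth.Agent

/-- Birationality of a morphism which is an isomorphism over a nonempty open set. -/
theorem birational_of_isIso_restrict {X Y : Scheme.{u}} [IsIntegral X] [IsIntegral Y] (f : X ⟶ Y) (U : Y.Opens)
    (hU : (U : Set Y).Nonempty) (hiU : IsIso (f ∣_ U)) :
    ∃ h : f (genericPoint X) = genericPoint Y,
      Function.Bijective (Y.presheaf.stalkSpecializes (specializes_of_eq h) ≫ f.stalkMap (genericPoint X)).hom := by
  haveI := hiU
  have hηU : genericPoint Y ∈ U := by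
    obtain ⟨u, hu⟩ := hU
    exact ((genericPoint_spec Y).specializes (Set.mem_univ u)).mem_open U.2 hu
  obtain ⟨w, hw⟩ := (f ∣_ U).homeomorph.surjective ⟨genericPoint Y, hηU⟩
  have hwU : f w.1 = genericPoint Y := (morphismRestrict_base_coe f U w).symm.trans (congrArg Subtype.val hw)
  have hηw : genericPoint X ∈ f ⁻¹ᵁ U :=
    ((genericPoint_spec X).specializes (Set.mem_univ w.1)).mem_open (f ⁻¹ᵁ U).2 (show f w.1 ∈ U from hwU ▸ hηU)
  have hgη : f (genericPoint X) = genericPoint Y := by
    have h := ((genericPoint_spec X).specializes (Set.mem_univ w.1)).map f.continuous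
    rw [hwU] at h
    exact (h.antisymm ((genericPoint_spec Y).specializes (Set.mem_univ _))).eq
  haveI : IsIso (f.stalkMap (genericPoint X)) :=
    ((MorphismProperty.isomorphisms CommRingCat.{u}).arrow_mk_iso_iff
      (morphismRestrictStalkMap f U ⟨_, hηw⟩)).1 (inferInstance : IsIso _)
  haveI := BirNormal.isIso_stalkSpecializes_of_eq hgη (specializes_of_eq hgη)
  exact ⟨hgη, (ConcreteCategory.isIso_iff_bijective _).1 inferInstance⟩

/-- Scheme-theoretic images of reduced schemes are reduced. -/
theorem isReduced_image {X Y : Scheme.{u}} (f : X ⟶ Y) [QuasiCompact f] [IsReduced X] : IsReduced f.image := by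
  haveI : ∀ z : f.image, _root_.IsReduced (f.image.presheaf.stalk z) := fun z => by
    obtain ⟨U, hU, hz, -⟩ := exists_isAffineOpen_mem_and_subset (U := (⊤ : Y.Opens)) (x := f.imageι z) trivial
    have hW : IsAffineOpen (f.imageι ⁻¹ᵁ U) := hU.preimage f.imageι
    haveI : _root_.IsReduced Γ(f.image, f.imageι ⁻¹ᵁ U) :=
      isReduced_of_injective (f.toImage.app (f.imageι ⁻¹ᵁ U)).hom (f.toImage_app_injective ⟨U, hU⟩)
    letI := TopCat.Presheaf.algebra_section_stalk f.image.presheaf ⟨z, show z ∈ f.imageι ⁻¹ᵁ U from hz⟩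
    haveI := hW.isLocalization_stalk ⟨z, hz⟩
    exact isReduced_localizationPreserves (hW.primeIdealOf ⟨z, hz⟩).asIdeal.primeCompl _ inferInstance
  exact isReduced_of_isReduced_stalk _

/-- A map from a proper integral scheme over a field to an affine scheme has a single point as image. -/
theorem apply_eq_of_isAffine {k : Type u} [Field k] {C W : Scheme.{u}} [IsIntegral C] [IsAffine W]
    (π : C ⟶ Spec (CommRingCat.of k)) [UniversallyClosed π] (l : C ⟶ W) (c c' : C) : l c = l c' := by
  have hF := isField_of_universallyClosed k π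
  letI := hF.toField
  have h : ∀ x, W.isoSpec.hom (l x) = Spec.map l.appTop (C.toSpecΓ x) := fun x => by
    rw [← Scheme.Hom.comp_apply, ← Scheme.Hom.comp_apply]
    exact congrArg (fun t : C ⟶ Spec Γ(W, ⊤) => t x) (Scheme.toSpecΓ_naturality l)
  haveI : Subsingleton (Spec Γ(C, ⊤)) := inferInstanceAs (Subsingleton (PrimeSpectrum Γ(C, ⊤)))
  refine W.isoSpec.hom.homeomorph.injective ?_
  show W.isoSpec.hom (l c) = W.isoSpec.hom (l c')
  rw [h, h, Subsingleton.elim (C.toSpecΓ c) (C.toSpecΓ c')]

variable {R : Type u} [CommRing R] [IsDomain R] [IsDiscreteValuationRing R]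
  {X : Over (Spec (CommRingCat.of R))} [IsIntegral X.left] [IsProper X.hom]
  {r : ℕ} (Γ : Fin r → ArSurf.VertComp R X)
  {Y₁ Y₂ : Over (Spec (CommRingCat.of R))} (f₁ : X ⟶ Y₁) (f₂ : X ⟶ Y₂)

/-- The factorisation through a contraction. -/
theorem exists_factor_contraction [IsIntegral Y₁.left] [IsProper Y₁.hom] [IsProper Y₂.hom]
    (hn : Pi1.IsNormalScheme Y₁.left) (hdim : topologicalKrullDim Y₁.left = 2)
    (h₁ : ∀ i, ∃ y : Y₁.left, Set.range (((Γ i).ι ≫ f₁.left).base : (Γ i).curve.left → Y₁.left) = {y})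
    (hpre : f₁.left.base ⁻¹' (f₁.left.base '' ⋃ i, Set.range (Γ i).ι.base) = ⋃ i, Set.range (Γ i).ι.base)
    (hiso : ∀ V : Y₁.left.Opens, (V : Set Y₁.left) ∩ f₁.left.base '' (⋃ i, Set.range (Γ i).ι.base) = ∅ →
      IsIso (f₁.left ∣_ V))
    (h₂ : ∀ i, ∃ y : Y₂.left, Set.range (((Γ i).ι ≫ f₂.left).base : (Γ i).curve.left → Y₂.left) = {y}) :
    ∃! g : Y₁ ⟶ Y₂, f₁ ≫ g = f₂ := by
  haveI : IsLocallyNoetherian Y₁.left := LocallyOfFiniteType.isLocallyNoetherian Y₁.hom
  haveI : IsProper f₁.left := by
    haveI h : IsProper (f₁.left ≫ Y₁.hom) := by rw [Over.w f₁]; infer_instance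
    exact MorphismProperty.of_postcomp (W := @IsProper) (W' := @IsSeparated) f₁.left Y₁.hom inferInstance h
  let T : Set X.left := ⋃ i, Set.range (Γ i).ι
  have hT : IsClosed T := isClosed_iUnion_of_finite fun i => (Γ i).ι.isClosedEmbedding.isClosed_range
  have hfT : IsClosed (f₁.left '' T) := f₁.left.isClosedMap _ hT
  -- the image of the curves is finite
  let V : Y₁.left.Opens := ⟨(f₁.left '' T)ᶜ, hfT.isOpen_compl⟩
  have hVne : (V : Set Y₁.left).Nonempty := by
    refine ⟨genericPoint Y₁.left, fun hmem => ?_⟩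
    obtain ⟨x, hx, hxe⟩ := hmem
    obtain ⟨i, c, rfl⟩ := Set.mem_iUnion.1 hx
    obtain ⟨y, hy⟩ := h₁ i
    have hsing : IsClosed ({y} : Set Y₁.left) := by
      rw [← hy, Scheme.Hom.comp_base, TopCat.coe_comp, Set.range_comp]
      exact f₁.left.isClosedMap _ (Γ i).ι.isClosedEmbedding.isClosed_range
    have hyη : genericPoint Y₁.left = y := by
      have h : ((Γ i).ι ≫ f₁.left) c ∈ ({y} : Set Y₁.left) := hy ▸ ⟨c, rfl⟩
      exact hxe.symm.trans h
    haveI : Subsingleton Y₁.left := ⟨fun a b => by
      have key : ∀ z : Y₁.left, z = y := fun z =>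
        ((genericPoint_spec Y₁.left).specializes (Set.mem_univ z)).mem_closed hsing hyη
      rw [key a, key b]⟩
    have h0 : Order.krullDim Y₁.left ≤ 0 := Order.krullDim_nonpos_of_subsingleton
    rw [← Order.krullDim_eq_of_orderIso (irreducibleSetEquivPoints (α := Y₁.left))] at h0
    exact absurd (hdim.symm.trans_le h0) (by norm_num)
  have hV := hiso V (Set.eq_empty_iff_forall_notMem.2 fun z hz => hz.1 hz.2)
  obtain ⟨hη, hbir⟩ := birational_of_isIso_restrict f₁.left V hVne hV
  haveI : IsDominant f₁.left := ⟨by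
    refine dense_iff_closure_eq.2 (Set.eq_univ_of_univ_subset ?_)
    rw [← (genericPoint_spec Y₁.left)]
    exact closure_mono (Set.singleton_subset_iff.2 ⟨_, hη⟩)⟩
  have huniq : ∀ g g' : Y₁ ⟶ Y₂, f₁ ≫ g = f₂ → f₁ ≫ g' = f₂ → g = g' := fun g g' hg hg' => by
    refine Over.OverMorphism.ext ?_
    refine ext_of_isDominant_of_isSeparated Y₂.hom ((Over.w g).trans (Over.w g').symm) f₁.left ?_
    exact congrArg (fun t : X ⟶ Y₂ => t.left) (hg.trans hg'.symm)
  -- the closure of the graph
  let P := pullback Y₁.hom Y₂.hom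
  let h : X.left ⟶ P := pullback.lift f₁.left f₂.left ((Over.w f₁).trans (Over.w f₂).symm)
  haveI : IsProper h := by
    haveI hh : IsProper (h ≫ pullback.fst Y₁.hom Y₂.hom) := by rw [pullback.lift_fst]; infer_instance
    exact MorphismProperty.of_postcomp (W := @IsProper) (W' := @IsSeparated) h (pullback.fst Y₁.hom Y₂.hom) inferInstance hh
  let Z := h.image
  let π : Z ⟶ Y₁.left := h.imageι ≫ pullback.fst Y₁.hom Y₂.hom
  have hπ : h.toImage ≫ π = f₁.left := by
    rw [← Category.assoc, Scheme.Hom.toImage_imageι, pullback.lift_fst]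
  haveI : IsReduced Z := isReduced_image h
  haveI : Surjective h.toImage := by
    haveI hh : IsProper (h.toImage ≫ h.imageι) := by rw [Scheme.Hom.toImage_imageι]; infer_instance
    haveI : IsProper h.toImage :=
      MorphismProperty.of_postcomp (W := @IsProper) (W' := @IsSeparated) h.toImage h.imageι inferInstance hh
    exact surjective_of_isDominant_of_isClosed_range _ h.toImage.isClosedMap.isClosed_range
  haveI : IrreducibleSpace Z := (irreducibleSpace_def _).2 (by
    have := (IrreducibleSpace.isIrreducible_univ X.left).image _ h.toImage.continuous.continuousOn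
    rwa [Set.image_univ, h.toImage.surjective.range_eq] at this)
  haveI : IsIntegral Z := isIntegral_of_irreducibleSpace_of_isReduced Z
  haveI : IsProper π := inferInstance
  have hzη : h.toImage (genericPoint X.left) = genericPoint Z := by
    have h1 := (genericPoint_spec X.left).image h.toImage.continuous
    rw [Set.image_univ, h.toImage.surjective.range_eq, closure_univ] at h1
    exact h1.eq (genericPoint_spec Z)
  have hπη : π (genericPoint Z) = genericPoint Y₁.left := by
    rw [← hzη, ← Scheme.Hom.comp_apply, hπ, hη]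
  have hπbir : Function.Bijective
      (Y₁.left.presheaf.stalkSpecializes (specializes_of_eq hπη) ≫ π.stalkMap (genericPoint Z)).hom := by
    have key : ∀ (f' : X.left ⟶ Y₁.left) (_ : h.toImage ≫ π = f') (e : f' (genericPoint X.left) = genericPoint Y₁.left),
        Function.Bijective (Y₁.left.presheaf.stalkSpecializes (specializes_of_eq e) ≫ f'.stalkMap (genericPoint X.left)).hom →
        ∀ (z : Z) (hz : h.toImage (genericPoint X.left) = z) (e' : π z = genericPoint Y₁.left), IsField (Z.presheaf.stalk z) →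
        Function.Bijective (Y₁.left.presheaf.stalkSpecializes (specializes_of_eq e') ≫ π.stalkMap z).hom := by
      rintro f' rfl e hb z rfl e' hfld
      rw [Scheme.Hom.stalkMap_comp] at hb
      have hb' : Function.Bijective (⇑(h.toImage.stalkMap (genericPoint X.left)) ∘
          ⇑(Y₁.left.presheaf.stalkSpecializes (specializes_of_eq e') ≫ π.stalkMap (h.toImage (genericPoint X.left)))) := hb
      letI := hfld.toField
      have hinj : Function.Injective (h.toImage.stalkMap (genericPoint X.left)) :=
        (h.toImage.stalkMap (genericPoint X.left)).hom.injective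
      exact (Function.Bijective.of_comp_iff' ⟨hinj, fun t => (hb'.2 t).elim fun s hs => ⟨_, hs⟩⟩ _).1 hb'
    exact key f₁.left hπ hη hbir (genericPoint Z) hzη hπη (Field.toIsField Z.functionField)
  -- finite fibres
  have hh : ∀ x, h.imageι (h.toImage x) = h x := fun x => by
    rw [← Scheme.Hom.comp_apply, Scheme.Hom.toImage_imageι]
  have hfin : ∀ y, (π ⁻¹' {y}).Finite := fun y => by
    refine SmoothRelMin.finite_of_no_specializations π y fun z w hz hw hzw => ?_
    obtain ⟨a, rfl⟩ := h.toImage.surjective z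
    haveI hti : IsProper (h.toImage ≫ h.imageι) := by rw [Scheme.Hom.toImage_imageι]; infer_instance
    haveI : IsProper h.toImage :=
      MorphismProperty.of_postcomp (W := @IsProper) (W' := @IsSeparated) h.toImage h.imageι inferInstance hti
    obtain ⟨b, hb, rfl⟩ := hzw.mem_closed (h.toImage.isClosedMap _ (isClosed_closure (s := ({a} : Set X.left))))
      ⟨a, subset_closure rfl, rfl⟩
    by_cases hab : a = b
    · rw [hab]
    have hfa : f₁.left a = y := by rw [← hπ, Scheme.Hom.comp_apply]; exact hz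
    have hfb : f₁.left b = y := by rw [← hπ, Scheme.Hom.comp_apply]; exact hw
    have haT : a ∈ T := by
      by_contra haT
      have haV : a ∈ f₁.left ⁻¹ᵁ V := fun hm => haT (hpre.subset hm)
      have hbV : b ∈ f₁.left ⁻¹ᵁ V := show f₁.left b ∈ V from hfb ▸ (hfa ▸ haV : y ∈ V)
      haveI := hV
      have : (⟨a, haV⟩ : (f₁.left ⁻¹ᵁ V : Set X.left)) = ⟨b, hbV⟩ := (f₁.left ∣_ V).homeomorph.injective
        (Subtype.ext ((morphismRestrict_base_coe f₁.left V ⟨a, haV⟩).trans
          ((hfa.trans hfb.symm).trans (morphismRestrict_base_coe f₁.left V ⟨b, hbV⟩).symm)))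
      exact hab (congrArg Subtype.val this)
    obtain ⟨i, ca, rfl⟩ := Set.mem_iUnion.1 haT
    obtain ⟨cb, rfl⟩ : b ∈ Set.range (Γ i).ι :=
      closure_minimal (Set.singleton_subset_iff.2 (show (Γ i).ι ca ∈ Set.range (Γ i).ι from ⟨ca, rfl⟩)) (Γ i).ι.isClosedEmbedding.isClosed_range hb
    haveI := (Γ i).isIntegral
    haveI : IsProper (Γ i).curve.hom := by
      haveI h : IsProper ((Γ i).curve.hom ≫ Spec.map (CommRingCat.ofHom (IsLocalRing.residue R))) := by
        rw [← (Γ i).w]; infer_instance
      exact MorphismProperty.of_postcomp (W := @IsProper) (W' := @IsSeparated) (Γ i).curve.hom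
        (Spec.map (CommRingCat.ofHom (IsLocalRing.residue R))) inferInstance h
    obtain ⟨y₁, hy₁⟩ := h₁ i
    obtain ⟨y₂, hy₂⟩ := h₂ i
    obtain ⟨l₁, hl₁⟩ := AlgSpDec.exists_factor_residueField ((Γ i).ι ≫ f₁.left) y₁ fun t => hy₁.subset ⟨t, rfl⟩
    obtain ⟨l₂, hl₂⟩ := AlgSpDec.exists_factor_residueField ((Γ i).ι ≫ f₂.left) y₂ fun t => hy₂.subset ⟨t, rfl⟩
    let a₁ := Y₁.left.fromSpecResidueField y₁
    let a₂ := Y₂.left.fromSpecResidueField y₂
    let W := pullback (a₁ ≫ Y₁.hom) (a₂ ≫ Y₂.hom)
    let l : (Γ i).curve.left ⟶ W := pullback.lift l₁ l₂ (by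
      rw [← Category.assoc, ← Category.assoc, hl₁, hl₂, Category.assoc, Category.assoc, Over.w, Over.w])
    let m : W ⟶ P := pullback.map (a₁ ≫ Y₁.hom) (a₂ ≫ Y₂.hom) Y₁.hom Y₂.hom a₁ a₂ (𝟙 _) (by simp) (by simp)
    have hlm : (Γ i).ι ≫ h = l ≫ m := by
      apply pullback.hom_ext
      · rw [Category.assoc, pullback.lift_fst, Category.assoc, pullback.lift_fst, ← Category.assoc,
          pullback.lift_fst, hl₁]
      · rw [Category.assoc, pullback.lift_snd, Category.assoc, pullback.lift_snd, ← Category.assoc,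
          pullback.lift_snd, hl₂]
    refine h.imageι.isEmbedding.injective ?_
    rw [hh, hh, ← Scheme.Hom.comp_apply, ← Scheme.Hom.comp_apply, hlm, Scheme.Hom.comp_apply,
      Scheme.Hom.comp_apply, apply_eq_of_isAffine (Γ i).curve.hom l ca cb]
  haveI : LocallyQuasiFinite π := locallyQuasiFinite_iff_finite_preimage_singleton.2 hfin
  haveI : IsFinite π := IsFinite.of_isProper_of_locallyQuasiFinite π
  haveI : IsIso π := BirNormal.isIso_of_isIntegralHom π
    (fun U hne hU => haveI := hne; AlgSpDec.BiratNormal.isIntegrallyClosed_sections hn hU) hπη hπbir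
  refine ⟨Over.homMk (inv π ≫ h.imageι ≫ pullback.snd Y₁.hom Y₂.hom) ?_, ?_, fun g' hg' => huniq _ _ hg' ?_⟩
  · rw [Category.assoc, Category.assoc, ← pullback.condition, ← Category.assoc h.imageι, IsIso.inv_hom_id_assoc]
  all_goals
    refine Over.OverMorphism.ext ?_
    show f₁.left ≫ inv π ≫ h.imageι ≫ pullback.snd Y₁.hom Y₂.hom = f₂.left
    rw [← hπ, Category.assoc, IsIso.hom_inv_id_assoc, ← Category.assoc, Scheme.Hom.toImage_imageι, pullback.lift_snd]

end Groth.Agent.ArInt
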