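import Groth.Agent.ArInt.Contract
import Groth.Agent.ArInt.Primitive
import Groth.Agent.Lib.AVAmple
import Groth.Agent.AmpleDev.CurvesIn
import Groth.Agent.CurveReg.Embed
import Groth.Agent.FibreSpaceX.Normal
import Groth.Agent.SteinLib.Fibre
import Groth.Agent.DescLib.SubtrVal
import Groth.Agent.JacTangent.FibreDeg
import Groth.Agent.AmpleX.EmbedOver

/-!
# Existence of contractions given by globally generated invertible modules
-/

set_option autoImplicit false
set_option linter.style.haveILetI false
set_option linter.unusedSectionVars false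
set_option backward.isDefEq.respectTransparency false
set_option backward.isDefEq.respectTransparency.types false
set_option maxHeartbeats 1000000

universe u

open CategoryTheory CategoryTheory.Limits AlgebraicGeometry TopologicalSpace

noncomputable section

namespace Groth.Agent.ArInt

open Groth.Agent Groth.Agent.H23 Groth.Agent.H23.TrivBasic
open scoped Groth.Agent.H23.PicMul

/-- A map with a single point as image pulls invertible modules back to trivial ones. -/
theorem triv_of_const {C W : Scheme.{u}} (φ : C ⟶ W) {N : W.Modules} (hN : PicF.IsInvertible N) (y : W)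
    (h : ∀ c, φ c = y) : Triv ((Scheme.Modules.pullback φ).obj N) := by
  obtain ⟨V, hV, ε, hε⟩ := InvX.exists_frame hN y
  have hVtop : φ ⁻¹ᵁ V = ⊤ := top_le_iff.1 fun c _ => by
    show φ c ∈ V
    rw [h c]; exact hV
  exact triv_of_frame ((InvX.isFrame_pullElt φ hε).res hVtop.ge)

/-- A map from a proper integral scheme over a field pulling an ample module back to a trivial one is constant. -/
theorem const_of_triv {k : Type u} [Field k] {C W : Scheme.{u}} [IsIntegral C] (π : C ⟶ Spec (CommRingCat.of k))
    [IsProper π] (φ : C ⟶ W) {N : W.Modules} (hN : CohB1.IsAmple N)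
    (hT : Triv ((Scheme.Modules.pullback φ).obj N)) (c c' : C) : φ c = φ c' := by
  obtain ⟨n, s, hcs, hs⟩ := hN.2.2 (φ c)
  let M := CohB1.tensorPow N (n + 1)
  have hM : PicF.IsInvertible M := PicMul.isInvertible_tensorPow hN.1 (n + 1)
  let t : Γ(M, ⊤) := InvX.one s
  have ht : locus t = CohB1.genLocus _ s := by
    unfold locus
    exact congrArg (CohB1.genLocus M) (AVAmple.ofSect_one s)
  let M' := (Scheme.Modules.pullback φ).obj M
  have hM' : PicF.IsInvertible M' := PicClLib.isInvertible_pullback φ hM
  have hT' : Triv M' := by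
    refine (PicGrp.cl_eq_cl_iff _ _).1 ?_
    show PicMul.pullHom φ (PicF.cl _) = 1
    rw [PicMul.cl_tensorPow, map_pow,
      show PicMul.pullHom φ (PicF.cl N) = 1 from (PicGrp.cl_eq_cl_iff _ _).2 hT, one_pow]
  have hT'' : Triv ((Scheme.Modules.pullback (𝟙 C)).obj M') := hT'.pullback _
  let t' : Γ(M', ⊤) := InvX.pullElt φ t
  have hloc : locus t' = φ ⁻¹ᵁ locus t := locus_pullElt hM φ t
  have hall : ∀ d, φ d ∈ locus t := fun d => by
    have h0 : (𝟙 C : C ⟶ C) c ∈ locus t' := by
      rw [hloc]
      show φ c ∈ locus t
      rw [ht]; exact hcs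
    have h1 := AVAmple.mem_locus_of_triv π (𝟙 C) hM' hT'' t' h0 d
    rw [hloc] at h1
    exact h1
  let V := CohB1.genLocus M s
  haveI : IsAffine (V : Scheme.{u}) := hs
  let l : C ⟶ V := IsOpenImmersion.lift V.ι φ (by
    rintro _ ⟨d, rfl⟩
    rw [Scheme.Opens.range_ι]
    exact ht.le (hall d))
  have hl : l ≫ V.ι = φ := IsOpenImmersion.lift_fac _ _ _
  have he := apply_eq_of_isAffine π l c c'
  rw [← hl, Scheme.Hom.comp_apply, Scheme.Hom.comp_apply, he]

variable (R : Type u) [CommRing R] [IsDomain R] [IsDiscreteValuationRing R]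

/-- The spectrum of a discrete valuation ring has two points. -/
theorem spec_cases (s : Spec (CommRingCat.of R)) :
    s = IsLocalRing.closedPoint R ∨ s = (⟨⊥, Ideal.isPrime_bot⟩ : PrimeSpectrum R) := by
  let p : PrimeSpectrum R := s
  by_cases h : p.asIdeal = ⊥
  · exact Or.inr (PrimeSpectrum.ext h)
  · exact Or.inl (PrimeSpectrum.ext (IsLocalRing.eq_maximalIdeal (p.isPrime.isMaximal h)))

theorem genPt_apply (z : Spec (CommRingCat.of (FractionRing R))) :
    Neron.genPt R z = (⟨⊥, Ideal.isPrime_bot⟩ : PrimeSpectrum R) := by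
  let w : PrimeSpectrum (FractionRing R) := z
  refine PrimeSpectrum.ext ?_
  show Ideal.comap (algebraMap R (FractionRing R)) w.asIdeal = ⊥
  rw [(Ideal.eq_bot_or_top w.asIdeal).resolve_right w.isPrime.ne_top]
  exact (RingHom.injective_iff_ker_eq_bot _).1 (IsFractionRing.injective R (FractionRing R))

variable {R} {X : Over (Spec (CommRingCat.of R))} [IsIntegral X.left]

/-- No chain of four points in dimension two. -/
theorem no_chain_four' (hdim : topologicalKrullDim X.left = 2) {a b c d : X.left} (hab : a < b) (hbc : b < c)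
    (hcd : c < d) : False := by
  have hk : Order.krullDim X.left ≤ 2 :=
    ((Order.krullDim_eq_of_orderIso (irreducibleSetEquivPoints (α := X.left))).symm.trans_le hdim.le)
  have := (Order.LTSeries.length_le_krullDim
    (RelSeries.cons (RelSeries.cons ((RelSeries.singleton _ d).cons c hcd) b hbc) a hab)).trans hk
  exact absurd this (by simp only [RelSeries.cons_length, RelSeries.singleton_length]; norm_num)

theorem lt_of_specializes_ne {α : Scheme.{u}} {a b : α} (h : a ⤳ b) (hne : a ≠ b) : b < a :=
  lt_of_le_not_ge h fun h' => hne (Specializes.antisymm h h').eq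

variable [Flat X.hom]

/-- The generic point lies over the generic point of the base. -/
theorem hom_genericPoint : X.hom (genericPoint X.left) = (⟨⊥, Ideal.isPrime_bot⟩ : PrimeSpectrum R) := by
  let o : Spec (CommRingCat.of R) := (⟨⊥, Ideal.isPrime_bot⟩ : PrimeSpectrum R)
  obtain ⟨y, hy, hy'⟩ := Flat.generalizingMap X.hom
    (show o ⤳ X.hom (genericPoint X.left) from (PrimeSpectrum.le_iff_specializes o _).1 bot_le)
  rw [(hy.antisymm ((genericPoint_spec X.left).specializes (Set.mem_univ y))).eq] at hy'
  exact hy'

theorem closedPoint_ne_bot : (IsLocalRing.closedPoint R : PrimeSpectrum R) ≠ ⟨⊥, Ideal.isPrime_bot⟩ :=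
  fun h => IsDiscreteValuationRing.not_a_field R (congrArg PrimeSpectrum.asIdeal h)

/-- The closure of a nonclosed point of the closed fibre is a vertical curve. -/
theorem exists_vertComp_closure (hdim : topologicalKrullDim X.left = 2) {η w : X.left}
    (hηF : η ∈ Models.specialFibreSet R X) (hw : w < η) :
    ∃ Γ : ArSurf.VertComp R X, Set.range Γ.ι.base = closure ({η} : Set X.left) := by
  let jk := Spec.map (CommRingCat.ofHom (IsLocalRing.residue R))
  haveI : IsClosedImmersion jk := IsClosedImmersion.spec_of_surjective _ IsLocalRing.residue_surjective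
  obtain ⟨z, hz⟩ : η ∈ Set.range (pullback.fst X.hom jk) := by
    rw [Scheme.Pullback.range_fst]
    exact ⟨IsLocalRing.closedPoint _, (IsLocalRing.comap_closedPoint (IsLocalRing.residue R)).trans hηF.symm⟩
  let V : Closeds ↥(pullback X.hom jk) := ⟨closure {z}, isClosed_closure⟩
  let C := (Scheme.IdealSheafData.vanishingIdeal V).subscheme
  haveI : IsReduced C := H23.RedSub.isReduced_vanishingIdeal V
  let j : C ⟶ pullback X.hom jk := (Scheme.IdealSheafData.vanishingIdeal V).subschemeι
  have hjr : Set.range j = closure {z} := by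
    rw [show Set.range j = _ from Scheme.IdealSheafData.range_subschemeι _,
      Scheme.IdealSheafData.coe_support_vanishingIdeal]
    rfl
  haveI : IrreducibleSpace C := (irreducibleSpace_def _).2 (by
    obtain ⟨e, he⟩ : z ∈ Set.range j := hjr ▸ subset_closure rfl
    have hu : closure ({e} : Set C) = Set.univ := by
      rw [j.isEmbedding.isInducing.closure_eq_preimage_closure_image, Set.image_singleton, he, ← hjr,
        Set.preimage_range]
    show IsIrreducible (Set.univ : Set C)
    rw [← hu]
    exact isIrreducible_singleton.closure)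
  haveI : IsIntegral C := isIntegral_of_irreducibleSpace_of_isReduced C
  let ι : C ⟶ X.left := j ≫ pullback.fst X.hom jk
  haveI : IsClosedImmersion ι := inferInstance
  have hr : Set.range ι = closure {η} := by
    rw [show (ι : C → X.left) = pullback.fst X.hom jk ∘ j from rfl, Set.range_comp, hjr,
      ← (pullback.fst X.hom jk).isClosedEmbedding.closure_image_eq, Set.image_singleton, hz]
  have hmono : ∀ {a b : C}, a < b → ι a < ι b := fun {a b} hab => by
    have hiff : ∀ x y : C, ι x ≤ ι y ↔ x ≤ y := fun x y => ι.isEmbedding.isInducing.specializes_iff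
    exact lt_of_le_not_ge ((hiff _ _).2 hab.le) fun h => hab.not_ge ((hiff _ _).1 h)
  have hle : ∀ c : C, ι c ≤ η := fun c => by
    have h : ι c ∈ closure ({η} : Set X.left) := hr ▸ ⟨c, rfl⟩
    exact specializes_iff_mem_closure.2 h
  have hlt : η < genericPoint X.left :=
    lt_of_specializes_ne ((genericPoint_spec X.left).specializes (Set.mem_univ η))
      fun he => closedPoint_ne_bot ((he ▸ hηF : X.hom (genericPoint X.left) = IsLocalRing.closedPoint R).symm.trans hom_genericPoint)
  obtain ⟨c, hc⟩ : w ∈ Set.range ι := by rw [hr]; exact specializes_iff_mem_closure.1 hw.le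
  refine ⟨⟨Over.mk (j ≫ pullback.snd X.hom jk), ι, inferInstance, ‹_›, le_antisymm ?_ ?_, ?_⟩, hr⟩
  · exact dim_le_one_of_no_chain fun a b d hab hbd =>
      no_chain_four' hdim (hmono hab) (hmono hbd) (lt_of_le_of_lt (hle d) hlt)
  · show 1 ≤ topologicalKrullDim C
    rw [show topologicalKrullDim C = Order.krullDim C from Order.krullDim_eq_of_orderIso (irreducibleSetEquivPoints (α := C))]
    obtain ⟨e, he⟩ : η ∈ Set.range ι := by rw [hr]; exact subset_closure rfl
    have hce : c < e := by
      refine lt_of_le_not_ge (ι.isEmbedding.isInducing.specializes_iff.1 ?_) fun h => ?_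
      · show ι e ⤳ ι c
        rw [he, hc]; exact hw.le
      · have : ι e ≤ ι c := h.map ι.continuous
        rw [he, hc] at this
        exact hw.not_ge this
    simpa using Order.LTSeries.length_le_krullDim ((RelSeries.singleton _ e).cons c hce)
  · show (j ≫ pullback.fst X.hom jk) ≫ X.hom = _
    rw [Category.assoc, pullback.condition, ← Category.assoc]
    rfl

omit [IsDiscreteValuationRing R] in
/-- A point of a connected fibre related to no other point of it is the whole fibre. -/
theorem eq_of_isolated {X W : Scheme.{u}} [IsNoetherian X] (g : X ⟶ W) {x : X}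
    (hpre : _root_.IsPreconnected (g ⁻¹' {g x}))
    (h : ∀ z, g z = g x → (z ⤳ x ∨ x ⤳ z) → z = x) (z : X) (hz : g z = g x) : z = x := by
  let F : Set X := g ⁻¹' {g x}
  haveI : PreconnectedSpace F := isPreconnected_iff_preconnectedSpace.1 hpre
  haveI : NoetherianSpace F := inferInstance
  let x' : F := ⟨x, rfl⟩
  have hcomp : irreducibleComponent x' = {x'} := by
    obtain ⟨ξ, hξ⟩ := quasiSober_iff _ |>.1 inferInstance
      ((isIrreducible_irreducibleComponent (x := x')).image _ continuous_subtype_val.continuousOn).closure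
      isClosed_closure
    have hξx : ξ ⤳ x := hξ.specializes (subset_closure ⟨x', mem_irreducibleComponent, rfl⟩)
    have h1 : g x ⤳ g ξ := specializes_iff_mem_closure.2 (by
      refine image_closure_subset_closure_image g.continuous ⟨ξ, hξ.mem, rfl⟩ |>
        closure_mono (by rintro _ ⟨_, ⟨w, -, rfl⟩, rfl⟩; exact w.2))
    have hξe : ξ = x := h ξ ((hξx.map g.continuous).antisymm h1).eq (Or.inl hξx)
    refine Set.Subset.antisymm (fun w hw => Subtype.ext ?_) fun w hw => hw ▸ mem_irreducibleComponent
    exact h w.1 w.2 (Or.inr (hξe ▸ hξ.specializes (subset_closure ⟨w, hw, rfl⟩)))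
  have hxcl : IsClosed ({x'} : Set F) := hcomp ▸ isClosed_irreducibleComponent
  let S := {Z ∈ irreducibleComponents F | x' ∉ Z}
  have hS : IsClosed (⋃ Z ∈ S, Z) :=
    (NoetherianSpace.finite_irreducibleComponents.subset fun Z hZ => hZ.1).isClosed_biUnion
      fun Z hZ => isClosed_of_mem_irreducibleComponents _ hZ.1
  have hopen : IsOpen ({x'} : Set F) := by
    rw [show ({x'} : Set F) = (⋃ Z ∈ S, Z)ᶜ from ?_]
    · exact hS.isOpen_compl
    ext w
    refine ⟨fun hw hw' => ?_, fun hw => ?_⟩
    · obtain ⟨Z, hZ, hwZ⟩ := Set.mem_iUnion₂.1 hw'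
      exact hZ.2 (hw ▸ hwZ)
    · by_contra hne
      refine hw (Set.mem_biUnion (x := irreducibleComponent w)
        ⟨irreducibleComponent_mem_irreducibleComponents w, fun hx => hne ?_⟩ mem_irreducibleComponent)
      have h2 : irreducibleComponent x' ⊆ irreducibleComponent w := by
        rw [hcomp]; exact Set.singleton_subset_iff.2 hx
      have h3 := (irreducibleComponent_mem_irreducibleComponents x').eq_of_le
        (irreducibleComponent_mem_irreducibleComponents w).1 h2
      rw [← hcomp, h3]
      exact mem_irreducibleComponent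
  have hu := (isClopen_iff.1 (⟨hxcl, hopen⟩ : IsClopen ({x'} : Set F))).resolve_left (Set.singleton_ne_empty _)
  have : (⟨z, hz⟩ : F) ∈ ({x'} : Set F) := hu ▸ Set.mem_univ _
  exact congrArg Subtype.val this

omit [IsDiscreteValuationRing R] in
/-- An affine morphism with isomorphisms on functions is an isomorphism. -/
theorem isIso_of_affine_of_app {A V : Scheme.{u}} (π : A ⟶ V) [IsAffineHom π] (h : ∀ U, IsIso (π.app U)) :
    IsIso π := by
  refine (IsZariskiLocalAtTarget.iff_of_iSup_eq_top (P := MorphismProperty.isomorphisms Scheme.{u})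
    (fun U : V.affineOpens => U.1) (iSup_affineOpens_eq_top V)).2 fun U => ?_
  exact (isIso_morphismRestrict_iff_isIso_app _ U.2).2 (h _)

omit [IsDiscreteValuationRing R] in
/-- A proper morphism with isomorphisms on functions is an isomorphism where it is injective. -/
theorem isIso_restrict_of_injective {X W : Scheme.{u}} (g : X ⟶ W) [IsProper g] (h : ∀ U, IsIso (g.app U))
    (V : W.Opens) (hinj : Function.Injective (g ∣_ V)) : IsIso (g ∣_ V) := by
  haveI : IsProper (g ∣_ V) := IsZariskiLocalAtTarget.restrict ‹_› V
  haveI : LocallyQuasiFinite (g ∣_ V) := LocallyQuasiFinite.of_injective hinj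
  haveI : IsFinite (g ∣_ V) := IsFinite.of_isProper_of_locallyQuasiFinite _
  refine isIso_of_affine_of_app _ fun U => ?_
  haveI := h (V.ι ''ᵁ U)
  rw [morphismRestrict_app]
  infer_instance

end Groth.Agent.ArInt
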