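import Mathlib

/-!
# The dimension of a cotangent space from an evaluation map
-/

set_option autoImplicit false

universe u

namespace Groth.Agent.ArInt

open IsLocalRing

/-- The cotangent space at a maximal ideal, computed by a surjective semilinear map with kernel the square. -/
theorem finrank_cotangentSpace_eq {A S G M : Type u} [CommRing A] [CommRing S] [IsLocalRing S] [Algebra A S]
    (p : Ideal A) [p.IsMaximal] [IsLocalization.AtPrime S p] [Field G] [AddCommGroup M] [Module G M]
    (θ : A →+* G) (hθ : Function.Surjective θ) (hker : ∀ a, θ a = 0 ↔ a ∈ p)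
    (Λ : p →+ M) (hΛ : Function.Surjective Λ) (hlin : ∀ (a : A) (x : p), Λ (a • x) = θ a • Λ x)
    (hker2 : ∀ x : p, Λ x = 0 → algebraMap A S x.1 ∈ maximalIdeal S ^ 2) :
    Module.finrank (ResidueField S) (CotangentSpace S) = Module.finrank G M := by
  have hmax : ∀ a, algebraMap A S a ∈ maximalIdeal S ↔ a ∈ p := fun a =>
    IsLocalization.AtPrime.to_map_mem_maximal_iff S p a
  let α : p →+ CotangentSpace S :=
    { toFun := fun x => (maximalIdeal S).toCotangent ⟨algebraMap A S x.1, (hmax _).2 x.2⟩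
      map_zero' := by
        rw [show (⟨algebraMap A S (0 : p).1, (hmax _).2 (0 : p).2⟩ : maximalIdeal S) = 0 from
          Subtype.ext (map_zero _)]
        exact map_zero _
      map_add' := fun x y => by
        rw [← map_add]
        exact congrArg _ (Subtype.ext (map_add _ _ _)) }
  have hsq : ∀ z : A, z ∈ p ^ 2 → ∃ hz : z ∈ p, Λ ⟨z, hz⟩ = 0 := fun z hz2 => by
    rw [pow_two] at hz2
    refine Submodule.mul_induction_on hz2 (fun a ha b hb => ⟨p.mul_mem_left a hb, ?_⟩)
      (fun a b ⟨ha, ha0⟩ ⟨hb, hb0⟩ => ⟨p.add_mem ha hb, ?_⟩)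
    · rw [show (⟨a * b, p.mul_mem_left a hb⟩ : p) = a • ⟨b, hb⟩ from rfl, hlin, (hker a).2 ha, zero_smul]
    · rw [show (⟨a + b, p.add_mem ha hb⟩ : p) = ⟨a, ha⟩ + ⟨b, hb⟩ from rfl, map_add, ha0, hb0, add_zero]
  have hkerα : ∀ x, α x = 0 ↔ algebraMap A S x.1 ∈ maximalIdeal S ^ 2 := fun x =>
    (maximalIdeal S).toCotangent_eq_zero _
  have hiff : ∀ x, α x = 0 ↔ Λ x = 0 := fun x => by
    rw [hkerα]
    refine ⟨fun h => ?_, hker2 x⟩
    rw [← IsLocalization.AtPrime.map_eq_maximalIdeal p S, ← Ideal.map_pow,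
      IsLocalization.mem_map_algebraMap_iff p.primeCompl S] at h
    obtain ⟨⟨⟨z, hz⟩, s⟩, hs⟩ := h
    rw [← map_mul, IsLocalization.eq_iff_exists p.primeCompl S] at hs
    obtain ⟨t, ht⟩ := hs
    obtain ⟨hzp, hz0⟩ := hsq z hz
    have he : ((t : A) * (s : A)) • x = (t : A) • (⟨z, hzp⟩ : p) := Subtype.ext (by
      show (t : A) * s * x.1 = t * z
      linear_combination ht)
    have h1 := congrArg Λ he
    rw [hlin, hlin, hz0, smul_zero, map_mul, smul_eq_zero] at h1
    refine h1.resolve_left (mul_ne_zero (fun h0 => t.2 ((hker _).1 h0)) (fun h0 => s.2 ((hker _).1 h0)))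
  have hαsurj : Function.Surjective α := fun c => by
    obtain ⟨⟨m, hm⟩, rfl⟩ := (maximalIdeal S).toCotangent_surjective c
    obtain ⟨x, s, rfl⟩ := IsLocalization.exists_mk'_eq p.primeCompl m
    have hx : x ∈ p := (IsLocalization.AtPrime.mk'_mem_maximal_iff S p x s).1 hm
    obtain ⟨t, ht⟩ := hθ (θ s)⁻¹
    have hts : algebraMap A S (t * s - 1) ∈ maximalIdeal S := (hmax _).2 ((hker _).1 (by
      rw [map_sub, map_mul, map_one, ht, inv_mul_cancel₀ (fun h0 => s.2 ((hker _).1 h0)), sub_self]))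
    refine ⟨t • ⟨x, hx⟩, ?_⟩
    show (maximalIdeal S).toCotangent _ = _
    rw [Ideal.toCotangent_eq]
    show algebraMap A S (t * x) - IsLocalization.mk' S x s ∈ _
    have he : algebraMap A S (t * x) - IsLocalization.mk' S x s =
        algebraMap A S (t * s - 1) * IsLocalization.mk' S x s := by
      rw [map_sub, map_mul, map_mul, map_one, sub_mul, one_mul, mul_assoc]
      congr 2
      rw [mul_comm, IsLocalization.mk'_spec]
    rw [he, pow_two]
    exact Ideal.mul_mem_mul hts hm
  -- the comparison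
  choose σ hσ using hΛ
  let j : M →+ CotangentSpace S :=
    { toFun := fun v => α (σ v)
      map_zero' := (hiff _).2 (hσ 0)
      map_add' := fun v w => by
        refine sub_eq_zero.1 ?_
        rw [← map_add, ← map_sub, hiff, map_sub, map_add, hσ, hσ, hσ, sub_self] }
  have hjΛ : ∀ x, j (Λ x) = α x := fun x => by
    refine sub_eq_zero.1 ?_
    show α (σ (Λ x)) - α x = 0
    rw [← map_sub, hiff, map_sub, hσ, sub_self]
  have hjb : Function.Bijective j := by
    refine ⟨(injective_iff_map_eq_zero j).2 fun v hv => ?_, fun c => ?_⟩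
    · rw [← hσ v]; exact (hiff _).1 hv
    · obtain ⟨x, rfl⟩ := hαsurj c
      exact ⟨Λ x, hjΛ x⟩
  let π : A →+* ResidueField S := (residue S).comp (algebraMap A S)
  have hπ0 : ∀ a, π a = 0 ↔ a ∈ p := fun a => (residue_eq_zero_iff _).trans (hmax a)
  have hπθ : ∀ a b, θ a = θ b ↔ π a = π b := fun a b => by
    rw [← sub_eq_zero, ← map_sub, hker, ← hπ0, map_sub, sub_eq_zero]
  have hπsurj : Function.Surjective π := fun r => by
    obtain ⟨z, rfl⟩ := residue_surjective r
    obtain ⟨x, s, rfl⟩ := IsLocalization.exists_mk'_eq p.primeCompl z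
    obtain ⟨t, ht⟩ := hθ (θ s)⁻¹
    refine ⟨t * x, ?_⟩
    have h1 : π (t * s) = 1 := by
      rw [← map_one π, ← hπθ, map_mul, map_one, ht, inv_mul_cancel₀ (fun h0 => s.2 ((hker _).1 h0))]
    have h2 : π x = residue S (IsLocalization.mk' S x s) * π s := by
      show residue S _ = _ * residue S _
      rw [← map_mul, IsLocalization.mk'_spec]
    rw [map_mul, h2, mul_left_comm, ← map_mul, h1, mul_one]
  let i : G → ResidueField S := fun g => π (hθ g).choose
  have hi : ∀ a, i (θ a) = π a := fun a => (hπθ _ _).1 (hθ (θ a)).choose_spec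
  have hib : Function.Bijective i := by
    refine ⟨fun g g' h => ?_, fun r => ?_⟩
    · rw [← (hθ g).choose_spec, ← (hθ g').choose_spec]; exact (hπθ _ _).2 h
    · obtain ⟨a, rfl⟩ := hπsurj r
      exact ⟨θ a, hi a⟩
  have hc : ∀ (g : G) (v : M), j (g • v) = i g • j v := fun g v => by
    obtain ⟨a, rfl⟩ := hθ g
    rw [← hσ v, ← hlin, hjΛ, hjΛ, hi]
    show (maximalIdeal S).toCotangent _ = _
    rw [show (⟨algebraMap A S (a • σ v).1, (hmax _).2 (a • σ v).2⟩ : maximalIdeal S) =
      algebraMap A S a • ⟨algebraMap A S (σ v).1, (hmax _).2 (σ v).2⟩ from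
      Subtype.ext (map_mul _ _ _), LinearMap.map_smul]
    rfl
  rw [Module.finrank, Module.finrank, rank_eq_of_equiv_equiv i (AddEquiv.ofBijective j hjb) hib hc]

end Groth.Agent.ArInt
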