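import Groth.Agent.ArInt.RestrSurj
import Groth.Agent.AmpleVan.Mul
import Groth.Agent.OmegaLib.IdealMod

/-!
# Sections near a closed subscheme, up to a frame
-/

set_option autoImplicit false
set_option linter.style.haveILetI false
set_option linter.unusedSectionVars false
set_option backward.isDefEq.respectTransparency false
set_option backward.isDefEq.respectTransparency.types false
set_option maxHeartbeats 1000000

universe u

open CategoryTheory CategoryTheory.Limits AlgebraicGeometry TopologicalSpace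
open Groth.Agent.H23.PicMul

noncomputable section

namespace Groth.Agent.ArInt

open Groth.Agent

variable {X Z : Scheme.{u}} {M T : X.Modules}

/-- Division by a frame. -/
theorem exists_div (hM : PicF.IsInvertible M) {V : X.Opens} {t : Γ(T, V)} (ht : InvX.IsFrame t)
    (ζ : Γ(CohB1.tensorMod M T, V)) : ∃ m : Γ(M, V), ζ = InvX.tmul m t := by
  choose U hxU e he using fun x : X => InvX.exists_frame hM x
  have hf : ∀ x, InvX.IsFrame (InvX.tmul (AModX.res M (inf_le_right : V ⊓ U x ≤ U x) (e x))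
      (AModX.res T (inf_le_left : V ⊓ U x ≤ V) t)) := fun x => InvX.isFrame_tmul ((he x).res _) (ht.res _)
  choose a ha using fun x => (hf x).exists_coord le_rfl (AModX.res _ (inf_le_left : V ⊓ U x ≤ V) ζ)
  simp only [AModX.res_self] at ha
  obtain ⟨m, hm, -⟩ := AModX.existsUnique_glue (M := M) (V := V) (fun x => V ⊓ U x) (fun _ => inf_le_left)
    (fun p hp => ⟨p, hp, hxU p⟩) (fun x => a x • AModX.res M (inf_le_right : V ⊓ U x ≤ U x) (e x)) fun x y => by
      let W := (V ⊓ U x) ⊓ (V ⊓ U y)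
      have hWx : W ≤ U x := inf_le_left.trans inf_le_right
      have hWV : W ≤ V := inf_le_left.trans inf_le_left
      obtain ⟨c, hc⟩ := (he x).exists_coord hWx (AModX.res M (inf_le_right.trans inf_le_right : W ≤ U y) (e y))
      have h1 := congrArg (AModX.res _ (inf_le_left : W ≤ V ⊓ U x)) (ha x)
      have h2 := congrArg (AModX.res _ (inf_le_right : W ≤ V ⊓ U y)) (ha y)
      rw [AModX.res_res, AModX.res_smul, InvX.res_tmul, AModX.res_res, AModX.res_res] at h1 h2
      rw [hc, InvX.tmul_smul_left, ← mul_smul] at h2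
      have h3 := ((InvX.isFrame_tmul ((he x).res hWx) (ht.res hWV)).coord_unique le_rfl (by
        simp only [AModX.res_self]; exact h1.symm.trans h2))
      rw [AModX.res_smul, AModX.res_smul, AModX.res_res, AModX.res_res, hc, ← mul_smul]
      exact congrArg (· • _) h3
  refine ⟨m, AModX.eq_of_locally _ _ fun p hp => ⟨V ⊓ U p, inf_le_left, ⟨hp, hxU p⟩, ?_⟩⟩
  rw [ha p, InvX.res_tmul, hm p, InvX.tmul_smul_left]

/-- Tensoring with a frame is injective. -/
theorem tmul_injective (hM : PicF.IsInvertible M) {V : X.Opens} {t : Γ(T, V)} (ht : InvX.IsFrame t)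
    {m m' : Γ(M, V)} (h : InvX.tmul m t = InvX.tmul m' t) : m = m' := by
  refine AModX.eq_of_locally _ _ fun p hp => ?_
  obtain ⟨U, hxU, e, he⟩ := InvX.exists_frame hM p
  refine ⟨V ⊓ U, inf_le_left, ⟨hp, hxU⟩, ?_⟩
  obtain ⟨a, ha⟩ := he.exists_coord (inf_le_right : V ⊓ U ≤ U) (AModX.res M inf_le_left m)
  obtain ⟨b, hb⟩ := he.exists_coord (inf_le_right : V ⊓ U ≤ U) (AModX.res M inf_le_left m')
  have h1 := congrArg (AModX.res _ (inf_le_left : V ⊓ U ≤ V)) h
  rw [InvX.res_tmul, InvX.res_tmul, ha, hb, InvX.tmul_smul_left, InvX.tmul_smul_left] at h1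
  have h2 := (InvX.isFrame_tmul (he.res (inf_le_right : V ⊓ U ≤ U)) (ht.res inf_le_left)).coord_unique le_rfl
    (by simp only [AModX.res_self]; exact h1)
  rw [ha, hb, h2]

theorem app_eq_zero_of_eq {f g : Z ⟶ X} (e : f = g) (W : X.Opens) (a : Γ(X, W)) (ha : f.app W a = 0) :
    g.app W a = 0 := by
  subst e; exact ha

variable (ι : Z ⟶ X) {V : X.Opens} (hV : (⊤ : Z.Opens) ≤ ι ⁻¹ᵁ V)

/-- The restriction of a section near the subscheme. -/
def restr (m : Γ(M, V)) : Γ((Scheme.Modules.pullback ι).obj M, ⊤) :=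
  AModX.res _ hV (InvX.pullElt ι m)

theorem restr_add (m m' : Γ(M, V)) : restr ι hV (m + m') = restr ι hV m + restr ι hV m' := by
  show AModX.res _ hV (InvX.pullElt ι (m + m')) = _
  rw [show InvX.pullElt ι (m + m') = InvX.pullElt ι m + InvX.pullElt ι m' from map_add _ _ _, map_add]
  rfl

/-- The restriction of functions near the subscheme. -/
def restrR : Γ(X, V) →+* Γ(Z, ⊤) := (AModX.resR hV).comp (ι.app V).hom

theorem restr_smul (a : Γ(X, V)) (m : Γ(M, V)) :
    restr ι hV (a • m) = restrR ι hV a • restr ι hV m := by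
  show AModX.res _ hV (InvX.pullElt ι (a • m)) = _
  rw [InvX.pullElt_smul, AModX.res_smul]
  rfl

theorem restr_res {V' : X.Opens} (hV' : (⊤ : Z.Opens) ≤ ι ⁻¹ᵁ V') (h : V ≤ V') (m : Γ(M, V')) :
    restr ι hV (AModX.res M h m) = restr ι hV' m := by
  show AModX.res _ hV (InvX.pullElt ι (AModX.res M h m)) = _
  rw [← InvX.res_pullElt ι h, AModX.res_res]
  rfl

theorem isFrame_restr {m : Γ(M, V)} (hm : InvX.IsFrame m) : InvX.IsFrame (restr ι hV m) :=
  (InvX.isFrame_pullElt ι hm).res hV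

theorem restr_map {M' : X.Modules} (φ : M ⟶ M') (m : Γ(M, V)) :
    restr ι hV (φ.app V m) = ((Scheme.Modules.pullback ι).map φ).app ⊤ (restr ι hV m) := by
  have h := congr(($((Scheme.Modules.pullbackPushforwardAdjunction ι).unit.naturality φ)).app V m)
  refine Eq.trans ?_ (AModX.app_res ((Scheme.Modules.pullback ι).map φ) hV (InvX.pullElt ι m)).symm
  exact congrArg (AModX.res _ hV) h

/-- Multiplication by a section generating near the subscheme is injective after restriction. -/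
theorem injective_map_mulSec (hM : PicF.IsInvertible M) (τ : Γ(T, ⊤)) (hτ : ∀ z, ι z ∈ AmpleX.locus τ) :
    Function.Injective (((Scheme.Modules.pullback ι).map (AmpleVan.mulSec τ M)).app ⊤) := by
  refine (injective_iff_map_eq_zero _).2 fun z hz => ?_
  refine AModX.eq_of_locally _ _ fun p _ => ?_
  obtain ⟨U₀, hxU, e₀, he₀⟩ := InvX.exists_frame hM (ι p)
  let U := U₀ ⊓ AmpleX.locus τ
  let e := AModX.res M (inf_le_left : U ≤ U₀) e₀
  have he : InvX.IsFrame e := he₀.res _
  have hτU : InvX.IsFrame (AModX.res T (le_top : U ≤ ⊤) τ) := AmpleX.isFrame_res_of_le τ inf_le_right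
  refine ⟨ι ⁻¹ᵁ U, le_top, ⟨hxU, hτ p⟩, ?_⟩
  obtain ⟨a, ha⟩ := (InvX.isFrame_pullElt ι he).exists_coord le_rfl
    (AModX.res _ (le_top : ι ⁻¹ᵁ U ≤ ⊤) z)
  rw [AModX.res_self] at ha
  have hf : InvX.IsFrame (InvX.pullElt ι ((AmpleVan.mulSec τ M).app U e)) :=
    InvX.isFrame_pullElt ι (by rw [AmpleVan.mulSec_app]; exact InvX.isFrame_tmul he hτU)
  have h1 := congrArg (AModX.res _ (le_top : ι ⁻¹ᵁ U ≤ ⊤)) hz
  rw [map_zero, ← AModX.app_res, ha, Scheme.Modules.Hom.app_smul] at h1
  have h2 := congr(($((Scheme.Modules.pullbackPushforwardAdjunction ι).unit.naturality (AmpleVan.mulSec τ M))).app U e)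
  have h3 : a • InvX.pullElt ι ((AmpleVan.mulSec τ M).app U e) = 0 :=
    Eq.trans (congrArg (a • ·) h2) h1
  have h4 : a = 0 := hf.coord_unique le_rfl (by rw [AModX.res_self, zero_smul]; exact h3)
  rw [ha, h4, zero_smul, map_zero]

/-- A global lift of the twisted section gives a lift near the subscheme. -/
theorem exists_lift_near (hM : PicF.IsInvertible M) (τ : Γ(T, ⊤))
    (hτV : V ≤ AmpleX.locus τ) (z : Γ((Scheme.Modules.pullback ι).obj M, ⊤))
    (ζ : Γ(CohB1.tensorMod M T, ⊤))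
    (hζ : InvX.pullElt ι ζ = ((Scheme.Modules.pullback ι).map (AmpleVan.mulSec τ M)).app ⊤ z) :
    ∃ m : Γ(M, V), restr ι hV m = z ∧
      AModX.res _ (le_top : V ≤ ⊤) ζ = InvX.tmul m (AModX.res T (le_top : V ≤ ⊤) τ) := by
  have hτ : ∀ c, ι c ∈ AmpleX.locus τ := fun c => hτV (hV (show c ∈ (⊤ : Z.Opens) from trivial))
  obtain ⟨m, hm⟩ := exists_div hM (AmpleX.isFrame_res_of_le τ hτV) (AModX.res _ (le_top : V ≤ ⊤) ζ)
  refine ⟨m, injective_map_mulSec ι hM τ hτ ?_, hm⟩
  rw [← hζ, ← restr_map, AmpleVan.mulSec_app, ← hm, restr_res ι hV le_rfl (le_top : V ≤ ⊤) ζ]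
  exact AModX.res_self _

omit hV in
/-- Functions killed on a closed subscheme come from its ideal. -/
theorem exists_idealSect_of_app_eq_zero [IsClosedImmersion ι] (W : X.Opens) (a : Γ(X, W))
    (ha : ι.app W a = 0) : ∃ x, OmegaSh.idealSect ι.ker W x = a := by
  refine OmegaLib.exists_idealSect_eq ι.ker W a ?_
  let l := IsClosedImmersion.lift ι ι.ker.subschemeι (by rw [ι.ker.ker_subschemeι])
  have hl : l ≫ ι = ι.ker.subschemeι := IsClosedImmersion.lift_fac _ _ _
  refine app_eq_zero_of_eq hl W a ?_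
  show (l.app _) (ι.app W a) = 0
  rw [ha, map_zero]

omit hV in
theorem app_idealSect [IsClosedImmersion ι] (W : X.Opens) (x : Γ(ClSub.idealMod ι.ker, W)) :
    ι.app W (OmegaSh.idealSect ι.ker W x) = 0 := by
  let l := IsClosedImmersion.lift ι.ker.subschemeι ι (by rw [ι.ker.ker_subschemeι])
  have hl : l ≫ ι.ker.subschemeι = ι := IsClosedImmersion.lift_fac _ _ _
  refine app_eq_zero_of_eq hl W _ ?_
  show (l.app _) (ι.ker.subschemeι.app W _) = 0
  rw [OmegaLib.subschemeι_app_idealSect, map_zero]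

end Groth.Agent.ArInt
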