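import Groth.Agent.AmpleVan.Iter
import Groth.Agent.AmpleX.Sect
import Groth.Agent.QCoh.HHExact
import Groth.Agent.H23.TrivBasic
import Groth.Agent.InjQC.BoundedRep
import Groth.Agent.ArInt.ArtinContract
import Groth.Agent.Lib.InvEnd

/-!
# Writing a function in two generators after splitting a cocycle with sections of twists
-/

set_option autoImplicit false
set_option linter.style.haveILetI false
set_option linter.unusedSectionVars false
set_option backward.isDefEq.respectTransparency false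
set_option backward.isDefEq.respectTransparency.types false
set_option maxHeartbeats 1000000

universe u

open CategoryTheory CategoryTheory.Limits AlgebraicGeometry TopologicalSpace

noncomputable section

namespace Groth.Agent.ArInt

open Groth.Agent Groth.Agent.InvX

variable {X : Scheme.{u}}

theorem additive_itw {L : X.Modules} (hL : PicF.IsInvertible L) : ∀ n, (AmpleVan.itw L n).Additive
  | 0 => inferInstanceAs (𝟭 X.Modules).Additive
  | n + 1 => by
    haveI := additive_itw hL n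
    haveI : (AmpleVan.tw L).IsEquivalence := AmpleVan.isEquivalence_tw hL
    exact inferInstanceAs (AmpleVan.itw L n ⋙ AmpleVan.tw L).Additive

theorem shortExact_itw {L : X.Modules} (hL : PicF.IsInvertible L) {S : ShortComplex X.Modules}
    (hS : S.ShortExact) : ∀ n, ∃ (w : (AmpleVan.itw L n).map S.f ≫ (AmpleVan.itw L n).map S.g = 0),
      (ShortComplex.mk ((AmpleVan.itw L n).map S.f) ((AmpleVan.itw L n).map S.g) w).ShortExact
  | 0 => ⟨S.zero, hS⟩
  | n + 1 => by
    obtain ⟨w, h⟩ := shortExact_itw hL hS n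
    haveI : (AmpleVan.tw L).IsEquivalence := AmpleVan.isEquivalence_tw hL
    exact ⟨_, h.map_of_exact (AmpleVan.tw L)⟩

/-- Powers of a generating section send frames to frames. -/
theorem isFrame_pw {L : X.Modules} (σ : Γ(L, ⊤)) {U : X.Opens}
    (hσ : IsFrame (AModX.res L (le_top : U ≤ ⊤) σ)) {M : X.Modules} {e : Γ(M, U)} (he : IsFrame e) :
    ∀ n, IsFrame (((AmpleVan.pw σ n).app M).app U e)
  | 0 => he
  | n + 1 => InvX.isFrame_tmul (isFrame_pw σ hσ he n) hσ

theorem tmul_swap {P : X.Modules} (hP : PicF.IsInvertible P) {U : X.Opens} (a b : Γ(P, U)) :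
    InvX.tmul a b = InvX.tmul b a := by
  refine AModX.eq_of_locally _ _ fun p hp => ?_
  obtain ⟨W, hpW, e, he⟩ := InvX.exists_frame hP p
  refine ⟨U ⊓ W, inf_le_left, ⟨hp, hpW⟩, ?_⟩
  obtain ⟨α, hα⟩ := he.exists_coord (inf_le_right : U ⊓ W ≤ W) (AModX.res P inf_le_left a)
  obtain ⟨β, hβ⟩ := he.exists_coord (inf_le_right : U ⊓ W ≤ W) (AModX.res P inf_le_left b)
  rw [InvX.res_tmul, InvX.res_tmul, hα, hβ, InvX.tmul_smul_left, InvX.tmul_smul_right, InvX.tmul_smul_left,
    InvX.tmul_smul_right, ← mul_smul, ← mul_smul, mul_comm]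

/-- A function which is locally a multiple of one of two functions, compatibly, is a combination of the two on
the locus of a section, provided twists by its powers have no first cohomology after a further twist. -/
theorem exists_combination [CompactSpace X] [QuasiSeparatedSpace X] [IsIntegral X] {L P : X.Modules} (hL : PicF.IsInvertible L)
    (hP : PicF.IsInvertible P) (s : Coh.structureModule X ⟶ L) {V : X.Opens} (hV : CohB1.genLocus L s = V)
    (t : Γ(P, V)) (ht : IsFrame t) (G : Fin 2 → Γ(P, ⊤)) (hG1 : G 1 ≠ 0) (g : Fin 2 → Γ(X, V))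
    (hg : ∀ i, AModX.res P (le_top : V ≤ ⊤) (G i) = g i • t)
    (h : Γ(X, V)) (W : Fin 2 → X.Opens) (hW : ∀ i, W i ≤ V) (hcov : ∀ x ∈ V, ∃ i, x ∈ W i)
    (a : ∀ i, Γ(X, W i)) (ha : ∀ i, AModX.resR (hW i) h = a i * AModX.resR (hW i) (g i))
    (c : Γ(X, W 0 ⊓ W 1))
    (hc₀ : AModX.resR inf_le_left (a 0) = c * AModX.resR (inf_le_left.trans (hW 0)) (g 1))
    (hc₁ : AModX.resR inf_le_right (a 1) = c * AModX.resR (inf_le_left.trans (hW 0)) (g 0))
    (hvan : ∀ n, ∃ (R : X.Modules) (_ : PicF.IsInvertible R) (r : Γ(R, ⊤)),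
      IsFrame (AModX.res R (le_top : V ≤ ⊤) r) ∧
      Subsingleton (Coh.HH X ((AmpleVan.tw R).obj ((AmpleVan.itw L n).obj (Coh.structureModule X))) 1)) :
    ∃ b : Fin 2 → Γ(X, V), h = b 0 * g 0 + b 1 * g 1 := by
  let O := Coh.structureModule X
  -- the complex
  let φ : O ⟶ P ⊞ P := biprod.lift (InvX.ofSect (G 1)) (-InvX.ofSect (G 0))
  let μ : P ⊞ P ⟶ (AmpleVan.tw P).obj P := biprod.desc (AmpleVan.mulSec (G 0) P) (AmpleVan.mulSec (G 1) P)
  have hone : ∀ (i : Fin 2) (U : X.Opens), (InvX.ofSect (G i)).app U (show Γ(O, U) from (1 : Γ(X, U))) =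
      AModX.res P (le_top : U ≤ ⊤) (G i) := fun i U =>
    (Eq.trans (b := (1 : Γ(X, U)) • AModX.res P (le_top : U ≤ ⊤) (G i)) rfl (one_smul _ _))
  have hφμ : φ ≫ μ = 0 := by
    refine InvX.hom_ext_of_frames (fun _ : Unit => (⊤ : X.Opens)) (fun x => ⟨(), trivial⟩)
      (fun _ => (show Γ(O, ⊤) from (1 : Γ(X, ⊤)))) (fun _ => InvX.isFrame_one ⊤) fun _ => ?_
    simp only [φ, μ, biprod.lift_desc, Preadditive.neg_comp]
    show ((AmpleVan.mulSec (G 0) P).app ⊤ ((InvX.ofSect (G 1)).app ⊤ _)) +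
      -((AmpleVan.mulSec (G 1) P).app ⊤ ((InvX.ofSect (G 0)).app ⊤ _)) = 0
    rw [hone, hone, AmpleVan.mulSec_app, AmpleVan.mulSec_app, AModX.res_self, AModX.res_self, tmul_swap hP,
      add_neg_cancel]
  let q := cokernel.π φ
  let μ' : cokernel φ ⟶ (AmpleVan.tw P).obj P := cokernel.desc φ μ hφμ
  let ι : Fin 2 → (P ⟶ P ⊞ P) := ![biprod.inl, biprod.inr]
  have hι : ∀ (i : Fin 2) (U : X.Opens) (z : Γ(P, U)), μ'.app U (q.app U ((ι i).app U z)) =
      InvX.tmul z (AModX.res P (le_top : U ≤ ⊤) (G i)) := fun i U z => by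
    show (q ≫ μ').app U ((ι i).app U z) = _
    rw [cokernel.π_desc]
    show (ι i ≫ μ).app U z = _
    fin_cases i <;> (simp [ι, μ]; rfl)
  -- gluing in the cokernel
  let t' : ∀ U : X.Opens, U ≤ V → Γ(P, U) := fun U hU => AModX.res P hU t
  let Wl : ULift.{u} (Fin 2) → X.Opens := fun i => W i.down
  let z : ∀ i : ULift.{u} (Fin 2), Γ(cokernel φ, Wl i) := fun i =>
    q.app (W i.down) ((ι i.down).app (W i.down) (a i.down • t' _ (hW i.down)))
  have hG : ∀ (i : Fin 2) (U : X.Opens) (hU : U ≤ V), AModX.res P (le_top : U ≤ ⊤) (G i) =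
      AModX.resR hU (g i) • t' U hU := fun i U hU => by
    rw [← AModX.res_res (le_top : V ≤ ⊤) hU, hg, AModX.res_smul]
  have key : ∀ (U : X.Opens) (h0 : U ≤ W 0) (h1 : U ≤ W 1),
      AModX.res (cokernel φ) h0 (z ⟨0⟩) = AModX.res (cokernel φ) h1 (z ⟨1⟩) := by
    intro U h0 h1
    have hU : U ≤ V := h0.trans (hW 0)
    have hU' : U ≤ W 0 ⊓ W 1 := le_inf h0 h1
    show AModX.res (cokernel φ) h0 (q.app (W 0) ((ι 0).app (W 0) (a 0 • t' _ (hW 0)))) =
      AModX.res (cokernel φ) h1 (q.app (W 1) ((ι 1).app (W 1) (a 1 • t' _ (hW 1))))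
    rw [← AModX.app_res, ← AModX.app_res, ← AModX.app_res, ← AModX.app_res, AModX.res_smul, AModX.res_smul,
      show AModX.res P h0 (t' _ (hW 0)) = t' U hU from AModX.res_res _ _ _,
      show AModX.res P h1 (t' _ (hW 1)) = t' U hU from AModX.res_res _ _ _]
    have e0 := congrArg (AModX.resR hU') hc₀
    have e1 := congrArg (AModX.resR hU') hc₁
    rw [AModX.resR_resR, map_mul, AModX.resR_resR] at e0 e1
    rw [e0, e1, mul_smul, mul_smul, ← hG, ← hG]
    refine sub_eq_zero.1 ?_
    rw [← map_sub]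
    have hz : (φ ≫ q).app U (show Γ(O, U) from AModX.resR hU' c) = 0 := by rw [cokernel.condition]; rfl
    refine Eq.trans (congrArg (q.app U) ?_) hz
    have h2 : (show Γ(O, U) from AModX.resR hU' c) = AModX.resR hU' c • (show Γ(O, U) from (1 : Γ(X, U))) :=
      (mul_one (AModX.resR hU' c)).symm
    show (biprod.inl : P ⟶ P ⊞ P).app U _ - (biprod.inr : P ⟶ P ⊞ P).app U _ = φ.app U _
    rw [h2, Scheme.Modules.Hom.app_smul, show φ = InvX.ofSect (G 1) ≫ biprod.inl + (-InvX.ofSect (G 0)) ≫ biprod.inr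
      from biprod.lift_eq]
    simp only [Preadditive.neg_comp]
    show _ = (biprod.inl : P ⟶ P ⊞ P).app U ((InvX.ofSect (G 1)).app U _) +
      -((biprod.inr : P ⟶ P ⊞ P).app U ((InvX.ofSect (G 0)).app U _))
    have hs' : ∀ i : Fin 2, (InvX.ofSect (G i)).app U
        (AModX.resR hU' c • (show Γ(O, U) from (1 : Γ(X, U)))) = AModX.resR hU' c • AModX.res P (le_top : U ≤ ⊤) (G i) :=
      fun i => (Scheme.Modules.Hom.app_smul _ _ _).trans (congrArg (_ • ·) (hone i U))
    rw [← sub_eq_add_neg]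
    refine congrArg₂ (· - ·) ?_ ?_
    · exact (Scheme.Modules.Hom.app_smul (biprod.inl : P ⟶ P ⊞ P) _ _).symm.trans
        (congrArg ((biprod.inl : P ⟶ P ⊞ P).app U) (hs' 1).symm)
    · first
        | exact congrArg ((biprod.inr : P ⟶ P ⊞ P).app U) (hs' 0).symm
        | exact (Scheme.Modules.Hom.app_smul (biprod.inr : P ⟶ P ⊞ P) _ _).symm.trans
            (congrArg ((biprod.inr : P ⟶ P ⊞ P).app U) (hs' 0).symm)
  obtain ⟨Z, hZ, -⟩ := AModX.existsUnique_glue (M := cokernel φ) (V := V) Wl (fun i => hW i.down)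
    (fun x hx => (hcov x hx).elim fun i hi => ⟨⟨i⟩, hi⟩) z (fun ⟨i⟩ ⟨j⟩ => by
      fin_cases i <;> fin_cases j
      · rfl
      · exact key _ inf_le_left inf_le_right
      · exact (key _ inf_le_right inf_le_left).symm
      · rfl)
  have hμZ : μ'.app V Z = h • InvX.tmul t t := by
    refine AModX.eq_of_locally _ _ fun x hx => ?_
    obtain ⟨i, hi⟩ := hcov x hx
    refine ⟨W i, hW i, hi, ?_⟩
    rw [← AModX.app_res, show AModX.res (cokernel φ) (hW i) Z = z ⟨i⟩ from hZ ⟨i⟩]
    show μ'.app (W i) (q.app (W i) ((ι i).app (W i) _)) = _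
    rw [hι, hG i _ (hW i), AModX.res_smul]
    show InvX.tmul (a i • t' _ (hW i)) (AModX.resR (hW i) (g i) • t' _ (hW i)) =
      AModX.resR (hW i) h • AModX.res (CohB1.tensorMod P P) (hW i) (InvX.tmul t t)
    rw [InvX.res_tmul, InvX.tmul_smul_left, InvX.tmul_smul_right, ← mul_smul, ← ha i]
  -- extension and lifting
  have hPQ : Coh.IsQCoh P := ProjUPX.isQCoh_of_isInvertible hP
  have hQ : Coh.IsQCoh (cokernel φ) := QCoh.isQCoh_cokernel QCoh.isQCoh_structureModule
    (InjQC.isQCoh_biprod hPQ hPQ) φ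
  obtain ⟨n, T, hT₀⟩ := AmpleVan.exists_extend hQ hL s (AModX.res (cokernel φ) hV.le Z)
  have hT : AModX.res _ (le_top : V ≤ ⊤) T = ((AmpleVan.pw (InvX.one s) n).app (cokernel φ)).app V Z := by
    have := congrArg (AModX.res _ hV.ge) hT₀
    rw [AModX.res_res, ← AModX.app_res] at this
    refine this.trans (congrArg (((AmpleVan.pw (InvX.one s) n).app (cokernel φ)).app V) ?_)
    show AModX.res (cokernel φ) hV.ge (AModX.res (cokernel φ) hV.le Z) = Z
    rw [AModX.res_res]; exact AModX.res_self Z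
  obtain ⟨R, hR, r, hr, hH⟩ := hvan n
  haveI : Mono φ := by
    haveI : Mono (φ ≫ biprod.fst) := by
      rw [biprod.lift_fst]
      exact InvEnd.mono_of_ne_zero InvX.isInvertible_structureModule hP _ fun h0 => hG1 (by
        rw [← InvX.one_ofSect (G 1), h0]; rfl)
    exact mono_of_mono φ biprod.fst
  let S : ShortComplex X.Modules := ShortComplex.mk φ q (cokernel.condition φ)
  have hS : S.ShortExact :=
    { exact := ShortComplex.exact_of_g_is_cokernel _ (cokernelIsCokernel φ) }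
  obtain ⟨w, hSn⟩ := shortExact_itw hL hS n
  haveI : (AmpleVan.tw R).IsEquivalence := AmpleVan.isEquivalence_tw hR
  have hSR := hSn.map_of_exact (AmpleVan.tw R)
  obtain ⟨β, hβ⟩ := QCoh.app_top_surjective_of_HH_one hSR hH
    ((AmpleVan.mulSec r _).app ⊤ T)
  let σ := InvX.one s
  let F := AmpleVan.itw L n ⋙ AmpleVan.tw R
  let η : 𝟭 X.Modules ⟶ F :=
    { app := fun M => (AmpleVan.pw σ n).app M ≫ AmpleVan.mulSec r ((AmpleVan.itw L n).obj M)
      naturality := fun {M M'} f => by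
        show f ≫ _ ≫ _ = (_ ≫ _) ≫ _
        rw [← Category.assoc, show f ≫ (AmpleVan.pw σ n).app M' = (AmpleVan.pw σ n).app M ≫ (AmpleVan.itw L n).map f
          from (AmpleVan.pw σ n).naturality f, Category.assoc, AmpleVan.mulSec_naturality, Category.assoc]
        rfl }
  have hσ : IsFrame (AModX.res L (le_top : V ≤ ⊤) σ) := H23.TrivBasic.isFrame_res_of_le_locus (by
    intro x hx
    rw [locus_eq, ← AmpleX.genLocus_eq_locus, hV]
    exact hx)
  have hframe : ∀ {M : X.Modules} {e : Γ(M, V)}, IsFrame e → IsFrame ((η.app M).app V e) := fun {M e} he =>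
    InvX.isFrame_tmul (isFrame_pw σ hσ he n) hr
  have hnat : ∀ {M M' : X.Modules} (f : M ⟶ M') (z : Γ(M, V)),
      (F.map f).app V ((η.app M).app V z) = (η.app M').app V (f.app V z) := fun f z =>
    (congr(($(η.naturality f)).app V z)).symm
  have hβV : (F.map q).app V (AModX.res _ (le_top : V ≤ ⊤) β) = (η.app (cokernel φ)).app V Z := by
    refine (AModX.app_res (F.map q) (le_top : V ≤ ⊤) β).trans ?_
    refine (congrArg (AModX.res _ (le_top : V ≤ ⊤)) hβ).trans ?_
    refine (AModX.app_res (AmpleVan.mulSec r _) (le_top : V ≤ ⊤) T).symm.trans ?_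
    exact congrArg ((AmpleVan.mulSec r _).app V) hT
  let β' := AModX.res _ (le_top : V ≤ ⊤) β
  let pr : Fin 2 → (P ⊞ P ⟶ P) := ![biprod.fst, biprod.snd]
  have hcoord : ∀ i, ∃ b : Γ(X, V), (F.map (pr i)).app V β' = b • (η.app P).app V t := fun i => by
    obtain ⟨b, hb⟩ := (hframe ht).exists_coord le_rfl ((F.map (pr i)).app V β')
    rw [AModX.res_self] at hb
    exact ⟨b, hb⟩
  choose b hb using hcoord
  refine ⟨b, ?_⟩
  haveI : F.Additive := by
    haveI := additive_itw hL n
    haveI : (AmpleVan.tw R).Additive := inferInstance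
    infer_instance
  have htot : β' = (F.map (ι 0)).app V ((F.map (pr 0)).app V β') + (F.map (ι 1)).app V ((F.map (pr 1)).app V β') := by
    have e : F.map (pr 0) ≫ F.map (ι 0) + F.map (pr 1) ≫ F.map (ι 1) = 𝟙 _ := by
      rw [← F.map_comp, ← F.map_comp, ← F.map_add]
      show F.map (biprod.fst ≫ biprod.inl + biprod.snd ≫ biprod.inr) = _
      rw [biprod.total, F.map_id]
    exact (congr(($e).app V β')).symm
  have h1 : (F.map μ').app V ((F.map q).app V β') =
      (η.app ((AmpleVan.tw P).obj P)).app V (h • (InvX.tmul t t : Γ((AmpleVan.tw P).obj P, V))) :=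
    (congrArg ((F.map μ').app V) hβV).trans ((hnat μ' Z).trans (congrArg ((η.app _).app V) hμZ))
  rw [htot, map_add, map_add, hb, hb, Scheme.Modules.Hom.app_smul, Scheme.Modules.Hom.app_smul, hnat, hnat,
    Scheme.Modules.Hom.app_smul, Scheme.Modules.Hom.app_smul, hnat, hnat,
    Scheme.Modules.Hom.app_smul, Scheme.Modules.Hom.app_smul, hnat, hnat, hι, hι, hg, hg,
    InvX.tmul_smul_right, InvX.tmul_smul_right, Scheme.Modules.Hom.app_smul, Scheme.Modules.Hom.app_smul,
    Scheme.Modules.Hom.app_smul, ← mul_smul, ← mul_smul, ← add_smul] at h1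
  have hf := hframe (M := (AmpleVan.tw P).obj P) (e := InvX.tmul t t) (InvX.isFrame_tmul ht ht)
  exact (hf.coord_unique le_rfl (by rw [AModX.res_self]; exact h1)).symm

end Groth.Agent.ArInt
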