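import Groth.Agent.ArInt.Basic
import Groth.Agent.GmDiv.DimOne
import Groth.Agent.SurfRR.FiniteInter
import Groth.Agent.H23.FiniteFibreSum
import Groth.Agent.S0002
import Groth.Prelude.Def_ModelsG

/-!
# The intersection number with an effective divisor as a length
-/

set_option autoImplicit false
set_option linter.style.haveILetI false
set_option linter.unusedSectionVars false
set_option backward.isDefEq.respectTransparency false
set_option backward.isDefEq.respectTransparency.types false
set_option maxHeartbeats 1000000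

universe u

open CategoryTheory CategoryTheory.Limits AlgebraicGeometry TopologicalSpace
open Groth.Agent.H23.PicMul

noncomputable section

namespace Groth.Agent.ArInt

open Groth.Agent

/-- The sum of two ideals is the push forward of the trace of the first on the second. -/
theorem map_comap_eq_sup {Y X : Scheme.{u}} (ι : Y ⟶ X) [IsClosedImmersion ι] (D : X.IdealSheafData) :
    (D.comap ι).map ι = D ⊔ ι.ker := by
  refine le_antisymm ?_ ?_
  · let K := D ⊔ ι.ker
    have hker : ι.ker ≤ K.subschemeι.ker := by rw [K.ker_subschemeι]; exact le_sup_right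
    let w := IsClosedImmersion.lift ι K.subschemeι hker
    have hw : w ≫ ι = K.subschemeι := IsClosedImmersion.lift_fac _ _ hker
    have h1 : w.ker.map ι = K := by rw [Scheme.IdealSheafData.map_ker, hw, K.ker_subschemeι]
    have h2 : D.comap ι ≤ w.ker := by
      rw [← Scheme.IdealSheafData.le_map_iff_comap_le, h1]; exact le_sup_left
    exact (Scheme.IdealSheafData.map_mono ι h2).trans h1.le
  · rw [Scheme.IdealSheafData.le_map_iff_comap_le, Scheme.IdealSheafData.comap_sup]
    refine sup_le le_rfl ?_
    rw [← Scheme.IdealSheafData.map_bot ι]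
    exact (Scheme.IdealSheafData.comap_map_le _ _).trans bot_le

theorem ker_comp_subschemeι {Y X : Scheme.{u}} (ι : Y ⟶ X) [IsClosedImmersion ι] (D : X.IdealSheafData) :
    ((D.comap ι).subschemeι ≫ ι).ker = D ⊔ ι.ker := by
  rw [← Scheme.IdealSheafData.map_ker, Scheme.IdealSheafData.ker_subschemeι, map_comap_eq_sup]

variable {R : Type u} [CommRing R] [IsDomain R] [IsDiscreteValuationRing R]
  {X : Over (Spec (CommRingCat.of R))}

/-- A linear equivalence of cohomology from an isomorphism of modules. -/
def hhEquiv {A : Type u} [CommRing A] {Y : Scheme.{u}} [Y.Over (Spec (CommRingCat.of A))] {M N : Y.Modules}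
    (e : M ≅ N) (i : ℕ) : Coh.HH Y M i ≃ₗ[A] Coh.HH Y N i :=
  LinearEquiv.ofBijective (PnCoh.Finite.mapLin A e.hom i) (by
    have h : ∀ {P Q : Y.Modules} (e : P ≅ Q) (y : Coh.HH Y Q i),
        PnCoh.Finite.mapLin A e.hom i (PnCoh.Finite.mapLin A e.inv i y) = y := fun e y =>
      (PnCoh.Finite.map_map (Y := Y.toPresheafedSpace.carrier)
        (((QCoh.toAbFunctor Y).map_comp e.inv e.hom).symm.trans
          (by rw [e.inv_hom_id, CategoryTheory.Functor.map_id]; rfl)) i y).trans (Sheaf.H.map_id_apply y)
    exact Function.bijective_iff_has_inverse.mpr ⟨PnCoh.Finite.mapLin A e.inv i, fun x => h e.symm x, h e⟩)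

theorem toGlobal_comp {A B : Type u} [CommRing A] [CommRing B] {Z : Scheme.{u}}
    (f : Z ⟶ Spec (CommRingCat.of B)) (φ : A →+* B) :
    Coh.toGlobal (f ≫ Spec.map (CommRingCat.ofHom φ)) = (Coh.toGlobal f).comp φ := by
  ext a
  have h := ConcreteCategory.congr_hom (Scheme.ΓSpecIso_inv_naturality (CommRingCat.ofHom φ)) a
  exact congrArg f.appTop h.symm

variable [IsSurf X] (Γ : ArSurf.VertComp R X)

/-- The length of the scheme-theoretic intersection. -/
theorem inter_eq_length {D : X.left.IdealSheafData} (hD : BlowUp.IsEffCartierIdeal D)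
    (hη : Γ.ι (genericPoint Γ.curve.left) ∉ (D.support : Set X.left))
    {L : X.left.Modules} (hL : ClSub.IsInverseOf L (ClSub.idealMod D)) :
    ArSurf.inter R X L Γ = (Models.lengthH R X (ClSub.quotMod (D ⊔ Γ.ι.ker)) 0 : ℤ) ∧
      (ArSurf.inter R X L Γ = 0 ↔ Disjoint (Set.range Γ.ι) (D.support : Set X.left)) := by
  let k := IsLocalRing.ResidueField R
  let C := Γ.curve.left
  haveI : IsNoetherian C := CurveCohLib.isNoetherian_of_proper (k := k)
  let J := D.comap Γ.ι
  have hJ : BlowUp.IsEffCartierIdeal J := Big.isEffCartier_comap Γ.ι hD hη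
  have hJs : (J.support : Set C) = Γ.ι ⁻¹' (D.support : Set X.left) := by
    rw [Scheme.IdealSheafData.support_comap]; rfl
  have hclosed : ∀ x ∈ CohB1.support (ClSub.quotMod J), IsClosed ({x} : Set C) := fun x hx => by
    refine GmDiv.isClosed_singleton_of_dim Γ.dim_eq.le fun h => hη ?_
    have hx' := Big.support_quotMod_subset J hx
    rw [hJs] at hx'
    rwa [h (genericPoint C) ((genericPoint_spec C).specializes (Set.mem_univ x))]
  -- the intersection number as a dimension
  have hDi := Big.isInvertible_ideal hD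
  have hJi := Big.isInvertible_ideal hJ
  have h1 : ArSurf.inter R X L Γ = Curv2.euler k C (ClSub.quotMod J) := by
    rw [inter_inverse Γ hDi hL, inter_eq_deg Γ hDi]
    obtain ⟨e⟩ := cl_eq_iff.1 (Big.cl_idealMod_comap Γ.ι D hD hJ)
    rw [CurveRR.deg_congr _ e 1]
    have hqc : Coh.IsCoh (ClSub.quotMod J) := ParShLib.isCoh_quotMod J
    have h := Euler.euler_add k (ExtShX.shortExact_toSubscheme J) (AmpleVan.isCoh_invertible hJi)
      (RefX.isCoh_unit (X := C)) hqc
    change Curv2.euler k C (Coh.structureModule C) =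
      Curv2.euler k C (ClSub.idealMod J) + Curv2.euler k C (ClSub.quotMod J) at h
    simp only [Curv2.deg, Nat.cast_one, one_mul]
    linarith
  have h2 : Curv2.euler k C (ClSub.quotMod J) = Module.finrank k (Coh.HH C (ClSub.quotMod J) 0) :=
    CurveCohLib.euler_eq_finrank_zero (ParShLib.isCoh_quotMod J) hclosed
  -- the transfer to the intersection scheme
  let j := J.subschemeι ≫ Γ.ι
  letI : J.subscheme.Over (Spec (CommRingCat.of R)) := ⟨j ≫ X.hom⟩
  letI : J.subscheme.Over (Spec (CommRingCat.of k)) := ⟨J.subschemeι ≫ Γ.curve.hom⟩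
  obtain ⟨q⟩ := ExtShX.nonempty_push_iso_quotMod j
  rw [show j.ker = D ⊔ Γ.ι.ker from ker_comp_subschemeι Γ.ι D] at q
  obtain ⟨p⟩ := ExtShX.nonempty_push_iso_quotMod J.subschemeι
  rw [J.ker_subschemeι] at p
  obtain ⟨a⟩ := PnCoh.exists_linearEquiv_push R j rfl (M := Coh.structureModule J.subscheme)
    QCoh.isQCoh_structureModule 0
  obtain ⟨b⟩ := PnCoh.exists_linearEquiv_push k J.subschemeι rfl (M := Coh.structureModule J.subscheme)
    QCoh.isQCoh_structureModule 0
  have hb := b.trans (hhEquiv p 0)
  haveI := S0002.result k C _ (ParShLib.isCoh_quotMod J) 0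
  haveI : Module.Finite k (Coh.HH J.subscheme (Coh.structureModule J.subscheme) 0) :=
    Module.Finite.equiv hb.symm
  haveI : IsScalarTower R k (Coh.HH J.subscheme (Coh.structureModule J.subscheme) 0) :=
    IsScalarTower.of_algebraMap_smul fun r x => by
      show Coh.toGlobal (J.subschemeι ≫ Γ.curve.hom) (IsLocalRing.residue R r) • x =
        Coh.toGlobal (j ≫ X.hom) r • x
      congr 1
      have he : j ≫ X.hom =
          (J.subschemeι ≫ Γ.curve.hom) ≫ Spec.map (CommRingCat.ofHom (IsLocalRing.residue R)) := by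
        simp only [j, Category.assoc, Γ.w]
      rw [he]
      exact (RingHom.congr_fun (toGlobal_comp (J.subschemeι ≫ Γ.curve.hom) (IsLocalRing.residue R)) r).symm
  have h3 : Models.lengthH R X (ClSub.quotMod (D ⊔ Γ.ι.ker)) 0 =
      Module.finrank k (Coh.HH C (ClSub.quotMod J) 0) := by
    unfold Models.lengthH
    rw [← (a.trans (hhEquiv q 0)).length_eq,
      Module.length_eq_of_surjective (R := k) (IsLocalRing.residue_surjective),
      H23.FiniteFibreSum.length_eq_finrank, ENat.toNat_coe, hb.finrank_eq]
  refine ⟨by rw [h1, h2, h3], ?_⟩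
  rw [h1]
  constructor
  · intro h
    have hz := CurveCohLib.isZero_of_euler_eq_zero (ParShLib.isCoh_quotMod J) hclosed h
    rw [Set.disjoint_left]
    rintro _ ⟨c, rfl⟩ hc
    have hc' : c ∈ J.support := by
      rw [← SetLike.mem_coe, hJs]; exact hc
    exact CurveCohLib.GlobGen.nontrivial_stalk_quotMod J hc'
      (ModuleCat.subsingleton_of_isZero ((DerSch.stalkFunctor C c).map_isZero hz))
  · intro h
    refine CurveSlope.euler_eq_zero_of_isZero k (KFlatLib.isZero_of_stalk _ fun c => ?_)
    haveI : Subsingleton (ParShLib.stk (ClSub.quotMod J) c) := ParShLib.subsingleton_stalk_quotMod J fun hc => by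
      rw [← SetLike.mem_coe, hJs] at hc
      exact Set.disjoint_left.mp h ⟨c, rfl⟩ hc
    exact ModuleCat.isZero_of_iff_subsingleton.mpr ‹_›

end Groth.Agent.ArInt
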