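import Groth.Agent.ArInt.Basic
import Groth.Agent.ArInt.Inter
import Groth.Agent.CurveBC.Coh
import Groth.Agent.CurveEmbed.Line
import Groth.Agent.CurveEmbed.P1
import Groth.Agent.GeomField.GlobalFunctions
import Groth.Agent.CurveReg.NefBC
import Groth.Agent.S1697
import Groth.Agent.S7810
import Groth.Prelude.Def_ModelsG

/-!
# Exceptional curves of the first kind by numbers
-/

set_option autoImplicit false
set_option linter.style.haveILetI false
set_option linter.unusedSectionVars false
set_option backward.isDefEq.respectTransparency false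
set_option backward.isDefEq.respectTransparency.types false
set_option maxHeartbeats 1000000
set_option synthInstance.maxHeartbeats 80000

universe u

open CategoryTheory CategoryTheory.Limits AlgebraicGeometry TopologicalSpace
open Groth.Agent.H23.PicMul

noncomputable section

namespace Groth.Agent.ArInt

open Groth.Agent

section Scalars

/-- Dimensions under a finite extension of the base field. -/
theorem finrank_over {k K : Type u} [Field k] [Field K] (C : Scheme.{u})
    [C.Over (Spec (CommRingCat.of k))] [C.Over (Spec (CommRingCat.of K))] (φ : k →+* K)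
    (h : (C ↘ Spec (CommRingCat.of k)) = (C ↘ Spec (CommRingCat.of K)) ≫ Spec.map (CommRingCat.ofHom φ))
    (M : C.Modules) (i : ℕ) :
    Module.finrank k (Coh.HH C M i) = Models.homDegree φ * Module.finrank K (Coh.HH C M i) := by
  letI : Algebra k K := φ.toAlgebra
  haveI : IsScalarTower k K (Coh.HH C M i) := IsScalarTower.of_algebraMap_smul fun r x => by
    show Coh.toGlobal (C ↘ Spec (CommRingCat.of K)) (φ r) • x = Coh.toGlobal (C ↘ Spec (CommRingCat.of k)) r • x
    congr 1
    rw [h]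
    exact (RingHom.congr_fun (toGlobal_comp (C ↘ Spec (CommRingCat.of K)) φ) r).symm
  exact (Module.finrank_mul_finrank k K (Coh.HH C M i)).symm

/-- Degrees under a finite extension of the base field. -/
theorem deg_over {k K : Type u} [Field k] [Field K] (C : Scheme.{u})
    [C.Over (Spec (CommRingCat.of k))] [C.Over (Spec (CommRingCat.of K))] (φ : k →+* K)
    (h : (C ↘ Spec (CommRingCat.of k)) = (C ↘ Spec (CommRingCat.of K)) ≫ Spec.map (CommRingCat.ofHom φ))
    [IsProper (C ↘ Spec (CommRingCat.of k))] [IsProper (C ↘ Spec (CommRingCat.of K))]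
    (hd : topologicalKrullDim C ≤ 1) {M : C.Modules} (hM : PicF.IsInvertible M) :
    Curv2.deg k C M 1 = (Models.homDegree φ : ℤ) * Curv2.deg K C M 1 := by
  haveI := CurveCohLib.isNoetherian_of_proper (k := k) (X := C)
  have key : ∀ F : C.Modules, Coh.IsCoh F →
      Curv2.euler k C F = (Models.homDegree φ : ℤ) * Curv2.euler K C F := fun F hF => by
    rw [CurveReg.euler_eq k hd hF, CurveReg.euler_eq K hd hF, finrank_over C φ h F 0, finrank_over C φ h F 1]
    push_cast
    ring
  simp only [Curv2.deg, Nat.cast_one, one_mul]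
  rw [key M (CurveDeg.isCoh_of_isInvertible hM), key _ (RefX.isCoh_unit (X := C))]
  ring

end Scalars

section Line

variable (K : Type u) [Field K]

/-- The line over its field. -/
@[reducible] def lineOver : (CohB1.ProjSpace 1 K).Over (Spec (CommRingCat.of K)) := ⟨CohB1.ProjSpace.toSpec 1 K⟩

attribute [local instance] lineOver

theorem isProper_line : IsProper ((CohB1.ProjSpace 1 K) ↘ Spec (CommRingCat.of K)) :=
  PnCoh.Chow.isProper_toSpec 1 K

theorem dim_line : topologicalKrullDim ↥(CohB1.ProjSpace 1 K) = 1 := by simpa using S10829.result K 1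

theorem isInvertible_twist (d : ℤ) : PicF.IsInvertible (Twist.twistProjSpace 1 K d) :=
  PnCoh.Finite.isInvertible_twist (fun j : ULift.{u} (Fin (1 + 1)) => MvPolynomial.X j.down)
    (fun j => ProjPt.X_mem j.down) (by
      refine top_le_iff.1 ((AmpleEmbed.iSup_basicOpen_X 1 K).ge.trans (iSup_le fun j => ?_))
      exact le_iSup_of_le (ULift.up j) le_rfl) d

theorem euler_line_structure : Curv2.euler K (CohB1.ProjSpace 1 K) (Coh.structureModule _) = 1 := by
  haveI := isProper_line K
  haveI := CurveCohLib.isNoetherian_of_proper (k := K) (X := CohB1.ProjSpace 1 K)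
  rw [CurveReg.euler_eq K (dim_line K).le (RefX.isCoh_unit (X := CohB1.ProjSpace 1 K)),
    (S7810.projLine_facts K).1, show Module.finrank K (Coh.HH (CohB1.ProjSpace 1 K) (Coh.structureModule _) 1) = 0
      from (S7810.projLine_facts K).2]
  norm_num

theorem deg_twist_nat (d : ℕ) : Curv2.deg K (CohB1.ProjSpace 1 K) (Twist.twistProjSpace 1 K (d : ℤ)) 1 = d := by
  haveI := isProper_line K
  haveI := CurveCohLib.isNoetherian_of_proper (k := K) (X := CohB1.ProjSpace 1 K)
  simp only [Curv2.deg, Nat.cast_one, one_mul]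
  rw [euler_line_structure, CurveReg.euler_eq K (dim_line K).le (CurveDeg.isCoh_of_isInvertible (isInvertible_twist K d))]
  obtain ⟨φ⟩ := S0843.result K 1 d
  haveI := S0844.result K 1 (d : ℤ) 1 (fun h => absurd h.1 one_ne_zero) (fun h => absurd h.2 (by omega))
  rw [φ.finrank_eq, CurveEmbed.finrank_binary, Module.finrank_zero_of_subsingleton]
  push_cast
  ring

/-- The only module of degree one on the line. -/
theorem nonempty_iso_twist_one {N : (CohB1.ProjSpace 1 K).Modules} (hN : PicF.IsInvertible N)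
    (hdeg : Curv2.deg K (CohB1.ProjSpace 1 K) N 1 = 1) : Nonempty (N ≅ Twist.twistProjSpace 1 K 1) := by
  haveI := isProper_line K
  haveI := CurveCohLib.isNoetherian_of_proper (k := K) (X := CohB1.ProjSpace 1 K)
  obtain ⟨d, ⟨e⟩⟩ := S1697.result K 1 N hN
  rw [CurveRR.deg_congr K e 1] at hdeg
  rcases lt_or_ge d 0 with hd | hd
  · exfalso
    simp only [Curv2.deg, Nat.cast_one, one_mul] at hdeg
    rw [euler_line_structure, CurveReg.euler_eq K (dim_line K).le
      (CurveDeg.isCoh_of_isInvertible (isInvertible_twist K d))] at hdeg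
    haveI := S0844.result K 1 d 0 (fun h => absurd h.2 (by omega)) (fun h => absurd h.1 (by omega))
    rw [Module.finrank_zero_of_subsingleton] at hdeg
    omega
  · obtain ⟨m, rfl⟩ := Int.eq_ofNat_of_zero_le hd
    rw [deg_twist_nat] at hdeg
    rw [hdeg] at e
    exact ⟨e⟩

/-- Global functions on the line are constant. -/
theorem bijective_appTop_line : Function.Bijective (CohB1.ProjSpace.toSpec 1 K).appTop := by
  haveI := isProper_line K
  haveI : IsIntegral (CohB1.ProjSpace 1 K) := H23.PnChart.isIntegral_projSpace 1 K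
  letI := GeomField.globalAlgebra K (CohB1.ProjSpace 1 K)
  have h1 : Module.finrank K Γ(CohB1.ProjSpace 1 K, ⊤) = 1 :=
    (GeomField.finrank_HH_zero K _).symm.trans (S7810.projLine_facts K).1
  haveI : Nonempty ((⊤ : (CohB1.ProjSpace 1 K).Opens) : Scheme) := ⟨⟨genericPoint _, trivial⟩⟩
  have hne : (1 : Γ(CohB1.ProjSpace 1 K, ⊤)) ≠ 0 := one_ne_zero
  have hb : Function.Bijective (algebraMap K Γ(CohB1.ProjSpace 1 K, ⊤)) := by
    refine ⟨(algebraMap K Γ(CohB1.ProjSpace 1 K, ⊤)).injective, fun y => ?_⟩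
    obtain ⟨c, hc⟩ := (finrank_eq_one_iff_of_nonzero' (1 : Γ(CohB1.ProjSpace 1 K, ⊤)) hne).1 h1 y
    exact ⟨c, by rw [Algebra.algebraMap_eq_smul_one, hc]⟩
  have hb' := hb.comp (ConcreteCategory.bijective_of_isIso (Scheme.ΓSpecIso (CommRingCat.of K)).hom)
  refine (Function.Bijective.of_comp_iff' (f := id) Function.bijective_id _).1 ?_
  convert hb' using 1
  funext x
  show (CohB1.ProjSpace.toSpec 1 K).appTop x =
    (CohB1.ProjSpace.toSpec 1 K).appTop ((Scheme.ΓSpecIso (CommRingCat.of K)).inv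
      ((Scheme.ΓSpecIso (CommRingCat.of K)).hom x))
  rw [Iso.hom_inv_id_apply]

end Line

section Exc

attribute [local instance] lineOver

variable {R : Type u} [CommRing R] [IsDomain R] [IsDiscreteValuationRing R]
  {X : Over (Spec (CommRingCat.of R))} [IsSurf X] (Γ₀ : ArSurf.VertComp R X)

theorem isPullback_iso_over {k : Type u} [Field k] {C P : Scheme.{u}} [C.Over (Spec (CommRingCat.of k))]
    [P.Over (Spec (CommRingCat.of k))] (e : C ≅ P)
    (he : e.hom ≫ (P ↘ Spec (CommRingCat.of k)) = C ↘ Spec (CommRingCat.of k)) :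
    IsPullback e.hom (C ↘ Spec (CommRingCat.of k)) (P ↘ Spec (CommRingCat.of k))
      (Spec.map (CommRingCat.ofHom (algebraMap k k))) := by
  haveI : IsIso (Spec.map (CommRingCat.ofHom (algebraMap k k))) := by
    rw [show CommRingCat.ofHom (algebraMap k k) = 𝟙 (CommRingCat.of k) from rfl]
    infer_instance
  refine IsPullback.of_horiz_isIso ⟨?_⟩
  rw [show CommRingCat.ofHom (algebraMap k k) = 𝟙 (CommRingCat.of k) from rfl, Spec.map_id, Category.comp_id]
  exact he

/-- Exceptional curves of the first kind have genus zero and self-intersection minus the degree of constants. -/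
theorem numbers_of_isExcCurve {L : X.left.Modules} (hL : ClSub.IsInverseOf L (ClSub.idealMod Γ₀.ι.ker))
    (h : Models.IsExcCurve Γ₀.ι) :
    Models.h1 R X Γ₀ = 0 ∧ ArSurf.inter R X L Γ₀ = -(Models.wdeg R X Γ₀ : ℤ) := by
  obtain ⟨hI, K, _, e, ⟨τ⟩⟩ := h
  let k := IsLocalRing.ResidueField R
  let C := Γ₀.curve.left
  let P := CohB1.ProjSpace 1 K
  haveI := isProper_curve_over Γ₀
  haveI : IsProper (P ↘ Spec (CommRingCat.of K)) := isProper_line K
  letI : C.Over (Spec (CommRingCat.of K)) := ⟨e.inv ≫ CohB1.ProjSpace.toSpec 1 K⟩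
  haveI : IsProper (C ↘ Spec (CommRingCat.of K)) := inferInstanceAs (IsProper (e.inv ≫ (P ↘ Spec (CommRingCat.of K))))
  haveI := CurveCohLib.isNoetherian_of_proper (k := K) (X := P)
  let s := C ↘ Spec (CommRingCat.of k)
  let ε := RingEquiv.ofBijective (CohB1.ProjSpace.toSpec 1 K).appTop.hom (bijective_appTop_line K)
  let φ : k →+* K := (Scheme.ΓSpecIso (CommRingCat.of K)).hom.hom.comp (ε.symm.toRingHom.comp
    ((e.hom ≫ s).appTop.hom.comp (Scheme.ΓSpecIso (CommRingCat.of k)).inv.hom))
  have hfac : e.hom ≫ s = CohB1.ProjSpace.toSpec 1 K ≫ Spec.map (CommRingCat.ofHom φ) := by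
    refine ext_of_isAffine ?_
    ext x
    rw [Scheme.Hom.comp_appTop (CohB1.ProjSpace.toSpec 1 K)]
    show (e.hom ≫ s).appTop x = (CohB1.ProjSpace.toSpec 1 K).appTop ((Spec.map (CommRingCat.ofHom φ)).appTop x)
    have hx : (Spec.map (CommRingCat.ofHom φ)).appTop x =
        (Scheme.ΓSpecIso (CommRingCat.of K)).inv (φ ((Scheme.ΓSpecIso (CommRingCat.of k)).hom x)) := by
      have h := ConcreteCategory.congr_hom (Scheme.ΓSpecIso_naturality (CommRingCat.ofHom φ)) x
      refine ((Scheme.ΓSpecIso (CommRingCat.of K)).hom_inv_id_apply _).symm.trans ?_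
      exact congrArg (Scheme.ΓSpecIso (CommRingCat.of K)).inv h
    rw [hx]
    show _ = (CohB1.ProjSpace.toSpec 1 K).appTop ((Scheme.ΓSpecIso (CommRingCat.of K)).inv
      ((Scheme.ΓSpecIso (CommRingCat.of K)).hom (ε.symm ((e.hom ≫ s).appTop
        ((Scheme.ΓSpecIso (CommRingCat.of k)).inv ((Scheme.ΓSpecIso (CommRingCat.of k)).hom x))))))
    rw [Iso.hom_inv_id_apply, Iso.hom_inv_id_apply]
    exact (ε.apply_symm_apply _).symm
  have hs : s = (C ↘ Spec (CommRingCat.of K)) ≫ Spec.map (CommRingCat.ofHom φ) := by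
    show s = (e.inv ≫ CohB1.ProjSpace.toSpec 1 K) ≫ _
    rw [Category.assoc, ← hfac, Iso.inv_hom_id_assoc]
  have hpb := isPullback_iso_over (k := K) e (show e.hom ≫ e.inv ≫ CohB1.ProjSpace.toSpec 1 K = _ by
    rw [Iso.hom_inv_id_assoc]; rfl)
  haveI : CompactSpace C := QuasiCompact.compactSpace_of_compactSpace (C ↘ Spec (CommRingCat.of K))
  haveI : QuasiSeparatedSpace C := quasiSeparatedSpace_of_quasiSeparated (C ↘ Spec (CommRingCat.of K))
  have hw : Models.wdeg R X Γ₀ = Models.homDegree φ := by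
    show Module.finrank k (Coh.HH C (Coh.structureModule C) 0) = _
    rw [finrank_over C φ hs, ← CurveBC.finrank_hh_unit K K e.hom hpb 0, (S7810.projLine_facts K).1, mul_one]
  refine ⟨?_, ?_⟩
  · show Module.finrank k (Coh.HH C (Coh.structureModule C) 1) = _
    rw [finrank_over C φ hs, ← CurveBC.finrank_hh_unit K K e.hom hpb 1,
      show Module.finrank K (Coh.HH P (Coh.structureModule P) 1) = 0 from (S7810.projLine_facts K).2, mul_zero]
  have hIi := Big.isInvertible_ideal hI
  have hN : PicF.IsInvertible ((Scheme.Modules.pullback Γ₀.ι).obj (ClSub.idealMod Γ₀.ι.ker)) :=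
    PicClLib.isInvertible_pullback _ hIi
  rw [inter_inverse Γ₀ hIi hL, inter_eq_deg Γ₀ hIi, deg_over C φ hs Γ₀.dim_eq.le hN, hw,
    ← CurveBC.deg_eq K K e.hom hpb _ (ProjUPX.isQCoh_of_isInvertible hN) 1,
    CurveRR.deg_congr K (show (Scheme.Modules.pullback e.hom).obj ((Scheme.Modules.pullback Γ₀.ι).obj
      (ClSub.idealMod Γ₀.ι.ker)) ≅ _ from (Scheme.Modules.pullbackComp e.hom Γ₀.ι).app _ ≪≫ τ) 1,
    show (1 : ℤ) = ((1 : ℕ) : ℤ) from rfl, deg_twist_nat]
  push_cast
  ring

/-- Genus zero and self-intersection minus the degree of constants make an exceptional curve. -/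
theorem isExcCurve_of_numbers {L : X.left.Modules} (hL : ClSub.IsInverseOf L (ClSub.idealMod Γ₀.ι.ker))
    (h1 : Models.h1 R X Γ₀ = 0) (hI2 : ArSurf.inter R X L Γ₀ = -(Models.wdeg R X Γ₀ : ℤ)) :
    Models.IsExcCurve Γ₀.ι := by
  let k := IsLocalRing.ResidueField R
  let C := Γ₀.curve.left
  haveI : IsIntegral C := Γ₀.isIntegral
  haveI := isProper_curve_over Γ₀
  haveI := CurveCohLib.isNoetherian_of_proper (k := k) (X := C)
  letI : Field Γ(C, ⊤) := (GeomField.isField_globalFunctions k C).toField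
  let s := C ↘ Spec (CommRingCat.of k)
  let φ : k →+* Γ(C, ⊤) := s.appTop.hom.comp (Scheme.ΓSpecIso (CommRingCat.of k)).inv.hom
  letI : C.Over (Spec (CommRingCat.of Γ(C, ⊤))) := ⟨C.toSpecΓ⟩
  have hs : s = (C ↘ Spec (CommRingCat.of Γ(C, ⊤))) ≫ Spec.map (CommRingCat.ofHom φ) := by
    show s = C.toSpecΓ ≫ Spec.map ((Scheme.ΓSpecIso (CommRingCat.of k)).inv ≫ s.appTop)
    rw [Spec.map_comp, ← Category.assoc, ← Scheme.toSpecΓ_naturality, Category.assoc,
      show (Spec (CommRingCat.of k)).toSpecΓ ≫ Spec.map (Scheme.ΓSpecIso (CommRingCat.of k)).inv = 𝟙 _ from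
        AlgebraicGeometry.toSpecΓ_SpecMap_ΓSpecIso_inv _, Category.comp_id]
  haveI : IsProper (C ↘ Spec (CommRingCat.of Γ(C, ⊤))) := by
    haveI : IsProper ((C ↘ Spec (CommRingCat.of Γ(C, ⊤))) ≫ Spec.map (CommRingCat.ofHom φ)) := hs ▸ inferInstanceAs (IsProper s)
    exact IsProper.of_comp _ (Spec.map (CommRingCat.ofHom φ))
  haveI : CompactSpace C := QuasiCompact.compactSpace_of_compactSpace s
  have hI := isEffCartier_ker Γ₀
  have hIi := Big.isInvertible_ideal hI
  have hN : PicF.IsInvertible ((Scheme.Modules.pullback Γ₀.ι).obj (ClSub.idealMod Γ₀.ι.ker)) :=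
    PicClLib.isInvertible_pullback _ hIi
  have hw : Models.wdeg R X Γ₀ = Models.homDegree φ := by
    show Module.finrank k (Coh.HH C (Coh.structureModule C) 0) = _
    exact GeomField.finrank_HH_zero k C
  have hpos : 0 < Models.homDegree φ := by
    haveI := CurveCohLib.finite_HH (k := k) (RefX.isCoh_unit (X := C)) 0
    rw [← hw]
    let e : Coh.HH C (Coh.structureModule C) 0 ≃ Γ(C, ⊤) :=
      (Sheaf.H.equiv₀ (Coh.toAb (Coh.structureModule C)) isTerminalTop).toEquiv
    haveI : Nontrivial (Coh.HH C (Coh.structureModule C) 0) := e.nontrivial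
    exact Module.finrank_pos
  have hsub : Subsingleton (Coh.HH C (Coh.structureModule C) 1) := by
    haveI := CurveCohLib.finite_HH (k := k) (RefX.isCoh_unit (X := C)) 1
    exact Module.finrank_zero_iff.1 h1
  have hdeg : Curv2.deg Γ(C, ⊤) C ((Scheme.Modules.pullback Γ₀.ι).obj (ClSub.idealMod Γ₀.ι.ker)) 1 = 1 := by
    rw [inter_inverse Γ₀ hIi hL, inter_eq_deg Γ₀ hIi, deg_over C φ hs Γ₀.dim_eq.le hN, hw, neg_inj] at hI2
    exact mul_left_cancel₀ (by omega : (Models.homDegree φ : ℤ) ≠ 0) (hI2.trans (mul_one _).symm)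
  obtain ⟨e, he⟩ := CurveEmbed.exists_iso_line Γ(C, ⊤) Γ₀.dim_eq hsub hN hdeg
  haveI : IsProper ((CohB1.ProjSpace 1 Γ(C, ⊤)) ↘ Spec (CommRingCat.of Γ(C, ⊤))) := isProper_line _
  have hpb := isPullback_iso_over (k := Γ(C, ⊤)) e.symm (show e.inv ≫ C.toSpecΓ = _ by
    rw [show C.toSpecΓ = _ from he.symm, Iso.inv_hom_id_assoc]; rfl)
  have h1N := CurveBC.deg_eq Γ(C, ⊤) Γ(C, ⊤) e.symm.hom hpb _ (ProjUPX.isQCoh_of_isInvertible hN) 1
  rw [hdeg] at h1N
  obtain ⟨τ⟩ := nonempty_iso_twist_one Γ(C, ⊤) (PicClLib.isInvertible_pullback _ hN) h1N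
  exact ⟨hI, Γ(C, ⊤), inferInstance, e.symm,
    ⟨((Scheme.Modules.pullbackComp e.symm.hom Γ₀.ι).app _).symm ≪≫ τ⟩⟩

end Exc

end Groth.Agent.ArInt
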