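import Groth.Agent.ArInt.RatTree
import Groth.Agent.CurveDiv.Basic
import Groth.Agent.ArInt.ExcCurve
import Groth.Agent.H23.TwistAmple
import Mathlib.LinearAlgebra.Dimension.Basic

/-!
# A vertical curve isomorphic to a projective line over a finite extension
-/

set_option autoImplicit false
set_option linter.style.haveILetI false
set_option linter.unusedSectionVars false
set_option backward.isDefEq.respectTransparency false
set_option backward.isDefEq.respectTransparency.types false
set_option maxHeartbeats 1000000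
set_option synthInstance.maxHeartbeats 80000

universe u

open CategoryTheory CategoryTheory.Limits AlgebraicGeometry TopologicalSpace
open Groth.Agent.H23.PicMul

noncomputable section

namespace Groth.Agent.ArInt

open Groth.Agent

attribute [local instance] lineOver

variable {R : Type u} [CommRing R] [IsDomain R] [IsDiscreteValuationRing R]
  {X : Over (Spec (CommRingCat.of R))} (Γ₀ : ArSurf.VertComp R X)
  {K : Type u} [Field K] [Algebra (IsLocalRing.ResidueField R) K] [FiniteDimensional (IsLocalRing.ResidueField R) K]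
  (e : Γ₀.curve.left ≅ CohB1.ProjSpace 1 K)
  (he : e.hom ≫ CohB1.ProjSpace.toSpec 1 K ≫
    Spec.map (CommRingCat.ofHom (algebraMap (IsLocalRing.ResidueField R) K)) = Γ₀.curve.hom)

include he in
/-- Dimensions of cohomology and degrees on a line over a finite extension. -/
theorem numbers_of_line [IsSurf X] :
    Models.h1 R X Γ₀ = 0 ∧ Models.wdeg R X Γ₀ = Module.finrank (IsLocalRing.ResidueField R) K ∧
    Function.Bijective (e.hom ≫ CohB1.ProjSpace.toSpec 1 K).appTop ∧
    ∀ (d : ℕ) (M : Γ₀.curve.left.Modules), PicF.IsInvertible M →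
      Curv2.deg (IsLocalRing.ResidueField R) Γ₀.curve.left M 1 = (d : ℤ) * Module.finrank (IsLocalRing.ResidueField R) K →
      (∃ s : Fin 2 → Γ(M, ⊤), ∀ x, ∃ i, x ∈ AmpleX.locus (s i)) ∧
      (letI : Γ₀.curve.left.Over (Spec (CommRingCat.of K)) := ⟨e.hom ≫ CohB1.ProjSpace.toSpec 1 K⟩
       Module.finrank K (Coh.HH Γ₀.curve.left M 0) = d + 1) := by
  let k := IsLocalRing.ResidueField R
  let C := Γ₀.curve.left
  let P := CohB1.ProjSpace 1 K
  let φ : k →+* K := algebraMap k K
  haveI := isProper_curve_over Γ₀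
  haveI : IsProper (P ↘ Spec (CommRingCat.of K)) := isProper_line K
  letI : C.Over (Spec (CommRingCat.of K)) := ⟨e.hom ≫ CohB1.ProjSpace.toSpec 1 K⟩
  haveI : IsProper (C ↘ Spec (CommRingCat.of K)) :=
    inferInstanceAs (IsProper (e.hom ≫ (P ↘ Spec (CommRingCat.of K))))
  haveI := CurveCohLib.isNoetherian_of_proper (k := K) (X := P)
  haveI := CurveCohLib.isNoetherian_of_proper (k := K) (X := C)
  have hs : (C ↘ Spec (CommRingCat.of k)) = (C ↘ Spec (CommRingCat.of K)) ≫ Spec.map (CommRingCat.ofHom φ) := by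
    show Γ₀.curve.hom = (e.hom ≫ CohB1.ProjSpace.toSpec 1 K) ≫ _
    rw [Category.assoc]
    exact he.symm
  have hw : Models.homDegree φ = Module.finrank k K := by
    exact congrArg (fun a : Algebra k K => @Module.finrank k K _ _ a.toModule)
      (Algebra.algebra_ext (φ.toAlgebra) _ fun _ => rfl)
  have hpb := isPullback_iso_over (k := K) e (show e.hom ≫ (P ↘ Spec (CommRingCat.of K)) = _ from rfl)
  refine ⟨?_, ?_, ?_, fun d M hM hdeg => ?_⟩
  · show Module.finrank k (Coh.HH C (Coh.structureModule C) 1) = _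
    rw [finrank_over C φ hs, CurveBC.finrank_hh_unit K K e.hom hpb 1,
      show Module.finrank K (Coh.HH P (Coh.structureModule P) 1) = 0 from (S7810.projLine_facts K).2, mul_zero]
  · show Module.finrank k (Coh.HH C (Coh.structureModule C) 0) = _
    rw [finrank_over C φ hs, CurveBC.finrank_hh_unit K K e.hom hpb 0, (S7810.projLine_facts K).1, mul_one, hw]
  · rw [Scheme.Hom.comp_appTop]
    exact (ConcreteCategory.bijective_of_isIso e.hom.appTop).comp (bijective_appTop_line K)
  · have hdK : Curv2.deg K C M 1 = d := by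
      rw [deg_over C φ hs Γ₀.dim_eq.le hM, hw, mul_comm (d : ℤ)] at hdeg
      exact mul_left_cancel₀ (by exact_mod_cast Module.finrank_pos.ne') hdeg
    let M' := (Scheme.Modules.pullback e.inv).obj M
    have hM' : PicF.IsInvertible M' := PicClLib.isInvertible_pullback _ hM
    obtain ⟨d', ⟨ψ⟩⟩ := S1697.result K 1 M' hM'
    obtain ⟨τ⟩ : Nonempty ((Scheme.Modules.pullback e.hom).obj M' ≅ M) := ⟨(Scheme.Modules.pullbackComp e.hom e.inv).app M ≪≫
      (Scheme.Modules.pullbackCongr e.hom_inv_id).app M ≪≫ (Scheme.Modules.pullbackId C).app M⟩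
    have hd' : Curv2.deg K P (Twist.twistProjSpace 1 K d') 1 = d := by
      rw [← CurveRR.deg_congr K ψ 1, ← CurveBC.deg_eq K K e.hom hpb _ (ProjUPX.isQCoh_of_isInvertible hM') 1,
        CurveRR.deg_congr K τ 1, hdK]
    have hdd : d' = d := by
      rcases lt_or_ge d' 0 with hd | hd
      · exfalso
        simp only [Curv2.deg, Nat.cast_one, one_mul] at hd'
        rw [euler_line_structure, CurveReg.euler_eq K (dim_line K).le
          (CurveDeg.isCoh_of_isInvertible (isInvertible_twist K d'))] at hd'
        haveI := S0844.result K 1 d' 0 (fun h => absurd h.2 (by omega)) (fun h => absurd h.1 (by omega))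
        rw [Module.finrank_zero_of_subsingleton] at hd'
        omega
      · obtain ⟨m, rfl⟩ := Int.eq_ofNat_of_zero_le hd
        rw [deg_twist_nat] at hd'
        exact hd'
    subst hdd
    let σ : M ≅ (Scheme.Modules.pullback e.hom).obj (Twist.twistProjSpace 1 K (d : ℤ)) :=
      τ.symm ≪≫ (Scheme.Modules.pullback e.hom).mapIso ψ
    refine ⟨?_, ?_⟩
    · let g : Fin 2 → MvPolynomial (Fin (1 + 1)) K := fun j => MvPolynomial.X j
      have hg : ∀ j, g j ∈ MvPolynomial.homogeneousSubmodule (Fin (1 + 1)) K 1 := fun j => ProjPt.X_mem j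
      refine ⟨fun j => σ.inv.app ⊤ (InvX.pullElt e.hom (H23.TwistAmple.sec (hg j) d)), fun x => ?_⟩
      obtain ⟨j, hj⟩ := Opens.mem_iSup.1 ((AmpleEmbed.iSup_basicOpen_X 1 K).ge (trivial : e.hom x ∈ (⊤ : P.Opens)))
      refine ⟨j, (AmpleX.locus_iso σ.symm _).ge ?_⟩
      refine (AmpleX.locus_pullElt (isInvertible_twist K d) e.hom _).ge ?_
      exact AmpleX.le_locus _ le_top (H23.TwistAmple.isFrame_sec (hg j) d) hj
    · obtain ⟨χ⟩ := S0843.result K 1 d
      rw [CurveDiv.finrank_congr (k := K) σ 0,
        CurveBC.finrank_hh K K e.hom hpb _ (ProjUPX.isQCoh_of_isInvertible (isInvertible_twist K d)) 0,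
        χ.finrank_eq, CurveEmbed.finrank_binary]

omit [FiniteDimensional (IsLocalRing.ResidueField R) K] in
include he in
/-- The field of a line on a proper curve is finite over the residue field. -/
theorem finite_of_line [IsSurf X] : FiniteDimensional (IsLocalRing.ResidueField R) K := by
  let k := IsLocalRing.ResidueField R
  let C := Γ₀.curve.left
  let P := CohB1.ProjSpace 1 K
  let φ : k →+* K := algebraMap k K
  haveI := isProper_curve_over Γ₀
  haveI : IsProper (P ↘ Spec (CommRingCat.of K)) := isProper_line K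
  letI : C.Over (Spec (CommRingCat.of K)) := ⟨e.hom ≫ CohB1.ProjSpace.toSpec 1 K⟩
  haveI : IsProper (C ↘ Spec (CommRingCat.of K)) :=
    inferInstanceAs (IsProper (e.hom ≫ (P ↘ Spec (CommRingCat.of K))))
  haveI := CurveCohLib.isNoetherian_of_proper (k := K) (X := P)
  haveI := CurveCohLib.isNoetherian_of_proper (k := K) (X := C)
  have hs : (C ↘ Spec (CommRingCat.of k)) = (C ↘ Spec (CommRingCat.of K)) ≫ Spec.map (CommRingCat.ofHom φ) := by
    show Γ₀.curve.hom = (e.hom ≫ CohB1.ProjSpace.toSpec 1 K) ≫ _
    rw [Category.assoc]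
    exact he.symm
  have hw : Models.homDegree φ = Module.finrank k K :=
    congrArg (fun a : Algebra k K => @Module.finrank k K _ _ a.toModule)
      (Algebra.algebra_ext (φ.toAlgebra) _ fun _ => rfl)
  have hpb := isPullback_iso_over (k := K) e (show e.hom ≫ (P ↘ Spec (CommRingCat.of K)) = _ from rfl)
  have h : Models.wdeg R X Γ₀ = Module.finrank k K := by
    show Module.finrank k (Coh.HH C (Coh.structureModule C) 0) = _
    rw [finrank_over C φ hs, CurveBC.finrank_hh_unit K K e.hom hpb 0, (S7810.projLine_facts K).1, mul_one, hw]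
  exact Module.finite_of_finrank_pos (h ▸ (wdeg_pos_dvd Γ₀).1)

end Groth.Agent.ArInt
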