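import Groth.Agent.ArInt.NearCurve
import Groth.Agent.ArInt.LineCurve
import Groth.Agent.ArInt.DivFrame
import Groth.Agent.ArInt.KoszulGlue
import Groth.Agent.ArInt.CotangentAlg
import Groth.Agent.ArInt.Contract
import Groth.Agent.ArInt.ContractExist
import Groth.Agent.Ref1X.BirConn
import Groth.Agent.AmpleX.Basis
import Groth.Agent.AmpleX.CounitAmple

/-!
# The cotangent space at the image of a contracted line
-/

set_option autoImplicit false
set_option linter.style.haveILetI false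
set_option linter.unusedSectionVars false
set_option backward.isDefEq.respectTransparency false
set_option backward.isDefEq.respectTransparency.types false
set_option maxHeartbeats 1000000

universe u

open CategoryTheory CategoryTheory.Limits AlgebraicGeometry TopologicalSpace
open Groth.Agent.H23.PicMul

noncomputable section

namespace Groth.Agent.ArInt

open Groth.Agent

theorem mem_locus_res {X : Scheme.{u}} {M : X.Modules} {V : X.Opens} (a : Γ(M, V)) {x : X} {V' : X.Opens}
    (h : V' ≤ V) (hx : x ∈ AmpleX.locus (AModX.res M h a)) : x ∈ AmpleX.locus a := by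
  obtain ⟨W, hW, hxW, hf⟩ := AmpleX.mem_locus.1 hx
  rw [AModX.res_res] at hf
  exact AmpleX.mem_locus.2 ⟨W, hW.trans h, hxW, hf⟩

/-- The dimension over the global functions, from the dimension over a field mapping onto them. -/
theorem finrank_sections {K G : Type u} [Field K] {C : Scheme.{u}} (p : C ⟶ Spec (CommRingCat.of K))
    (hp : Function.Bijective p.appTop) [Field G] (ε : Γ(C, ⊤) ≃+* G) (Q : C.Modules)
    [Module G Γ(Q, ⊤)] (hsmul : ∀ (a : Γ(C, ⊤)) (q : Γ(Q, ⊤)), ε a • q = a • q) :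
    letI : C.Over (Spec (CommRingCat.of K)) := ⟨p⟩
    Module.finrank G Γ(Q, ⊤) = Module.finrank K (Coh.HH C Q 0) := by
  letI : C.Over (Spec (CommRingCat.of K)) := ⟨p⟩
  let i : K → G := fun a => ε (Coh.resTop C (Opposite.op ⊤) (Coh.toGlobal (C ↘ Spec (CommRingCat.of K)) a))
  have hi : Function.Bijective i := by
    refine ε.bijective.comp ?_
    haveI : IsIso (homOfLE (le_refl (⊤ : C.Opens))) := ⟨⟨homOfLE le_rfl, Subsingleton.elim _ _, Subsingleton.elim _ _⟩⟩
    refine (ConcreteCategory.bijective_of_isIso (C.presheaf.map (homOfLE (le_refl (⊤ : C.Opens))).op)).comp ?_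
    exact hp.comp (ConcreteCategory.bijective_of_isIso (Scheme.ΓSpecIso (CommRingCat.of K)).inv)
  let j : Coh.HH C Q 0 ≃+ Γ(Q, ⊤) := Sheaf.H.equiv₀ (Coh.toAb Q) isTerminalTop
  have h := rank_eq_of_equiv_equiv i j hi fun a t => (CurveCohLib.h0Equiv_smul Q a t).trans (hsmul _ _).symm
  rw [Module.finrank, Module.finrank, h]

variable {R : Type u} [CommRing R] [IsDomain R] [IsDiscreteValuationRing R]
  {X : Over (Spec (CommRingCat.of R))} [IsSurf X] [Flat X.hom] (Γ₀ : ArSurf.VertComp R X)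

/-- The module on the curve of a section twisted by powers of a section generating near it. -/
theorem exists_lift_near_twist {T : X.left.Modules} (hT : PicF.IsInvertible T) (t : Γ(T, ⊤))
    (hvan : ∀ P : X.left.Modules, PicF.IsInvertible P → 0 ≤ ArSurf.inter R X P Γ₀ →
        ∃ c₀ : ℕ, ∀ c, c₀ ≤ c → ∀ W : X.left.Modules, PicF.IsInvertible W →
          PicF.cl W = PicF.cl P * PicF.cl T ^ c → Subsingleton (Coh.HH X.left W 1))
    {M : X.left.Modules} (hM : PicF.IsInvertible M)
    (hdeg : 0 ≤ ArSurf.inter R X (CohB1.tensorMod (ClSub.idealMod Γ₀.ι.ker) M) Γ₀)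
    {V : X.left.Opens} (hV : (⊤ : Γ₀.curve.left.Opens) ≤ Γ₀.ι ⁻¹ᵁ V) (hVt : V ≤ AmpleX.locus t)
    (z : Γ((Scheme.Modules.pullback Γ₀.ι).obj M, ⊤)) :
    ∃ c₀ : ℕ, ∀ c, c₀ ≤ c → ∃ (ζ : Γ(CohB1.tensorMod M (CohB1.tensorPow T (c + 1)), ⊤)) (m : Γ(M, V)),
      restr Γ₀.ι hV m = z ∧ AModX.res _ (le_top : V ≤ ⊤) ζ =
        InvX.tmul m (AModX.res _ (le_top : V ≤ ⊤) (AmpleX.powElt t (c + 1))) := by
  have hI : PicF.IsInvertible (ClSub.idealMod Γ₀.ι.ker) := Big.isInvertible_ideal (isEffCartier_ker Γ₀)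
  obtain ⟨c₀, hc⟩ := hvan _ (H23.PicMul.isInvertible_tensor hI hM) hdeg
  refine ⟨c₀, fun c hc' => ?_⟩
  have hTc := InvX.isInvertible_tensorPow hT (c + 1)
  have hMT := H23.PicMul.isInvertible_tensor hM hTc
  have h1 := (restrict_divisor Γ₀.ι (isEffCartier_ker Γ₀) hMT (hc (c + 1) (by omega) _
    (H23.PicMul.isInvertible_tensor hI hMT) (by simp only [cl_tensor, cl_tensorPow, mul_assoc]))).1
  obtain ⟨ζ, hζ⟩ := h1 (((Scheme.Modules.pullback Γ₀.ι).map (AmpleVan.mulSec (AmpleX.powElt t (c + 1)) M)).app ⊤ z)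
  obtain ⟨m, hm1, hm2⟩ := exists_lift_near Γ₀.ι hV hM (AmpleX.powElt t (c + 1))
    (by rw [AmpleX.locus_powElt hT t c]; exact hVt) z ζ hζ
  exact ⟨ζ, m, hm1, hm2⟩

variable (L : X.left.Modules) (hL : ClSub.IsInverseOf L (ClSub.idealMod Γ₀.ι.ker))
  {K : Type u} [Field K] [Algebra (IsLocalRing.ResidueField R) K] [FiniteDimensional (IsLocalRing.ResidueField R) K]
  (e : Γ₀.curve.left ≅ CohB1.ProjSpace 1 K)
  (he : e.hom ≫ CohB1.ProjSpace.toSpec 1 K ≫
    Spec.map (CommRingCat.ofHom (algebraMap (IsLocalRing.ResidueField R) K)) = Γ₀.curve.hom)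
  (d : ℕ) (hd : 1 ≤ d)
  (hself : ArSurf.inter R X L Γ₀ = -((d : ℤ) * (Module.finrank (IsLocalRing.ResidueField R) K : ℤ)))

include hL he hd hself in
/-- A normal contraction of the line has cotangent dimension `d + 1` at the image point. -/
theorem finrank_cotangent_of_contraction (hproj : Neron.IsProjectiveOver R X)
    {Y : Over (Spec (CommRingCat.of R))} (f : X ⟶ Y) [IsIntegral Y.left]
    (hnor : ∀ q : Y.left, IsIntegrallyClosed (Y.left.presheaf.stalk q)) (hY : Neron.IsProjectiveOver R Y)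
    (y : Y.left) (hy : IsClosed ({y} : Set Y.left))
    (hrange : Set.range (Γ₀.ι ≫ f.left).base = {y})
    (hpre : f.left.base ⁻¹' {y} = Set.range Γ₀.ι.base)
    (hiso : IsIso (f.left ∣_ (⟨{y}ᶜ, hy.isOpen_compl⟩ : Y.left.Opens)))
    (hne : (({y} : Set Y.left)ᶜ).Nonempty) :
    Module.finrank (IsLocalRing.ResidueField (Y.left.presheaf.stalk y))
      (IsLocalRing.CotangentSpace (Y.left.presheaf.stalk y)) = d + 1 := by
  classical
  let C := Γ₀.curve.left
  let ι := Γ₀.ι
  let k := IsLocalRing.ResidueField R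
  let I := ClSub.idealMod ι.ker
  have hI : PicF.IsInvertible I := Big.isInvertible_ideal (isEffCartier_ker Γ₀)
  have hLi := isInvertible_of_inverse hI hL
  haveI : IsIntegral C := Γ₀.isIntegral
  haveI := isProper_curve_over Γ₀
  haveI : IsProper (C ↘ Spec (CommRingCat.of k)) := isProper_curve_over Γ₀
  obtain ⟨hh1, hwdeg, hbij, hQ⟩ := numbers_of_line Γ₀ e he
  obtain ⟨hwpos, hdvd⟩ := wdeg_pos_dvd Γ₀
  have hKpos : 0 < Module.finrank k K := Module.finrank_pos
  -- degrees
  have hIdeg : ArSurf.inter R X I Γ₀ = (d : ℤ) * Module.finrank k K := by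
    have h := inter_inverse Γ₀ hI hL
    rw [hself] at h
    linarith
  have hdw : (0 : ℤ) < (d : ℤ) * Module.finrank k K := by positivity
  obtain ⟨T, hT, t, hT0, ht, hvan⟩ := exists_near_twist Γ₀ L hL hh1 hproj (by rw [hself]; linarith)
  let Q := (Scheme.Modules.pullback ι).obj I
  have hQi : PicF.IsInvertible Q := PicClLib.isInvertible_pullback _ hI
  have hQdeg : Curv2.deg k C Q 1 = (d : ℤ) * Module.finrank k K := by rw [← inter_eq_deg Γ₀ hI, hIdeg]
  obtain ⟨⟨z, hz⟩, hQrank⟩ := hQ d Q hQi hQdeg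
  -- global lifts
  let V₀ := AmpleX.locus t
  have hV₀ : (⊤ : C.Opens) ≤ ι ⁻¹ᵁ V₀ := fun c _ => ht c
  have hIM : 0 ≤ ArSurf.inter R X (CohB1.tensorMod I I) Γ₀ := by
    rw [inter_tensor Γ₀ hI hI, hIdeg]; linarith
  choose cz hcz using fun i => exists_lift_near_twist Γ₀ hT t hvan hI hIM hV₀ le_rfl (z i)
  choose ζ x₀ hx₀ hζ using fun i => hcz i (cz 0 + cz 1) (by fin_cases i <;> simp)
  have hx₀E : ∀ c, ∃ i, ι c ∈ AmpleX.locus (x₀ i) := fun c => by
    obtain ⟨i, hi⟩ := hz c
    refine ⟨i, ?_⟩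
    rw [← hx₀ i] at hi
    have h1 := mem_locus_res _ _ hi
    rwa [AmpleX.locus_pullElt hI ι] at h1
  -- the projective contraction
  haveI : IsProper X.hom := isProper_of_isProjectiveOver hproj
  haveI : IsProper Y.hom := isProper_of_isProjectiveOver hY
  haveI : IsProper f.left := by
    haveI : IsProper (f.left ≫ Y.hom) := by rw [Over.w f]; infer_instance
    exact IsProper.of_comp f.left Y.hom
  haveI : Y.left.IsSeparated := ⟨by
    rw [← Limits.terminal.comp_from Y.hom]; infer_instance⟩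
  obtain ⟨hgen, hbir⟩ := birational_of_isIso_restrict f.left ⟨{y}ᶜ, hy.isOpen_compl⟩ hne hiso
  have hnor' : Pi1.IsNormalScheme Y.left := fun q => ⟨inferInstance, hnor q⟩
  let B : Set X.left := ((AmpleX.locus (x₀ 0) ⊔ AmpleX.locus (x₀ 1) : X.left.Opens) : Set X.left)ᶜ
  have hBc : IsClosed (f.left.base '' B) :=
    f.left.isClosedMap _ (AmpleX.locus (x₀ 0) ⊔ AmpleX.locus (x₀ 1) : X.left.Opens).isOpen.isClosed_compl
  have hyB : y ∉ f.left.base '' B := by
    rintro ⟨p, hpB, hp⟩
    obtain ⟨c, rfl⟩ : p ∈ Set.range ι.base := hpre ▸ (show p ∈ f.left.base ⁻¹' {y} from hp)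
    obtain ⟨i, hi⟩ := hx₀E c
    refine hpB ?_
    fin_cases i
    · exact Or.inl hi
    · exact Or.inr hi
  obtain ⟨HY, hHY⟩ := exists_ample_of_isProjectiveOver (X := Y) hY
  obtain ⟨m, -, σ, hyU, hUG, hU⟩ :=
    AmpleX.exists_genLocus_le hHY (show y ∈ (⟨_, hBc.isOpen_compl⟩ : Y.left.Opens) from hyB)
  let LY := CohB1.tensorPow HY m
  have hLY : PicF.IsInvertible LY := InvX.isInvertible_tensorPow hHY.1 m
  let U := CohB1.genLocus LY σ
  let LX := (Scheme.Modules.pullback f.left).obj LY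
  have hLX : PicF.IsInvertible LX := PicClLib.isInvertible_pullback _ hLY
  let s : Coh.structureModule X.left ⟶ LX := InvX.ofSect (InvX.pullElt f.left (InvX.one σ))
  let V := f.left ⁻¹ᵁ U
  have hsV : CohB1.genLocus LX s = V := by
    rw [AmpleX.genLocus_eq_locus, InvX.one_ofSect]
    exact (AmpleX.locus_pullElt hLY f.left (InvX.one σ)).trans
      (congrArg _ (AmpleX.genLocus_eq_locus σ).symm)
  have hVx : ∀ p ∈ V, ∃ i, p ∈ AmpleX.locus (x₀ i) := fun p hp => by
    by_contra hcon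
    push Not at hcon
    exact hUG hp ⟨p, fun h => h.elim (hcon 0) (hcon 1), rfl⟩
  have hVV₀ : V ≤ V₀ := fun p hp => (hVx p hp).elim fun i hi => AmpleX.locus_le _ hi
  have hfι : ∀ c, f.left (ι c) = y := fun c => by
    have : (ι ≫ f.left).base c ∈ ({y} : Set Y.left) := hrange ▸ ⟨c, rfl⟩
    exact this
  have hV : (⊤ : C.Opens) ≤ ι ⁻¹ᵁ V := fun c _ => by
    show f.left (ι c) ∈ U
    rw [hfι]; exact hyU
  -- the rings
  let A := Γ(Y.left, U)
  haveI : IsIso (f.left.app U) := Ref1X.isIso_app_of_birational hnor' f.left hgen hbir U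
  let φ : A ≃+* Γ(X.left, V) := (asIso (f.left.app U)).commRingCatIsoToRingEquiv
  have hKfield : IsField Γ(C, ⊤) := GeomField.isField_globalFunctions k C
  letI : Field Γ(C, ⊤) := hKfield.toField
  let θ : A →+* Γ(C, ⊤) := (restrR ι hV).comp φ.toRingHom
  let 𝔭 : Ideal A := (hU.primeIdealOf ⟨y, hyU⟩).asIdeal
  haveI h𝔭max : 𝔭.IsMaximal := hU.primeIdealOf_isMaximal_of_isClosed ⟨y, hyU⟩ hy
  letI := TopCat.Presheaf.algebra_section_stalk Y.left.presheaf ⟨y, hyU⟩
  haveI : IsLocalization.AtPrime (Y.left.presheaf.stalk y) 𝔭 := hU.isLocalization_stalk ⟨y, hyU⟩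
  have hmem𝔭 : ∀ a : A, a ∈ 𝔭 ↔ y ∉ Y.left.basicOpen a := fun a => by
    rw [← IsLocalization.AtPrime.to_map_mem_maximal_iff (Y.left.presheaf.stalk y) 𝔭 a,
      IsLocalRing.mem_maximalIdeal, mem_nonunits_iff]
    exact (not_congr (Y.left.mem_basicOpen a y hyU)).symm
  have hθ0 : ∀ a, θ a = 0 ↔ a ∈ 𝔭 := fun a => by
    rw [hmem𝔭, ← AlgebraicGeometry.basicOpen_eq_bot_iff (θ a)]
    have hb : C.basicOpen (θ a) = (⊤ : C.Opens) ⊓ ι ⁻¹ᵁ (f.left ⁻¹ᵁ Y.left.basicOpen a) := by
      show C.basicOpen (AModX.resR hV (ι.app V (f.left.app U a))) = _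
      rw [Scheme.preimage_basicOpen f.left, Scheme.preimage_basicOpen ι]
      exact C.basicOpen_res _ _
    rw [hb, top_inf_eq]
    refine ⟨fun h hya => ?_, fun h => ?_⟩
    · have h1 : genericPoint C ∈ ι ⁻¹ᵁ (f.left ⁻¹ᵁ Y.left.basicOpen a) := by
        show f.left (ι (genericPoint C)) ∈ Y.left.basicOpen a
        rw [hfι]; exact hya
      rw [h] at h1
      exact h1.elim
    · refine le_bot_iff.1 fun c hc => h ?_
      have h2 : f.left (ι c) ∈ Y.left.basicOpen a := hc
      rwa [hfι] at h2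
  -- frames and lifts on V
  have hone : InvX.IsFrame (restr ι hV (M := Coh.structureModule X.left)
      (show Γ(Coh.structureModule X.left, V) from (1 : Γ(X.left, V)))) := isFrame_restr ι hV (InvX.isFrame_one V)
  have hθs : Function.Surjective θ := fun g => by
    obtain ⟨c₀, hc₀⟩ := exists_lift_near_twist Γ₀ hT t hvan InvX.isInvertible_structureModule
      (by rw [inter_tensor Γ₀ hI InvX.isInvertible_structureModule, inter_structureModule Γ₀, hIdeg]; linarith)
      hV hVV₀ (g • restr ι hV (show Γ(Coh.structureModule X.left, V) from (1 : Γ(X.left, V))))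
    obtain ⟨-, m, hm, -⟩ := hc₀ c₀ le_rfl
    refine ⟨φ.symm (show Γ(X.left, V) from m), ?_⟩
    have h1 : restr ι hV m = restrR ι hV (show Γ(X.left, V) from m) •
        restr ι hV (show Γ(Coh.structureModule X.left, V) from (1 : Γ(X.left, V))) := by
      rw [← restr_smul]
      exact congrArg (restr ι hV) (mul_one (show Γ(X.left, V) from m)).symm
    show restrR ι hV (φ (φ.symm _)) = g
    rw [φ.apply_symm_apply]
    exact hone.coord_unique le_rfl (by simp only [AModX.res_self]; exact h1.symm.trans hm)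
  -- the ideal
  let g : Γ(I, V) → A := fun x => φ.symm (OmegaSh.idealSect ι.ker V x)
  have hg𝔭 : ∀ x, g x ∈ 𝔭 := fun x => (hθ0 _).1 (by
    show restrR ι hV (φ (φ.symm _)) = 0
    rw [φ.apply_symm_apply]
    show AModX.resR hV (ι.app V _) = 0
    rw [app_idealSect, map_zero])
  have hex : ∀ a : 𝔭, ∃ x : Γ(I, V), g x = a.1 := fun a => by
    obtain ⟨x, hx⟩ := exists_idealSect_of_app_eq_zero ι V (φ a.1) (by
      have h1 : AModX.resR hV (ι.app V (φ a.1)) = 0 := (hθ0 a.1).2 a.2
      haveI : IsIso (homOfLE hV) := ⟨⟨homOfLE le_top, Subsingleton.elim _ _, Subsingleton.elim _ _⟩⟩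
      refine (ConcreteCategory.bijective_of_isIso (C.presheaf.map (homOfLE hV).op)).1 (h1.trans (map_zero _).symm) )
    exact ⟨x, by show φ.symm _ = _; rw [hx, φ.symm_apply_apply]⟩
  choose sx hsx using hex
  have hginj : Function.Injective g := φ.symm.injective.comp (OmegaLib.idealSect_injective ι.ker V)
  have hgadd : ∀ x x', g (x + x') = g x + g x' := fun x x' => by simp [g]
  have hgsmul : ∀ (a : A) (x : Γ(I, V)), g (φ a • x) = a * g x := fun a x => by
    show φ.symm _ = _
    rw [OmegaLib.idealSect_smul, map_mul, φ.symm_apply_apply]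
  let Λ : 𝔭 →+ Γ(Q, ⊤) :=
    { toFun := fun a => restr ι hV (sx a)
      map_zero' := by
        have h : sx 0 = 0 := hginj ((hsx 0).trans (show (0 : A) = g 0 by simp [g]))
        rw [h]
        have := restr_add ι hV (0 : Γ(I, V)) 0
        rw [add_zero] at this
        exact left_eq_add.1 this
      map_add' := fun a b => by
        rw [← restr_add]
        exact congrArg _ (hginj (by rw [hsx, hgadd, hsx, hsx]; rfl)) }
  have hlin : ∀ (a : A) (x : 𝔭), Λ (a • x) = θ a • Λ x := fun a x => by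
    show restr ι hV (sx (a • x)) = θ a • restr ι hV (sx x)
    rw [show θ a = restrR ι hV (φ a) from rfl, ← restr_smul]
    exact congrArg _ (hginj (by rw [hsx, hgsmul, hsx]; rfl))
  have hΛx : ∀ x, Λ ⟨g x, hg𝔭 x⟩ = restr ι hV x := fun x => congrArg (restr ι hV) (hginj (hsx _))
  have hΛs : Function.Surjective Λ := fun q => by
    obtain ⟨c₀, hc₀⟩ := exists_lift_near_twist Γ₀ hT t hvan hI hIM hV hVV₀ q
    obtain ⟨-, x, hx, -⟩ := hc₀ c₀ le_rfl
    exact ⟨_, (hΛx x).trans hx⟩
  -- the two generators on V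
  obtain ⟨x, hxdef⟩ : ∃ x : Fin 2 → Γ(I, V), ∀ i, x i = AModX.res I hVV₀ (x₀ i) := ⟨_, fun _ => rfl⟩
  let W : Fin 2 → X.left.Opens := fun i => V ⊓ AmpleX.locus (x₀ i)
  have hxW : ∀ i, InvX.IsFrame (AModX.res I (inf_le_left : W i ≤ V) (x i)) := fun i => by
    rw [hxdef, AModX.res_res]
    exact AmpleX.isFrame_res_of_le (x₀ i) (inf_le_right : W i ≤ AmpleX.locus (x₀ i))
  have hxz : ∀ i, restr ι hV (x i) = z i := fun i => by
    rw [hxdef]; exact (restr_res ι hV hV₀ hVV₀ _).trans (hx₀ i)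
  have hz0 : ∀ i j : Fin 2, i ≠ j → ∀ b : Γ(C, ⊤), z i ≠ b • z j := fun i j hij b hb => by
    have hle : ∀ c, c ∈ AmpleX.locus (z j) := fun c => by
      obtain ⟨l, hl⟩ := hz c
      rcases (show l = i ∨ l = j by omega) with rfl | rfl
      swap
      · exact hl
      obtain ⟨W', hW', hcW, hf⟩ := AmpleX.mem_locus.1 hl
      refine AmpleX.mem_locus.2 ⟨W', hW', hcW, ?_⟩
      obtain ⟨a, ha⟩ := hf.exists_coord le_rfl (AModX.res Q hW' (z j))
      rw [AModX.res_self] at ha
      have hu : IsUnit a := by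
        refine IsUnit.of_mul_eq_one (AModX.resR hW' b) (hf.coord_unique le_rfl ?_)
        rw [AModX.res_self, one_smul, mul_comm, mul_smul, ← ha, ← AModX.res_smul, ← hb]
      rw [ha]
      exact hf.isUnit_smul hu
    obtain ⟨ψ⟩ := triv_of_forall_mem_locus (z j) hle
    have : Curv2.deg k C Q 1 = 0 := by
      rw [CurveRR.deg_congr k ψ 1, CurveDeg.deg_structureModule]
    rw [hQdeg] at this
    linarith
  have hker2 : ∀ a : 𝔭, Λ a = 0 → algebraMap A (Y.left.presheaf.stalk y) a.1 ∈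
      IsLocalRing.maximalIdeal (Y.left.presheaf.stalk y) ^ 2 := by
    intro a ha
    let xa := sx a
    let h : Γ(X.left, V) := OmegaSh.idealSect ι.ker V xa
    have hfr : ∀ i, InvX.IsFrame (AModX.res Q (le_top : ι ⁻¹ᵁ W i ≤ ⊤) (z i)) := fun i => by
      rw [← hxz i]
      show InvX.IsFrame (AModX.res Q _ (AModX.res Q hV (InvX.pullElt ι (x i))))
      rw [AModX.res_res]
      have := InvX.isFrame_pullElt ι (hxW i)
      rwa [← InvX.res_pullElt ι] at this
    choose a' ha' using fun i => (hxW i).exists_coord le_rfl (AModX.res I (inf_le_left : W i ≤ V) xa)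
    simp only [AModX.res_self] at ha'
    have hvan' : ∀ i, ι.app (W i) (a' i) = 0 := fun i => by
      refine (hfr i).coord_unique le_rfl ?_
      rw [AModX.res_self, zero_smul]
      have h1 := congrArg (InvX.pullElt ι) (ha' i)
      rw [InvX.pullElt_smul, ← InvX.res_pullElt ι, ← InvX.res_pullElt ι] at h1
      have h2 : restr ι hV xa = 0 := ha
      have h3 : AModX.res Q (le_top : ι ⁻¹ᵁ W i ≤ ⊤) (restr ι hV xa) = 0 := by rw [h2, map_zero]
      rw [show restr ι hV xa = AModX.res Q hV (InvX.pullElt ι xa) from rfl, AModX.res_res] at h3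
      rw [← hxz i, show restr ι hV (x i) = AModX.res Q hV (InvX.pullElt ι (x i)) from rfl, AModX.res_res]
      exact h1.symm.trans h3
    choose x' hx' using fun i => exists_idealSect_of_app_eq_zero ι (W i) (a' i) (hvan' i)
    have hW01₁ : W 0 ⊓ W 1 ≤ W 1 := inf_le_right
    obtain ⟨c, hc⟩ := (hxW 1).exists_coord hW01₁ (AModX.res I (inf_le_left : W 0 ⊓ W 1 ≤ W 0) (x' 0))
    obtain ⟨w, hw⟩ := (hxW 1).exists_coord hW01₁ (AModX.res I (inf_le_left.trans inf_le_left : W 0 ⊓ W 1 ≤ V) (x 0))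
    rw [AModX.res_res] at hc hw
    let gg : Fin 2 → Γ(X.left, V) := fun i => OmegaSh.idealSect ι.ker V (x i)
    have hsect : ∀ {V' V'' : X.left.Opens} (hle : V'' ≤ V') (k : Γ(I, V')),
        OmegaSh.idealSect ι.ker V'' (AModX.res I hle k) = AModX.resR hle (OmegaSh.idealSect ι.ker V' k) :=
      fun hle k => OmegaLib.idealSect_map ι.ker hle k
    have hha : ∀ i, AModX.resR (inf_le_left : W i ≤ V) h = a' i * AModX.resR (inf_le_left : W i ≤ V) (gg i) :=
      fun i => by
      rw [← hsect, ← hsect, ha' i, OmegaLib.idealSect_smul]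
    have hc0 : AModX.resR inf_le_left (a' 0) = c * AModX.resR (inf_le_left.trans inf_le_left) (gg 1) := by
      rw [← hx' 0, ← hsect, hc, OmegaLib.idealSect_smul, hsect]
    have hc1 : AModX.resR inf_le_right (a' 1) = c * AModX.resR (inf_le_left.trans inf_le_left) (gg 0) := by
      have e0 := congrArg (AModX.res I (inf_le_left : W 0 ⊓ W 1 ≤ W 0)) (ha' 0)
      have e1 := congrArg (AModX.res I hW01₁) (ha' 1)
      rw [AModX.res_res, AModX.res_smul, AModX.res_res] at e0 e1
      rw [hw, ← mul_smul, e1] at e0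
      have e2 := (hxW 1).coord_unique hW01₁ (by simp only [AModX.res_res]; exact e0)
      rw [e2, hc0, ← hsect (inf_le_left.trans inf_le_left) (x 0), hw, OmegaLib.idealSect_smul, hsect]
      ring
    -- global data
    let N := cz 0 + cz 1 + 1
    have hTN := InvX.isInvertible_tensorPow hT N
    let tN : Γ(CohB1.tensorPow T N, V) := AModX.res _ (le_top : V ≤ ⊤) (AmpleX.powElt t N)
    have htfr : ∀ n, InvX.IsFrame (AModX.res _ (le_top : V ≤ ⊤) (AmpleX.powElt t n)) := fun n => by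
      rw [AmpleX.res_powElt]
      exact AmpleX.isFrame_powElt (AmpleX.isFrame_res_of_le t hVV₀) n
    obtain ⟨G, hG⟩ : ∃ G : Fin 2 → Γ(CohB1.tensorPow T N, ⊤),
        ∀ i, AModX.res _ (le_top : V ≤ ⊤) (G i) = gg i • tN := by
      refine ⟨fun i => (AmpleX.idealSmul (ClSub.idealModι ι.ker) (CohB1.tensorPow T N)).app ⊤ (ζ i), fun i => ?_⟩
      rw [← AModX.app_res]
      have h1 := congrArg (AModX.res _ hVV₀) (hζ i)
      rw [AModX.res_res, InvX.res_tmul, AModX.res_res, ← hxdef] at h1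
      rw [h1]
      exact AmpleX.idealSmul_tmul _ _ (x i) _
    have hG1 : G 1 ≠ 0 := fun h0 => by
      have h1 := hG 1
      rw [h0, map_zero] at h1
      have h2 : gg 1 = 0 := (htfr N).coord_unique le_rfl (by rw [AModX.res_self, zero_smul]; exact h1.symm)
      have h3 : x 1 = 0 := OmegaLib.idealSect_injective ι.ker V (h2.trans (map_zero _).symm)
      refine hz0 1 0 (by decide) 0 ?_
      rw [zero_smul, ← hxz 1, h3]
      have := restr_add ι hV (0 : Γ(I, V)) 0
      rw [add_zero] at this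
      exact left_eq_add.1 this
    haveI : CompactSpace X.left := QuasiCompact.compactSpace_of_compactSpace X.hom
    haveI : QuasiSeparatedSpace X.left := quasiSeparatedSpace_of_quasiSeparated X.hom
    obtain ⟨b, hb⟩ := exists_combination hLX hTN s hsV tN (htfr N) G hG1 gg hG h W (fun _ => inf_le_left)
      (fun p hp => (hVx p hp).imp fun i hi => ⟨hp, hi⟩) a' hha c hc0 hc1 fun n => by
        have hLn := InvX.isInvertible_tensorPow hLX n
        have hdeg : 0 ≤ ArSurf.inter R X (CohB1.tensorPow LX n) Γ₀ := by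
          rw [inter_tensorPow hLX, inter_congr Γ₀ hLX hLX rfl]
          have htriv : H23.TrivBasic.Triv ((Scheme.Modules.pullback ι).obj LX) := by
            obtain ⟨ψ⟩ := triv_of_const (ι ≫ f.left) hLY y hfι
            exact ⟨(Scheme.Modules.pullbackComp ι f.left).app LY ≪≫ ψ⟩
          obtain ⟨ψ⟩ := htriv
          rw [inter_eq_deg Γ₀ hLX, CurveRR.deg_congr k ψ 1, CurveDeg.deg_structureModule, mul_zero]
        obtain ⟨c₀, hc₀⟩ := hvan _ hLn hdeg
        refine ⟨CohB1.tensorPow T c₀, InvX.isInvertible_tensorPow hT c₀, AmpleX.powElt t c₀, htfr c₀, ?_⟩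
        obtain ⟨θn, -⟩ := AmpleVan.exists_itwIso LX (Coh.structureModule X.left) n
        have hWn : PicF.IsInvertible (CohB1.tensorMod (CohB1.tensorMod (Coh.structureModule X.left)
            (CohB1.tensorPow LX n)) (CohB1.tensorPow T c₀)) :=
          H23.PicMul.isInvertible_tensor (H23.PicMul.isInvertible_tensor InvX.isInvertible_structureModule hLn)
            (InvX.isInvertible_tensorPow hT c₀)
        exact AmpleVan.subsingleton_of_iso ((AmpleVan.tw (CohB1.tensorPow T c₀)).mapIso θn).symm 1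
          (hc₀ c₀ le_rfl _ hWn (by
            show PicF.cl (CohB1.tensorMod (CohB1.tensorMod (Coh.structureModule X.left) (CohB1.tensorPow LX n))
              (CohB1.tensorPow T c₀)) = _
            simp only [cl_tensor, cl_tensorPow, ← H23.PicMul.one_def, one_mul]))
    have hxa : xa = b 0 • x 0 + b 1 • x 1 := OmegaLib.idealSect_injective ι.ker V (by
      rw [map_add, OmegaLib.idealSect_smul, OmegaLib.idealSect_smul]; exact hb)
    have hb0 : ∀ i, restrR ι hV (b i) = 0 := by
      have h1 : restr ι hV xa = 0 := ha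
      rw [hxa, restr_add, restr_smul, restr_smul, hxz, hxz] at h1
      have hfst : restrR ι hV (b 0) = 0 := by
        by_contra h0
        refine hz0 0 1 (by decide) (-((restrR ι hV (b 0))⁻¹ * restrR ι hV (b 1))) ?_
        rw [neg_smul, mul_smul, eq_neg_of_add_eq_zero_right h1, smul_neg, neg_neg, ← mul_smul,
          inv_mul_cancel₀ h0, one_smul]
      intro i
      fin_cases i
      · exact hfst
      · show restrR ι hV (b 1) = 0
        by_contra h0
        rw [hfst, zero_smul, zero_add] at h1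
        refine hz0 1 0 (by decide) 0 ?_
        rw [zero_smul, ← one_smul Γ(C, ⊤) (z 1), ← inv_mul_cancel₀ h0, mul_smul, h1, smul_zero]
    have haeq : a.1 = φ.symm (b 0) * g (x 0) + φ.symm (b 1) * g (x 1) := by
      rw [← hsx a, ← hgsmul, ← hgsmul, ← hgadd, φ.apply_symm_apply, φ.apply_symm_apply, ← hxa]
    have hb𝔭 : ∀ i, φ.symm (b i) ∈ 𝔭 := fun i => (hθ0 _).1 (by
      show restrR ι hV (φ (φ.symm _)) = 0
      rw [φ.apply_symm_apply]; exact hb0 i)
    rw [← IsLocalization.AtPrime.map_eq_maximalIdeal 𝔭 (Y.left.presheaf.stalk y), ← Ideal.map_pow, haeq, pow_two]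
    exact Ideal.mem_map_of_mem _ (add_mem (Ideal.mul_mem_mul (hb𝔭 0) (hg𝔭 _)) (Ideal.mul_mem_mul (hb𝔭 1) (hg𝔭 _)))
  rw [finrank_cotangentSpace_eq 𝔭 θ hθs hθ0 Λ hΛs hlin hker2,
    finrank_sections (e.hom ≫ CohB1.ProjSpace.toSpec 1 K) hbij (RingEquiv.refl _) Q (fun _ _ => rfl)]
  exact hQrank

end Groth.Agent.ArInt
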