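import Groth.Agent.ArInt.StalkIdeals

/-!
# The closed fibre as a divisor
-/

set_option autoImplicit false
set_option linter.style.haveILetI false
set_option linter.unusedSectionVars false
set_option backward.isDefEq.respectTransparency false
set_option backward.isDefEq.respectTransparency.types false
set_option maxHeartbeats 1000000

universe u

open CategoryTheory CategoryTheory.Limits AlgebraicGeometry TopologicalSpace
open Groth.Agent.H23.PicMul

noncomputable section

namespace Groth.Agent.ArInt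

open Groth.Agent

section Base

variable (R : Type u) [CommRing R] [IsDomain R] [IsDiscreteValuationRing R]

/-- The ideal of the closed point. -/
def closedPtIdeal : (Spec (CommRingCat.of R)).IdealSheafData :=
  (Spec.map (CommRingCat.ofHom (IsLocalRing.residue R))).ker

theorem closedPtIdeal_ideal (hU : IsAffineOpen (⊤ : (Spec (CommRingCat.of R)).Opens)) :
    (closedPtIdeal R).ideal ⟨⊤, hU⟩ =
      Ideal.map (Scheme.ΓSpecIso (CommRingCat.of R)).inv.hom (IsLocalRing.maximalIdeal R) := by
  haveI : IsClosedImmersion (Spec.map (CommRingCat.ofHom (IsLocalRing.residue R))) :=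
    IsClosedImmersion.spec_of_surjective _ IsLocalRing.residue_surjective
  rw [closedPtIdeal, Scheme.Hom.ker_apply]
  let e := Scheme.ΓSpecIso (CommRingCat.of R)
  have key : ∀ r : R, (Spec.map (CommRingCat.ofHom (IsLocalRing.residue R))).app ⊤ (e.inv r) =
      (Scheme.ΓSpecIso (CommRingCat.of (IsLocalRing.ResidueField R))).inv (IsLocalRing.residue R r) := fun r =>
    (ConcreteCategory.congr_hom (Scheme.ΓSpecIso_inv_naturality (CommRingCat.ofHom (IsLocalRing.residue R))) r).symm
  have hinj : Function.Injective (Scheme.ΓSpecIso (CommRingCat.of (IsLocalRing.ResidueField R))).inv :=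
    (ConcreteCategory.bijective_of_isIso _).1
  refine le_antisymm (fun a ha => ?_) (Ideal.map_le_iff_le_comap.2 fun r hr => ?_)
  · obtain ⟨r, rfl⟩ := (ConcreteCategory.bijective_of_isIso e.inv).2 a
    refine Ideal.mem_map_of_mem _ ?_
    rw [RingHom.mem_ker] at ha
    rw [← IsLocalRing.residue_eq_zero_iff]
    exact hinj ((key r).symm.trans (ha.trans (map_zero _).symm))
  · rw [Ideal.mem_comap, RingHom.mem_ker]
    exact (key r).trans (by rw [(IsLocalRing.residue_eq_zero_iff r).2 hr, map_zero])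

theorem isEffCartier_closedPtIdeal : BlowUp.IsEffCartierIdeal (closedPtIdeal R) := fun x => by
  obtain ⟨π, hπ⟩ := IsDiscreteValuationRing.exists_irreducible R
  refine ⟨⟨⊤, isAffineOpen_top _⟩, trivial, (Scheme.ΓSpecIso (CommRingCat.of R)).inv π, ?_, ?_⟩
  · refine mem_nonZeroDivisors_of_ne_zero fun h => hπ.ne_zero ?_
    exact (ConcreteCategory.bijective_of_isIso (Scheme.ΓSpecIso (CommRingCat.of R)).inv).1
      (h.trans (map_zero _).symm)
  · rw [closedPtIdeal_ideal, hπ.maximalIdeal_eq, Ideal.map_span, Set.image_singleton]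

theorem cl_closedPtIdeal : PicF.cl (ClSub.idealMod (closedPtIdeal R)) = 1 :=
  cl_eq_one_of_local (Big.isInvertible_ideal (isEffCartier_closedPtIdeal R))

theorem support_closedPtIdeal :
    ((closedPtIdeal R).support : Set (Spec (CommRingCat.of R))) = {IsLocalRing.closedPoint R} := by
  haveI : IsClosedImmersion (Spec.map (CommRingCat.ofHom (IsLocalRing.residue R))) :=
    IsClosedImmersion.spec_of_surjective _ IsLocalRing.residue_surjective
  rw [closedPtIdeal, Scheme.Hom.support_ker,
    (Spec.map (CommRingCat.ofHom (IsLocalRing.residue R))).isClosedEmbedding.isClosed_range.closure_eq]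
  refine Set.ext fun z => ⟨?_, fun hz => ⟨IsLocalRing.closedPoint _, ?_⟩⟩
  · rintro ⟨w, rfl⟩
    rw [Set.mem_singleton_iff, Subsingleton.elim w (IsLocalRing.closedPoint (IsLocalRing.ResidueField R))]
    exact IsLocalRing.comap_closedPoint (IsLocalRing.residue R)
  · rw [Set.mem_singleton_iff] at hz
    rw [hz]
    exact IsLocalRing.comap_closedPoint (IsLocalRing.residue R)

end Base

variable {R : Type u} [CommRing R] [IsDomain R] [IsDiscreteValuationRing R]
  (X : Over (Spec (CommRingCat.of R)))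

/-- The ideal of the closed fibre. -/
def fibreIdeal : X.left.IdealSheafData := (closedPtIdeal R).comap X.hom

theorem support_fibreIdeal :
    ((fibreIdeal X).support : Set X.left) = Models.specialFibreSet R X := by
  rw [fibreIdeal, Scheme.IdealSheafData.support_comap]
  show X.hom ⁻¹' ((closedPtIdeal R).support : Set (Spec (CommRingCat.of R))) = _
  rw [support_closedPtIdeal]
  rfl

theorem stI_fibreIdeal (x : X.left) :
    Div21Lib.stI (fibreIdeal X) x = (IsLocalRing.maximalIdeal R).map (Models.stalkHom R X x) := by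
  rw [fibreIdeal, Div21Lib.stI_comap, Div21Lib.stI_eq _ ⟨⊤, isAffineOpen_top _⟩ (trivial : X.hom x ∈ (⊤ : (Spec (CommRingCat.of R)).Opens)),
    closedPtIdeal_ideal, Ideal.map_map, Ideal.map_map]
  congr 1
  ext r
  exact Scheme.Hom.germ_stalkMap_apply X.hom ⊤ x trivial _

theorem isEffCartier_top (Y : Scheme.{u}) : BlowUp.IsEffCartierIdeal (⊤ : Y.IdealSheafData) := fun x => by
  obtain ⟨U, hU, hx, -⟩ := exists_isAffineOpen_mem_and_subset (U := ⊤) (x := x) trivial
  refine ⟨⟨U, hU⟩, hx, 1, one_mem _, ?_⟩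
  rw [Ideal.span_singleton_one, Scheme.IdealSheafData.ideal_top]
  rfl

section RegModel

variable [IsRegModel X] [Flat X.hom]

theorem gen_ne_closedPoint : X.hom (genericPoint X.left) ≠ IsLocalRing.closedPoint R := by
  intro h
  let o : Spec (CommRingCat.of R) := (⟨⊥, Ideal.isPrime_bot⟩ : PrimeSpectrum R)
  obtain ⟨y, hy, hy'⟩ := Flat.generalizingMap X.hom
    (show o ⤳ X.hom (genericPoint X.left) from (PrimeSpectrum.le_iff_specializes o _).1 bot_le)
  rw [(hy.antisymm ((genericPoint_spec X.left).specializes (Set.mem_univ y))).eq, h] at hy'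
  exact IsDiscreteValuationRing.not_a_field R (congrArg PrimeSpectrum.asIdeal hy')

theorem isEffCartier_fibreIdeal : BlowUp.IsEffCartierIdeal (fibreIdeal X) :=
  Big.isEffCartier_comap X.hom (isEffCartier_closedPtIdeal R) (by
    rw [support_closedPtIdeal]; exact gen_ne_closedPoint X)

theorem cl_fibreIdeal : PicF.cl (ClSub.idealMod (fibreIdeal X)) = 1 := by
  rw [fibreIdeal, ← Big.cl_idealMod_comap X.hom _ (isEffCartier_closedPtIdeal R) (isEffCartier_fibreIdeal X)]
  exact (congrArg (PicF.pullCl X.hom) (cl_closedPtIdeal R)).trans (H23.PicMul.pullCl_one _)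

variable {X}

theorem mem_specialFibre (Γ : ArSurf.VertComp R X) (c : Γ.curve.left) :
    Γ.ι c ∈ Models.specialFibreSet R X := by
  show X.hom (Γ.ι c) = IsLocalRing.closedPoint R
  rw [← Scheme.Hom.comp_apply, Γ.w, Scheme.Hom.comp_apply,
    Subsingleton.elim (Γ.curve.hom c) (IsLocalRing.closedPoint (IsLocalRing.ResidueField R))]
  exact IsLocalRing.comap_closedPoint (IsLocalRing.residue R)

instance isReduced_ker_subscheme (Γ : ArSurf.VertComp R X) : IsReduced Γ.ι.ker.subscheme :=
  isReduced_of_isOpenImmersion (inv Γ.ι.toImage)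

instance isIntegral_ker_subscheme (Γ : ArSurf.VertComp R X) : IsIntegral Γ.ι.ker.subscheme := by
  haveI : Nonempty Γ.ι.ker.subscheme := ⟨Γ.ι.toImage (genericPoint Γ.curve.left)⟩
  exact isIntegral_of_isOpenImmersion (inv Γ.ι.toImage)

theorem stI_ker_gen (Γ : ArSurf.VertComp R X) :
    Div21Lib.stI Γ.ι.ker (Models.genPtOf R X Γ) =
      IsLocalRing.maximalIdeal (X.left.presheaf.stalk (Models.genPtOf R X Γ)) :=
  stI_gen_eq_maximal _ (by rw [support_ker]; exact (closure_gen Γ).symm)

theorem ker_eq_of_range_eq (Γ Γ' : ArSurf.VertComp R X) (h : Set.range Γ.ι.base = Set.range Γ'.ι.base) :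
    Γ.ι.ker = Γ'.ι.ker := by
  rw [← CartierExt.radical_eq_of_isReduced Γ.ι.ker, ← CartierExt.radical_eq_of_isReduced Γ'.ι.ker,
    ← Scheme.IdealSheafData.vanishingIdeal_support, ← Scheme.IdealSheafData.vanishingIdeal_support]
  refine congrArg _ (Closeds.ext ?_)
  rw [support_ker, support_ker]
  exact h

end RegModel

variable {X}

section RegModelMult

variable [IsRegModel X] [Flat X.hom] {n : ℕ} (Γ : Fin n → ArSurf.VertComp R X)

/-- The exponents are the multiplicities. -/
theorem mult_eq_of_dim {d : Fin n → ℕ} {G : X.left.IdealSheafData}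
    (hG : ∀ i, Models.genPtOf R X (Γ i) ∉ G.support)
    (hF : fibreIdeal X = (∏ i, (Γ i).ι.ker ^ d i) * G)
    (hinj : Function.Injective fun i => Set.range ((Γ i).ι.base)) (i : Fin n)
    (hdim : ringKrullDim (X.left.presheaf.stalk (Models.genPtOf R X (Γ i))) = 1) :
    Models.mult R X (Γ i) = d i ∧ 0 < d i := by
  classical
  let ξ := Models.genPtOf R X (Γ i)
  let O := X.left.presheaf.stalk ξ
  haveI := IsRegModel.regular (X := X) ξ
  haveI := (ufd (X := X) ξ).1
  haveI := DimFormula.isPrincipalIdealRing_of_regular_dim_le_one hdim.le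
  have hnf : ¬ IsField O := fun h => by
    rw [ringKrullDim_eq_zero_of_isField h] at hdim
    exact zero_ne_one hdim
  haveI : IsDiscreteValuationRing O :=
    { not_a_field' := fun h => hnf (IsLocalRing.isField_iff_maximalIdeal_eq.2 h) }
  have hst : Div21Lib.stI (fibreIdeal X) ξ = IsLocalRing.maximalIdeal O ^ d i := by
    rw [hF, stI_mul, stI_prod, (stI_eq_top_iff G ξ).2 (hG i), Ideal.mul_top,
      Finset.prod_eq_single i (fun j _ hj => ?_) (by simp), stI_pow, stI_ker_gen]
    have hij : Div21Lib.stI (Γ j).ι.ker ξ = ⊤ :=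
      (stI_eq_top_iff _ _).2 (gen_notMem (Γ i) (Γ j) fun h => hj (hinj h.symm))
    rw [stI_pow, hij, ← Ideal.one_eq_top, one_pow]
  refine ⟨?_, Nat.pos_of_ne_zero fun h0 => ?_⟩
  · unfold Models.mult
    rw [← stI_fibreIdeal, hst, IsDiscreteValuationRing.length_quotient_pow_maximalIdeal, ENat.toNat_natCast]
  · rw [h0, pow_zero, Ideal.one_eq_top, stI_eq_top_iff, ← SetLike.mem_coe, support_fibreIdeal] at hst
    exact hst (mem_specialFibre _ _)

/-- The closed fibre is the product of its components. -/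
theorem fibreIdeal_eq_prod (hinj : Function.Injective fun i => Set.range ((Γ i).ι.base))
    (hd : ∀ i, ringKrullDim (X.left.presheaf.stalk (Models.genPtOf R X (Γ i))) = 1)
    (hcov : Models.specialFibreSet R X ⊆ ⋃ j, Set.range (Γ j).ι.base) :
    fibreIdeal X = ∏ i, (Γ i).ι.ker ^ Models.mult R X (Γ i) := by
  obtain ⟨a, ha⟩ := CartierExt.exists_prod_eq (fun j => (Γ j).ι.ker)
    (fun j => isEffCartier_ker_of_dim (Γ j) (hd j)) (fun j => inferInstance) (fibreIdeal X)
    (isEffCartier_fibreIdeal X) (fun z hz => by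
      rw [support_fibreIdeal] at hz
      obtain ⟨j, hj⟩ := Set.mem_iUnion.1 (hcov hz)
      exact Set.mem_iUnion.2 ⟨j, by rw [support_ker]; exact hj⟩)
  rw [ha]
  refine Finset.prod_congr rfl fun i _ => ?_
  rw [(mult_eq_of_dim Γ (G := ⊤) (d := a) (fun j => by
      rw [Scheme.IdealSheafData.support_top]; exact Set.notMem_empty _)
    (by rw [ha, Scheme.IdealSheafData.mul_top]) hinj i (hd i)).1]

end RegModelMult

variable [IsSurf X] [Flat X.hom]

/-- Splitting off the given curves. -/
theorem exists_split_curves {n : ℕ} (Γ : Fin n → ArSurf.VertComp R X) (D : X.left.IdealSheafData)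
    (hD : BlowUp.IsEffCartierIdeal D) :
    ∃ (d : Fin n → ℕ) (G : X.left.IdealSheafData), BlowUp.IsEffCartierIdeal G ∧
      (∀ i, Models.genPtOf R X (Γ i) ∉ G.support) ∧ D = (∏ i, (Γ i).ι.ker ^ d i) * G := by
  classical
  haveI := H23.FinCondSch.wellFoundedGT (X := X.left)
  revert hD
  induction D using WellFoundedGT.induction with
  | ind D ih =>
    intro hD
    by_cases h : ∀ i, Models.genPtOf R X (Γ i) ∉ D.support
    · refine ⟨0, D, hD, h, ?_⟩
      rw [Finset.prod_eq_one fun i _ => by rw [Pi.zero_apply, pow_zero], one_mul]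
    push Not at h
    obtain ⟨i, hi⟩ := h
    have hC := isEffCartier_ker (Γ i)
    have hle : D ≤ (Γ i).ι.ker := by
      rw [← CartierExt.radical_eq_of_isReduced (Γ i).ι.ker, ← Scheme.IdealSheafData.vanishingIdeal_support,
        ← Scheme.IdealSheafData.le_support_iff_le_vanishingIdeal]
      intro z hz
      rw [← SetLike.mem_coe, support_ker, ← closure_gen] at hz
      exact closure_minimal (Set.singleton_subset_iff.2 hi) D.support.isClosed hz
    let D' := ModPairLib.colon D (Γ i).ι.ker (ModPairLib.isLocPrincipal_of_isEffCartier hC)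
    have hmul : D' * (Γ i).ι.ker = D := ModPairLib.colon_mul hC hle
    have hD' : BlowUp.IsEffCartierIdeal D' := ModPairLib.isEffCartier_of_mul hC (by rw [hmul]; exact hD)
    have hlt : D < D' := by
      have hle' : D ≤ D' := by
        rw [← hmul]
        intro U
        rw [Scheme.IdealSheafData.ideal_mul, Pi.mul_apply]
        exact Ideal.mul_le_left
      refine lt_of_le_of_ne hle' fun he => ?_
      have h1 : (⊤ : X.left.IdealSheafData) * D = (Γ i).ι.ker * D := by
        rw [Scheme.IdealSheafData.top_mul, mul_comm]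
        conv_lhs => rw [← hmul, ← he]
      have h2 : (Γ i).ι.ker = ⊤ := (ModPairLib.eq_of_mul_eq_mul hD h1).symm
      have h3 := support_ker (Γ i)
      rw [h2, Scheme.IdealSheafData.support_top] at h3
      exact (h3.ge ⟨genericPoint _, rfl⟩ : _ ∈ (∅ : Set X.left))
    obtain ⟨d, G, hG, hGs, hd⟩ := ih D' hlt hD'
    refine ⟨fun j => d j + if j = i then 1 else 0, G, hG, hGs, ?_⟩
    have hp : ∏ j, (Γ j).ι.ker ^ (if j = i then 1 else 0) = (Γ i).ι.ker := by
      rw [Finset.prod_eq_single i (fun j _ hj => by rw [if_neg hj, pow_zero]) (by simp), if_pos rfl, pow_one]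
    simp only [pow_add, Finset.prod_mul_distrib]
    rw [hp, ← hmul, hd]
    ring

variable {n : ℕ} (Γ : Fin n → ArSurf.VertComp R X)
  (hinj : Function.Injective fun i => Set.range ((Γ i).ι.base))

/-- The exponents are the multiplicities. -/
theorem mult_eq {d : Fin n → ℕ} {G : X.left.IdealSheafData}
    (hG : ∀ i, Models.genPtOf R X (Γ i) ∉ G.support)
    (hF : fibreIdeal X = (∏ i, (Γ i).ι.ker ^ d i) * G)
    (hinj : Function.Injective fun i => Set.range ((Γ i).ι.base)) (i : Fin n) :
    Models.mult R X (Γ i) = d i ∧ 0 < d i :=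
  mult_eq_of_dim Γ hG hF hinj i (dim_gen (Γ i))

/-- The intersection with an ideal. -/
abbrev φ (Γ₀ : ArSurf.VertComp R X) (I : X.left.IdealSheafData) : ℤ :=
  ArSurf.inter R X (ClSub.idealMod I) Γ₀

theorem φ_mul (Γ₀ : ArSurf.VertComp R X) {I J : X.left.IdealSheafData} (hI : BlowUp.IsEffCartierIdeal I)
    (hJ : BlowUp.IsEffCartierIdeal J) : φ Γ₀ (I * J) = φ Γ₀ I + φ Γ₀ J := by
  have hi := Big.isInvertible_ideal hI
  have hj := Big.isInvertible_ideal hJ
  rw [φ, inter_congr Γ₀ (Big.isInvertible_ideal (ModPairLib.isEffCartier_mul hI hJ))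
    (H23.PicMul.isInvertible_tensor hi hj) (by rw [SurfRR.cl_idealMod_mul hI hJ, cl_tensor]), inter_tensor Γ₀ hi hj]

theorem φ_top (Γ₀ : ArSurf.VertComp R X) : φ Γ₀ ⊤ = 0 := by
  have h := φ_mul Γ₀ (isEffCartier_top X.left) (isEffCartier_top X.left)
  rw [Scheme.IdealSheafData.top_mul] at h
  omega

theorem φ_pow (Γ₀ : ArSurf.VertComp R X) {I : X.left.IdealSheafData} (hI : BlowUp.IsEffCartierIdeal I) :
    ∀ m : ℕ, BlowUp.IsEffCartierIdeal (I ^ m) ∧ φ Γ₀ (I ^ m) = (m : ℤ) * φ Γ₀ I
  | 0 => by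
    rw [pow_zero, Scheme.IdealSheafData.one_eq_top]
    exact ⟨isEffCartier_top _, by rw [φ_top]; simp⟩
  | m + 1 => by
    obtain ⟨h1, h2⟩ := φ_pow Γ₀ hI m
    rw [pow_succ]
    exact ⟨ModPairLib.isEffCartier_mul h1 hI, by rw [φ_mul Γ₀ h1 hI, h2]; push_cast; ring⟩

theorem φ_prod (Γ₀ : ArSurf.VertComp R X) {ι : Type*} (s : Finset ι) (I : ι → X.left.IdealSheafData)
    (hI : ∀ i, BlowUp.IsEffCartierIdeal (I i)) :
    BlowUp.IsEffCartierIdeal (∏ i ∈ s, I i) ∧ φ Γ₀ (∏ i ∈ s, I i) = ∑ i ∈ s, φ Γ₀ (I i) := by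
  classical
  induction s using Finset.induction with
  | empty =>
    rw [Finset.prod_empty, Scheme.IdealSheafData.one_eq_top]
    exact ⟨isEffCartier_top _, by rw [φ_top, Finset.sum_empty]⟩
  | insert i t hi ih =>
    rw [Finset.prod_insert hi, Finset.sum_insert hi]
    exact ⟨ModPairLib.isEffCartier_mul (hI i) ih.1, by rw [φ_mul Γ₀ (hI i) ih.1, ih.2]⟩

theorem φ_nonpos (Γ₀ : ArSurf.VertComp R X) {G : X.left.IdealSheafData} (hG : BlowUp.IsEffCartierIdeal G)
    (hη : Models.genPtOf R X Γ₀ ∉ G.support) : φ Γ₀ G ≤ 0 := by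
  obtain ⟨L, hL, hLI⟩ := H23.PicInv.exists_inverse (Big.isInvertible_ideal hG)
  have hinv : ClSub.IsInverseOf L (ClSub.idealMod G) := ⟨(H23.PicMul.comm _ _).some ≪≫ hLI.some⟩
  have h1 := (inter_eq_length Γ₀ hG hη hinv).1
  have h2 := inter_inverse Γ₀ (Big.isInvertible_ideal hG) hinv
  simp only [φ]
  omega

variable (L : Fin n → X.left.Modules) (hL : ∀ j, ClSub.IsInverseOf (L j) (ClSub.idealMod (Γ j).ι.ker))

include hinj hL in
/-- The closed fibre pairs to zero, so the given curves pair nonpositively, and to zero if they are all. -/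
theorem sum_mult_inter (i : Fin n) :
    (∑ j, (Models.mult R X (Γ j) : ℤ) * ArSurf.inter R X (L j) (Γ i)) ≤ 0 ∧
      (Models.specialFibreSet R X ⊆ ⋃ j, Set.range (Γ j).ι.base →
        ∑ j, (Models.mult R X (Γ j) : ℤ) * ArSurf.inter R X (L j) (Γ i) = 0) := by
  classical
  obtain ⟨d, G, hG, hGs, hF⟩ := exists_split_curves Γ (fibreIdeal X) (isEffCartier_fibreIdeal X)
  have hP := φ_prod (Γ i) Finset.univ (fun j => (Γ j).ι.ker ^ d j)
    fun j => (φ_pow (Γ i) (isEffCartier_ker (Γ j)) (d j)).1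
  have h0 : φ (Γ i) (fibreIdeal X) = 0 := by
    rw [φ, inter_congr (Γ i) (Big.isInvertible_ideal (isEffCartier_fibreIdeal X))
      CurveDeg.isInvertible_structureModule (by rw [cl_fibreIdeal, H23.PicMul.one_def]), inter_structureModule]
  rw [hF, φ_mul (Γ i) hP.1 hG, hP.2] at h0
  have hs : ∑ j, (Models.mult R X (Γ j) : ℤ) * ArSurf.inter R X (L j) (Γ i) = φ (Γ i) G := by
    rw [show φ (Γ i) G = -∑ j, φ (Γ i) ((Γ j).ι.ker ^ d j) by linarith, ← Finset.sum_neg_distrib]
    refine Finset.sum_congr rfl fun j _ => ?_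
    rw [(φ_pow (Γ i) (isEffCartier_ker (Γ j)) (d j)).2, (mult_eq Γ hGs hF hinj j).1,
      inter_inverse (Γ i) (Big.isInvertible_ideal (isEffCartier_ker (Γ j))) (hL j), mul_neg]
  rw [hs]
  refine ⟨φ_nonpos (Γ i) hG (hGs i), fun hcov => ?_⟩
  have hGsub : (G.support : Set X.left) ⊆ ⋃ j, (((Γ j).ι.ker).support : Set X.left) := by
    intro z hz
    have hzF : z ∈ ((fibreIdeal X).support : Set X.left) := by
      rw [hF, Scheme.IdealSheafData.support_mul]
      exact Or.inr hz
    rw [support_fibreIdeal] at hzF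
    obtain ⟨j, hj⟩ := Set.mem_iUnion.1 (hcov hzF)
    exact Set.mem_iUnion.2 ⟨j, by rw [support_ker]; exact hj⟩
  obtain ⟨b, hb⟩ := CartierExt.exists_prod_eq (fun j => (Γ j).ι.ker) (fun j => isEffCartier_ker (Γ j))
    (fun j => inferInstance) G hG hGsub
  have hb0 : ∀ j, b j = 0 := fun j => by
    by_contra hbj
    refine hGs j ((stI_le_maximal_iff G _).1 ?_)
    rw [hb, stI_prod]
    refine (Ideal.prod_le_inf.trans (Finset.inf_le (Finset.mem_univ j))).trans ?_
    rw [stI_pow, stI_ker_gen]
    exact Ideal.pow_le_self hbj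
  rw [hb, Finset.prod_eq_one fun j _ => by rw [hb0 j, pow_zero], Scheme.IdealSheafData.one_eq_top, φ_top]

end Groth.Agent.ArInt
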