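import Groth.Agent.ArInt.ModelLib
import Groth.Agent.SurfRR.MulSeq
import Groth.Agent.SurfRR.Effective
import Groth.Agent.GrModX.TwistExact
import Groth.Agent.S1297
import Mathlib.RingTheory.IntegralClosure.Algebra.Basic

/-!
# Global functions on vertical divisors
-/

set_option autoImplicit false
set_option linter.style.haveILetI false
set_option linter.unusedSectionVars false
set_option backward.isDefEq.respectTransparency false
set_option backward.isDefEq.respectTransparency.types false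
set_option maxHeartbeats 1000000

universe u

open CategoryTheory CategoryTheory.Limits AlgebraicGeometry TopologicalSpace Opposite
open Groth.Agent.H23.PicMul

noncomputable section

namespace Groth.Agent.ArInt

open Groth.Agent

variable {R : Type u} [CommRing R] [IsDomain R] [IsDiscreteValuationRing R]
  {X : Over (Spec (CommRingCat.of R))}

/-- The functions on a closed subscheme are a field, finite over the base. -/
def IsFieldFinite (X : Over (Spec (CommRingCat.of R))) (J : X.left.IdealSheafData) : Prop :=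
  IsField ↑Γ(J.subscheme, ⊤) ∧
    ((J.subschemeι ≫ X.hom).appTop.hom.comp (Scheme.ΓSpecIso (CommRingCat.of R)).inv.hom).Finite

/-- A section killed by a mono-like step vanishes. -/
theorem app_eq_zero {W W' Y : Scheme.{u}} {j : W ⟶ W'} {f' : W' ⟶ Y} {f : W ⟶ Y} (h : j ≫ f' = f) (U : Y.Opens)
    (t : Γ(Y, U)) (hz : j.app (f' ⁻¹ᵁ U) (f'.app U t) = 0) : f.app U t = 0 := by
  subst h; exact hz

theorem structureMap_comp {W W' : Scheme.{u}} (j : W ⟶ W') (f' : W' ⟶ X.left) (f : W ⟶ X.left) (h : j ≫ f' = f) :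
    j.appTop.hom.comp ((f' ≫ X.hom).appTop.hom.comp (Scheme.ΓSpecIso (CommRingCat.of R)).inv.hom) =
      (f ≫ X.hom).appTop.hom.comp (Scheme.ΓSpecIso (CommRingCat.of R)).inv.hom := by
  subst h
  rw [Category.assoc, Scheme.Hom.comp_appTop j, CommRingCat.hom_comp, RingHom.comp_assoc]

variable [IsSurf X] [Flat X.hom]

theorem isFieldFinite_ker (Γ₀ : ArSurf.VertComp R X) : IsFieldFinite X Γ₀.ι.ker := by
  haveI : IsIntegral Γ₀.curve.left := Γ₀.isIntegral
  haveI := isProper_curve Γ₀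
  have hb : Function.Bijective Γ₀.ι.toImage.appTop := ConcreteCategory.bijective_of_isIso _
  let e : Γ(Γ₀.ι.ker.subscheme, ⊤) ≃+* Γ(Γ₀.curve.left, ⊤) := RingEquiv.ofBijective Γ₀.ι.toImage.appTop.hom hb
  refine ⟨MulEquiv.isField (isField_of_universallyClosed (IsLocalRing.ResidueField R) Γ₀.curve.hom) e.toMulEquiv, ?_⟩
  have hfin : (Γ₀.ι.ker.subschemeι ≫ X.hom).appTop.hom.Finite := S1297.finite_appTop _
  exact hfin.comp (RingHom.Finite.of_surjective _
    (ConcreteCategory.bijective_of_isIso (Scheme.ΓSpecIso (CommRingCat.of R)).inv).2)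

/-- No sections on a closed subscheme, read on the ambient scheme. -/
theorem subsingleton_sections_of_HH (A : Type u) [CommRing A] {Y C : Scheme.{u}} [Y.Over (Spec (CommRingCat.of A))]
    (ι : C ⟶ Y) [IsClosedImmersion ι] {N : Y.Modules} (hN : PicF.IsInvertible N)
    (h0 : Subsingleton (Coh.HH C ((Scheme.Modules.pullback ι).obj N) 0)) :
    Subsingleton Γ(CohB1.tensorMod (ClSub.quotMod ι.ker) N, ⊤) := by
  obtain ⟨q⟩ := ExtShX.nonempty_push_iso_quotMod ι
  obtain ⟨e⟩ := AmpleDev.push_tensor_iso ι hN (Coh.structureModule C)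
  have hM' : PicF.IsInvertible ((Scheme.Modules.pullback ι).obj N) := PicClLib.isInvertible_pullback _ hN
  obtain ⟨ψ⟩ : Nonempty (CohB1.tensorMod (Coh.structureModule C) ((Scheme.Modules.pullback ι).obj N) ≅
      (Scheme.Modules.pullback ι).obj N) := cl_eq_iff.1 (by
    rw [cl_tensor, ← H23.PicMul.one_def, one_mul])
  letI : C.Over (Spec (CommRingCat.of A)) := ⟨ι ≫ (Y ↘ Spec (CommRingCat.of A))⟩
  obtain ⟨l⟩ := PnCoh.exists_linearEquiv_push A ι rfl (ProjUPX.isQCoh_of_isInvertible hM') 0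
  haveI h1 : Subsingleton (Coh.HH Y ((Coh.push ι).obj ((Scheme.Modules.pullback ι).obj N)) 0) :=
    l.symm.toEquiv.subsingleton
  haveI : Subsingleton (Coh.HH Y (CohB1.tensorMod (ClSub.quotMod ι.ker) N) 0) :=
    QCoh.subsingleton_HH_of_iso ((AmpleVan.tw N).mapIso q.symm ≪≫ e ≪≫ (Coh.push ι).mapIso ψ).symm 0 h1
  exact (Sheaf.H.equiv₀ (Coh.toAb (CohB1.tensorMod (ClSub.quotMod ι.ker) N))
    isTerminalTop).symm.toEquiv.subsingleton

/-- Negative degree means no sections on a curve. -/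
theorem subsingleton_HH_of_deg_neg (k : Type u) [Field k] {C : Scheme.{u}} [C.Over (Spec (CommRingCat.of k))]
    [IsIntegral C] [IsProper (C ↘ Spec (CommRingCat.of k))] (hd : topologicalKrullDim C = 1) {M : C.Modules}
    (hM : PicF.IsInvertible M) (h : Curv2.deg k C M 1 < 0) : Subsingleton (Coh.HH C M 0) := by
  haveI : IsNoetherian C := CurveCohLib.isNoetherian_of_proper (k := k)
  haveI := CurveCohLib.finite_HH (k := k) (CurveDeg.isCoh_of_isInvertible hM) 0
  refine (Module.finrank_zero_iff (R := k)).1 ?_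
  by_contra h0
  obtain ⟨s, hs⟩ := CurveRR.exists_hom_ne_zero k (P := M) h0
  have h1 := (CurveDeg.euler_le_and_isIso k hd.le CurveDeg.isInvertible_structureModule hM s hs).1
  simp [Curv2.deg] at h
  omega

/-- Negative degree means no sections on the curve. -/
theorem subsingleton_sections (Γ₀ : ArSurf.VertComp R X) {B : X.left.IdealSheafData}
    (hB : BlowUp.IsEffCartierIdeal B) (hneg : φ Γ₀ B < 0) :
    Subsingleton Γ(CohB1.tensorMod (ClSub.quotMod Γ₀.ι.ker) (ClSub.idealMod B), ⊤) := by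
  haveI : IsIntegral Γ₀.curve.left := Γ₀.isIntegral
  haveI := isProper_curve_over Γ₀
  have hBi := Big.isInvertible_ideal hB
  letI : X.left.Over (Spec (CommRingCat.of R)) := ⟨X.hom⟩
  refine subsingleton_sections_of_HH R Γ₀.ι hBi
    (subsingleton_HH_of_deg_neg (IsLocalRing.ResidueField R) Γ₀.dim_eq (PicClLib.isInvertible_pullback _ hBi) ?_)
  rw [← inter_eq_deg Γ₀ hBi]
  exact hneg

/-- Functions on the larger divisor are determined on the smaller one. -/
theorem injective_inclusion {A B : X.left.IdealSheafData} (hA : BlowUp.IsEffCartierIdeal A)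
    (hB : BlowUp.IsEffCartierIdeal B) (hsub : Subsingleton Γ(CohB1.tensorMod (ClSub.quotMod A) (ClSub.idealMod B), ⊤))
    (hle : A * B ≤ B) : Function.Injective (Scheme.IdealSheafData.inclusion hle).appTop := by
  obtain ⟨f, g, w, hS, hgg⟩ := SurfRR.MulSeq.exists_seq A B hA hB
  haveI := hsub
  have hinjg : ∀ s, g.app ⊤ s = 0 → s = 0 := fun s hs => by
    have hk : InvX.ofSect s ≫ g = 0 := by
      refine AmpleX.hom_ext_one' ?_
      show InvX.one (InvX.ofSect s ≫ g) = 0
      refine Eq.trans ?_ hs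
      exact congrArg (g.app ⊤) (InvX.one_ofSect s)
    haveI := hS.mono_f
    let l := hS.exact.lift (InvX.ofSect s) hk
    have hl : l ≫ f = InvX.ofSect s := hS.exact.lift_f _ hk
    have h2 : f.app ⊤ (InvX.one l) = s := (congrArg InvX.one hl).trans (InvX.one_ofSect s)
    rw [Subsingleton.elim (InvX.one l) 0, map_zero] at h2
    exact h2.symm
  let A' := A * B
  let j := Scheme.IdealSheafData.inclusion hle
  have hj : j ≫ A'.subschemeι = B.subschemeι := Scheme.IdealSheafData.inclusion_subschemeι _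
  refine (injective_iff_map_eq_zero _).2 fun s hs => ?_
  refine hinjg s ?_
  show g.app ⊤ s = 0
  refine TopCat.Sheaf.eq_of_locally_eq' (X := X.left.toTopCat)
    ⟨(ClSub.quotMod B).presheaf, (ClSub.quotMod B).isSheaf⟩ (fun U : X.left.affineOpens => U.1) ⊤
    (fun U => homOfLE le_top) (by rw [iSup_affineOpens_eq_top]) _ _ fun U => ?_
  erw [map_zero]
  obtain ⟨t, ht⟩ := A'.subschemeι.app_surjective U.1 U.2
    (A'.subscheme.presheaf.map (homOfLE (le_top : A'.subschemeι ⁻¹ᵁ U.1 ≤ ⊤)).op s)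
  have hn : g.app U.1 ((ClSub.quotMod A').presheaf.map (homOfLE le_top).op s) =
      (ClSub.quotMod B).presheaf.map (homOfLE le_top).op (g.app ⊤ s) :=
    congr($(g.mapPresheaf.naturality (homOfLE le_top : U.1 ⟶ ⊤).op) s)
  refine hn.symm.trans ?_
  have hs' : (ClSub.quotMod A').presheaf.map (homOfLE (le_top : U.1 ≤ ⊤)).op s =
      (ClSub.toSubscheme A').app U.1 t := ht.symm
  rw [hs']
  have hcomp : g.app U.1 ((ClSub.toSubscheme A').app U.1 t) = (ClSub.toSubscheme B).app U.1 t :=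
    congr(($(hgg)).app U.1 t)
  rw [hcomp]
  show B.subschemeι.app U.1 t = 0
  refine app_eq_zero hj U.1 t ?_
  rw [ht]
  have hnat : j.app (A'.subschemeι ⁻¹ᵁ U.1)
      (A'.subscheme.presheaf.map (homOfLE (le_top : A'.subschemeι ⁻¹ᵁ U.1 ≤ ⊤)).op s) =
      B.subscheme.presheaf.map ((TopologicalSpace.Opens.map j.base).map
        (homOfLE (le_top : A'.subschemeι ⁻¹ᵁ U.1 ≤ ⊤))).op (j.appTop s) :=
    congr($(j.naturality (homOfLE (le_top : A'.subschemeι ⁻¹ᵁ U.1 ≤ ⊤)).op) s)
  rw [hnat, hs, map_zero]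

/-- Adding a curve of negative degree keeps the functions a finite field. -/
theorem isFieldFinite_step (Γ₀ : ArSurf.VertComp R X) {B : X.left.IdealSheafData}
    (hB : BlowUp.IsEffCartierIdeal B) (hneg : φ Γ₀ B < 0) (hF : IsFieldFinite X B) :
    IsFieldFinite X (Γ₀.ι.ker * B) := by
  have hle : Γ₀.ι.ker * B ≤ B := fun U => by
    rw [Scheme.IdealSheafData.ideal_mul, Pi.mul_apply]
    exact Ideal.mul_le_right
  let A' := Γ₀.ι.ker * B
  let j := Scheme.IdealSheafData.inclusion hle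
  have hj : j ≫ A'.subschemeι = B.subschemeι := Scheme.IdealSheafData.inclusion_subschemeι _
  have hinj : Function.Injective j.appTop :=
    injective_inclusion (isEffCartier_ker Γ₀) hB (subsingleton_sections Γ₀ hB hneg) hle
  have hcompR := structureMap_comp j A'.subschemeι B.subschemeι hj
  obtain ⟨hBf, hBfin⟩ := hF
  let ρ : R →+* Γ(A'.subscheme, ⊤) := (A'.subschemeι ≫ X.hom).appTop.hom.comp (Scheme.ΓSpecIso (CommRingCat.of R)).inv.hom
  letI : Algebra R Γ(A'.subscheme, ⊤) := ρ.toAlgebra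
  letI : Algebra R Γ(B.subscheme, ⊤) :=
    ((B.subschemeι ≫ X.hom).appTop.hom.comp (Scheme.ΓSpecIso (CommRingCat.of R)).inv.hom).toAlgebra
  haveI : Module.Finite R Γ(B.subscheme, ⊤) := hBfin
  let ja : Γ(A'.subscheme, ⊤) →ₐ[R] Γ(B.subscheme, ⊤) :=
    { j.appTop.hom with commutes' := fun r => RingHom.congr_fun hcompR r }
  have hfin : Module.Finite R Γ(A'.subscheme, ⊤) := Module.Finite.of_injective ja.toLinearMap hinj
  refine ⟨?_, hfin⟩
  letI : Algebra Γ(A'.subscheme, ⊤) Γ(B.subscheme, ⊤) := ja.toRingHom.toAlgebra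
  haveI : IsScalarTower R Γ(A'.subscheme, ⊤) Γ(B.subscheme, ⊤) := IsScalarTower.of_algebraMap_eq fun r => (ja.commutes r).symm
  haveI : Module.Finite Γ(A'.subscheme, ⊤) Γ(B.subscheme, ⊤) := Module.Finite.of_restrictScalars_finite R _ _
  exact isField_of_isIntegral_of_isField (R := Γ(A'.subscheme, ⊤)) (S := Γ(B.subscheme, ⊤)) hinj hBf

variable {n : ℕ} (Γ : Fin n → ArSurf.VertComp R X)
  (L : Fin n → X.left.Modules) (hL : ∀ j, ClSub.IsInverseOf (L j) (ClSub.idealMod (Γ j).ι.ker))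

/-- The divisor of a vector. -/
abbrev divOf (a : Fin n → ℕ) : X.left.IdealSheafData := ∏ j, (Γ j).ι.ker ^ a j

theorem divOf_single (i : Fin n) : divOf Γ (Pi.single i 1) = (Γ i).ι.ker := by
  classical
  rw [divOf, Finset.prod_eq_single i (fun j _ hj => by rw [Pi.single_eq_of_ne hj, pow_zero]) (by simp),
    Pi.single_eq_same, pow_one]

theorem isEffCartier_divOf (a : Fin n → ℕ) : BlowUp.IsEffCartierIdeal (divOf Γ a) := by
  classical
  rcases Nat.eq_zero_or_pos n with rfl | hn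
  · rw [divOf, Fintype.prod_empty, Scheme.IdealSheafData.one_eq_top]; exact isEffCartier_top _
  exact (φ_prod (Γ ⟨0, hn⟩) Finset.univ (fun j => (Γ j).ι.ker ^ a j)
    fun j => (φ_pow (Γ ⟨0, hn⟩) (isEffCartier_ker (Γ j)) (a j)).1).1

include hL in
theorem φ_divOf (Γ₀ : ArSurf.VertComp R X) (a : Fin n → ℕ) :
    φ Γ₀ (divOf Γ a) = -∑ j, (a j : ℤ) * ArSurf.inter R X (L j) Γ₀ := by
  rw [divOf, (φ_prod Γ₀ Finset.univ (fun j => (Γ j).ι.ker ^ a j)
    fun j => (φ_pow Γ₀ (isEffCartier_ker (Γ j)) (a j)).1).2, ← Finset.sum_neg_distrib]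
  refine Finset.sum_congr rfl fun j _ => ?_
  rw [(φ_pow Γ₀ (isEffCartier_ker (Γ j)) (a j)).2,
    inter_inverse Γ₀ (Big.isInvertible_ideal (isEffCartier_ker (Γ j))) (hL j), mul_neg, neg_neg]

include hL in
/-- One step of a computation sequence. -/
theorem isFieldFinite_add_single (a : Fin n → ℕ) (i : Fin n)
    (hpos : 0 < ∑ j, (a j : ℤ) * ArSurf.inter R X (L j) (Γ i)) (hF : IsFieldFinite X (divOf Γ a)) :
    IsFieldFinite X (divOf Γ (a + Pi.single i 1)) := by
  classical
  have h : divOf Γ (a + Pi.single i 1) = (Γ i).ι.ker * divOf Γ a := by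
    simp only [divOf, Pi.add_apply, pow_add, Finset.prod_mul_distrib]
    rw [show ∏ x, (Γ x).ι.ker ^ (Pi.single i 1 : Fin n → ℕ) x = (Γ i).ι.ker from divOf_single Γ i, mul_comm]
  rw [h]
  refine isFieldFinite_step (Γ i) (isEffCartier_divOf Γ a) ?_ hF
  rw [φ_divOf Γ L hL]
  omega

variable (hinj : Function.Injective fun i => Set.range ((Γ i).ι.base))

include hL hinj in
/-- On a connected union, a curve outside the support of a vector meets it positively. -/
theorem exists_pos_of_zero (hconn : _root_.IsConnected (⋃ i, Set.range (Γ i).ι.base)) (a : Fin n → ℕ)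
    (h0 : ∃ i, a i ≠ 0) (h1 : ∃ i, a i = 0) :
    ∃ i, a i = 0 ∧ 0 < ∑ j, (a j : ℤ) * ArSurf.inter R X (L j) (Γ i) := by
  classical
  obtain ⟨p, hp⟩ := h0
  obtain ⟨q, hq⟩ := h1
  have hcl : ∀ s : Set (Fin n), IsClosed (⋃ j ∈ s, Set.range (Γ j).ι.base) := fun s =>
    (Set.toFinite s).isClosed_biUnion fun j _ => (Γ j).ι.isClosedEmbedding.isClosed_range
  obtain ⟨y, -, hyA, hyB⟩ := (isPreconnected_closed_iff.1 hconn.isPreconnected)
    (⋃ j ∈ {j | a j ≠ 0}, Set.range (Γ j).ι.base) (⋃ j ∈ {j | a j = 0}, Set.range (Γ j).ι.base) (hcl _) (hcl _)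
    (fun y hy => by
      obtain ⟨j, hj⟩ := Set.mem_iUnion.1 hy
      by_cases h : a j = 0
      · exact Or.inr (Set.mem_biUnion (show j ∈ {j | a j = 0} from h) hj)
      · exact Or.inl (Set.mem_biUnion (show j ∈ {j | a j ≠ 0} from h) hj))
    ⟨_, Set.mem_iUnion.2 ⟨p, genericPoint _, rfl⟩, Set.mem_biUnion (show p ∈ {j | a j ≠ 0} from hp) ⟨_, rfl⟩⟩
    ⟨_, Set.mem_iUnion.2 ⟨q, genericPoint _, rfl⟩, Set.mem_biUnion (show q ∈ {j | a j = 0} from hq) ⟨_, rfl⟩⟩
  obtain ⟨j, hj, hyj⟩ := Set.mem_iUnion₂.1 hyA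
  obtain ⟨i, hi, hyi⟩ := Set.mem_iUnion₂.1 hyB
  refine ⟨i, hi, Finset.sum_pos' (fun l _ => ?_) ⟨j, Finset.mem_univ j, ?_⟩⟩
  · by_cases hl : l = i
    · rw [hl, show a i = 0 from hi, Nat.cast_zero, zero_mul]
    · exact mul_nonneg (Int.natCast_nonneg _) (inter_nonneg Γ L hL hinj (Ne.symm hl)).1
  · have hij : i ≠ j := fun h => hj (h ▸ hi)
    have hn := inter_nonneg Γ L hL hinj hij
    have : ArSurf.inter R X (L j) (Γ i) ≠ 0 := fun h => Set.disjoint_left.1 (hn.2.1 h) hyi hyj
    exact mul_pos (by exact_mod_cast Nat.pos_of_ne_zero hj) (lt_of_le_of_ne hn.1 this.symm)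

include hL hinj in
/-- Below a vector, growing by a curve of positive intersection stays below it. -/
theorem lt_of_pos {a z : Fin n → ℕ} (hle : ∀ i, a i ≤ z i) (i : Fin n)
    (hz : ∑ j, (z j : ℤ) * ArSurf.inter R X (L j) (Γ i) ≤ 0)
    (hpos : 0 < ∑ j, (a j : ℤ) * ArSurf.inter R X (L j) (Γ i)) : a i < z i := by
  by_contra h
  have he : a i = z i := le_antisymm (hle i) (not_lt.1 h)
  have : ∑ j, (a j : ℤ) * ArSurf.inter R X (L j) (Γ i) ≤ ∑ j, (z j : ℤ) * ArSurf.inter R X (L j) (Γ i) := by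
    refine Finset.sum_le_sum fun j _ => ?_
    by_cases hj : j = i
    · rw [hj, he]
    · exact mul_le_mul_of_nonneg_right (by exact_mod_cast hle j) (inter_nonneg Γ L hL hinj (Ne.symm hj)).1
  omega

end Groth.Agent.ArInt
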