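import Groth.Agent.ArInt.ContractExist
import Groth.Agent.Hensel.QuasiFiniteSplit
import Groth.Agent.CurveCohLib.Proper
import Groth.Agent.KRegLib.TwoImm
import Groth.Agent.QCoh.Stalk
import Mathlib.AlgebraicGeometry.ZariskisMainTheorem

/-!
# Horizontal divisors through closed points over a henselian discrete valuation ring
-/

set_option autoImplicit false
set_option linter.style.haveILetI false
set_option linter.unusedSectionVars false
set_option backward.isDefEq.respectTransparency false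
set_option backward.isDefEq.respectTransparency.types false
set_option maxHeartbeats 1000000

universe u

open CategoryTheory CategoryTheory.Limits AlgebraicGeometry TopologicalSpace

noncomputable section

namespace Groth.Agent.ArInt

open Groth.Agent

/-- A point isolated in its fibre is quasi-finite. -/
theorem quasiFiniteAt_of_isolated {X Y : Scheme.{u}} (f : X ⟶ Y) [LocallyOfFiniteType f] {x : X}
    (O : X.Opens) (hxO : x ∈ O) (hO : ∀ z ∈ O, f z = f x → z = x) : f.QuasiFiniteAt x := by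
  rw [Scheme.Hom.quasiFiniteAt_iff_isOpen_singleton_asFiber]
  have h : IsOpen ((f.fiberHomeo (f x)) ⁻¹' ((fun z => z.1) ⁻¹' (O : Set X) : Set (f ⁻¹' {f x}))) :=
    (O.isOpen.preimage continuous_subtype_val).preimage (f.fiberHomeo (f x)).continuous
  convert h using 1
  ext p
  constructor
  · rintro (rfl : p = _)
    show ((f.fiberHomeo (f x)) (f.asFiber x)).1 ∈ O
    simpa using hxO
  · intro hp
    refine (f.fiberHomeo (f x)).injective (Subtype.ext ?_)
    have h2 : ((f.fiberHomeo (f x)) p).1 = x := hO _ hp ((f.fiberHomeo (f x)) p).2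
    rw [h2]
    simp

variable {R : Type u} [CommRing R]

theorem mem_prime_iff {X : Scheme.{u}} {U : X.Opens} (hU : IsAffineOpen U) {x : X} (hx : x ∈ U) (a : Γ(X, U)) :
    a ∈ (hU.primeIdealOf ⟨x, hx⟩).asIdeal ↔ x ∉ X.basicOpen a := by
  letI := TopCat.Presheaf.algebra_section_stalk X.presheaf ⟨x, hx⟩
  haveI := hU.isLocalization_stalk ⟨x, hx⟩
  rw [← IsLocalization.AtPrime.to_map_mem_maximal_iff (X.presheaf.stalk x)
    (hU.primeIdealOf ⟨x, hx⟩).asIdeal a, IsLocalRing.mem_maximalIdeal, mem_nonunits_iff]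
  exact (not_congr (X.mem_basicOpen a x hx)).symm

/-- Near a quasi-finite point of the closed fibre, an affine scheme over a henselian ring is finite. -/
theorem exists_finite_nhd [HenselianLocalRing R] {Z : Scheme.{u}} [IsAffine Z]
    (h : Z ⟶ Spec (CommRingCat.of R)) [LocallyOfFiniteType h] {z : Z} (hz : h z = IsLocalRing.closedPoint R)
    (O : Z.Opens) (hzO : z ∈ O) (hO : ∀ w ∈ O, h w = IsLocalRing.closedPoint R → w = z) :
    ∃ W : Z.Opens, z ∈ W ∧ IsFinite (W.ι ≫ h) ∧ ∀ w ∈ W, h w = IsLocalRing.closedPoint R → w = z := by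
  have hqf : h.QuasiFiniteAt z := quasiFiniteAt_of_isolated h O hzO fun w hw e => hO w hw (e.trans hz)
  obtain ⟨r, hr, hzr⟩ := (isAffineOpen_top Z).exists_basicOpen_le (V := O ⊓ h.quasiFiniteLocus)
    ⟨z, hzO, hqf⟩ trivial
  let Z₀ := Z.basicOpen r
  have hZ₀ : IsAffineOpen Z₀ := (isAffineOpen_top Z).basicOpen r
  haveI : IsAffine (Z₀ : Scheme.{u}) := hZ₀
  let g : (Z₀ : Scheme.{u}) ⟶ Spec (CommRingCat.of R) := Z₀.ι ≫ h
  haveI : LocallyQuasiFinite g := by
    rw [← Scheme.Hom.quasiFiniteLocus_eq_top_iff, Scheme.Hom.quasiFiniteLocus_comp]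
    exact top_le_iff.1 fun w _ => (hr w.2).2
  let S := Γ((Z₀ : Scheme.{u}), ⊤)
  let ψ : R →+* S := g.appTop.hom.comp (Scheme.ΓSpecIso (CommRingCat.of R)).inv.hom
  letI : Algebra R S := ψ.toAlgebra
  haveI : Algebra.FiniteType R S := by
    have h1 : g.appTop.hom.FiniteType := by
      have := g.finiteType_appLE (isAffineOpen_top (Spec (CommRingCat.of R))) (isAffineOpen_top (Z₀ : Scheme.{u}))
        (le_refl _)
      rw [show g.appTop = g.appLE ⊤ ⊤ (le_refl _) from Scheme.Hom.app_eq_appLE g]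
      exact this
    exact h1.comp (RingHom.FiniteType.of_surjective _
      (ConcreteCategory.bijective_of_isIso (Scheme.ΓSpecIso (CommRingCat.of R)).inv).2)
  haveI : Algebra.QuasiFinite R S := by
    have h1 : g.appTop.hom.QuasiFinite := by
      have := LocallyQuasiFinite.quasiFinite_appLE (f := g) (isAffineOpen_top (Spec (CommRingCat.of R)))
        (isAffineOpen_top (Z₀ : Scheme.{u})) (le_refl _)
      rw [show g.appTop = g.appLE ⊤ ⊤ (le_refl _) from Scheme.Hom.app_eq_appLE g]
      exact this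
    exact h1.comp (RingHom.QuasiFinite.of_finite (RingHom.Finite.of_surjective _
      (ConcreteCategory.bijective_of_isIso (Scheme.ΓSpecIso (CommRingCat.of R)).inv).2))
  obtain ⟨e, he, hfin, htop⟩ := Hensel.exists_quasiFinite_split (S := S) R
  let W₀ := (Z₀ : Scheme.{u}).basicOpen e
  have hW₀ : IsAffineOpen W₀ := (isAffineOpen_top _).basicOpen e
  haveI : IsAffine (W₀ : Scheme.{u}) := hW₀
  let z₀ : (Z₀ : Scheme.{u}) := ⟨z, hzr⟩
  have hgz : g z₀ = IsLocalRing.closedPoint R := hz
  have hz₀ : z₀ ∈ W₀ := by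
    by_contra hn
    let P := ((isAffineOpen_top (Z₀ : Scheme.{u})).primeIdealOf ⟨z₀, trivial⟩).asIdeal
    have heP : e ∈ P := (mem_prime_iff (isAffineOpen_top _) trivial e).2 hn
    have hmP : (IsLocalRing.maximalIdeal R).map ψ ≤ P := Ideal.map_le_iff_le_comap.2 fun a ha => by
      rw [Ideal.mem_comap, mem_prime_iff (isAffineOpen_top _) trivial]
      show z₀ ∉ (Z₀ : Scheme.{u}).basicOpen (g.appTop _)
      rw [← Scheme.preimage_basicOpen_top]
      intro h'
      have h'' : g z₀ ∈ (Spec (CommRingCat.of R)).basicOpen ((Scheme.ΓSpecIso (CommRingCat.of R)).inv a) := h'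
      rw [hgz, basicOpen_eq_of_affine] at h''
      exact h'' ha
    have hle : (IsLocalRing.maximalIdeal R).map (algebraMap R (S ⧸ Ideal.span ({e} : Set S))) ≤
        P.map (Ideal.Quotient.mk (Ideal.span ({e} : Set S))) := by
      rw [show algebraMap R (S ⧸ Ideal.span ({e} : Set S)) = (Ideal.Quotient.mk (Ideal.span ({e} : Set S))).comp ψ
        from rfl, ← Ideal.map_map]
      exact Ideal.map_mono hmP
    rw [htop, top_le_iff] at hle
    have hP : P.IsPrime := ((isAffineOpen_top (Z₀ : Scheme.{u})).primeIdealOf ⟨z₀, trivial⟩).isPrime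
    refine hP.ne_top ?_
    have h2 := congrArg (Ideal.comap (Ideal.Quotient.mk (Ideal.span ({e} : Set S)))) hle
    rw [Ideal.comap_map_of_surjective _ Ideal.Quotient.mk_surjective, ← RingHom.ker_eq_comap_bot,
      Ideal.mk_ker, Ideal.comap_top] at h2
    exact top_le_iff.1 (h2.ge.trans (sup_le le_rfl ((Ideal.span_singleton_le_iff_mem P).2 heP)))
  -- finiteness
  let ρ : S →+* Γ((Z₀ : Scheme.{u}), W₀) := AModX.resR ((Z₀ : Scheme.{u}).basicOpen_le e)
  haveI : IsLocalization.Away e Γ((Z₀ : Scheme.{u}), W₀) := (isAffineOpen_top _).isLocalization_basicOpen e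
  have hρe : ρ e = 1 := by
    have hu : IsUnit (ρ e) := AModX.isUnit_resR _ _ le_rfl
    have h2 : ρ e * ρ e = ρ e * 1 := by rw [mul_one, ← map_mul, he]
    exact hu.mul_left_cancel h2
  have hρs : Function.Surjective ρ := fun y => by
    obtain ⟨⟨a, ⟨_, n, rfl⟩⟩, ha⟩ := IsLocalization.surj (Submonoid.powers e) y
    refine ⟨a, ?_⟩
    change y * ρ (e ^ n) = ρ a at ha
    rw [map_pow, hρe, one_pow, mul_one] at ha
    exact ha.symm
  haveI : IsFinite (W₀.ι ≫ g) := by
    refine (HasAffineProperty.iff_of_isAffine (P := @IsFinite)).2 ⟨inferInstance, ?_⟩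
    have h1 : (W₀.ι.appTop.hom.comp ψ).Finite := by
      let τ : Γ((Z₀ : Scheme.{u}), W₀) →+* Γ((W₀ : Scheme.{u}), ⊤) := W₀.topIso.inv.hom
      have hτ : W₀.ι.appTop.hom = τ.comp ρ := by
        ext a
        show W₀.ι.appTop a = W₀.topIso.inv (AModX.resR _ a)
        rw [Scheme.Opens.ι_appTop]
        show (Z₀ : Scheme.{u}).presheaf.map _ a = (Z₀ : Scheme.{u}).presheaf.map _ ((Z₀ : Scheme.{u}).presheaf.map _ a)
        rw [← CommRingCat.comp_apply, ← Functor.map_comp]
        rfl
      rw [hτ]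
      let q : S ⧸ Ideal.span ({1 - e} : Set S) →+* Γ((W₀ : Scheme.{u}), ⊤) :=
        Ideal.Quotient.lift _ (τ.comp ρ) fun a ha => by
          obtain ⟨c, rfl⟩ := Ideal.mem_span_singleton.1 ha
          show τ (ρ _) = 0
          rw [map_mul, map_sub, map_one, hρe, sub_self, zero_mul, map_zero]
      have hq : Function.Surjective q := fun y => by
        obtain ⟨b, rfl⟩ := (ConcreteCategory.bijective_of_isIso W₀.topIso.inv).2 y
        obtain ⟨a, rfl⟩ := hρs b
        exact ⟨Ideal.Quotient.mk _ a, rfl⟩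
      exact (RingHom.Finite.of_surjective q hq).comp
        (show (algebraMap R (S ⧸ Ideal.span ({1 - e} : Set S))).Finite from hfin)
    rw [Scheme.Hom.comp_appTop, CommRingCat.hom_comp]
    have h2 : g.appTop.hom = ψ.comp (Scheme.ΓSpecIso (CommRingCat.of R)).hom.hom := by
      ext a
      exact congrArg g.appTop ((Scheme.ΓSpecIso (CommRingCat.of R)).hom_inv_id_apply a).symm
    rw [h2, ← RingHom.comp_assoc]
    exact h1.comp (RingHom.Finite.of_surjective _
      (ConcreteCategory.bijective_of_isIso (Scheme.ΓSpecIso (CommRingCat.of R)).hom).2)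
  -- back to the scheme
  let W : Z.Opens := Z₀.ι ''ᵁ W₀
  have hW : ∀ w ∈ W, w ∈ O := fun w hw => (hr (Z₀.ι_image_le W₀ hw)).1
  refine ⟨W, ⟨z₀, hz₀, rfl⟩, ?_, fun w hw => hO w (hW w hw)⟩
  have e1 : Set.range W.ι = Set.range (W₀.ι ≫ Z₀.ι) := by
    rw [Scheme.Opens.range_ι, show ((W₀.ι ≫ Z₀.ι : (W₀ : Scheme.{u}) ⟶ Z) : _ → _) = Z₀.ι ∘ W₀.ι from rfl,
      Set.range_comp, Scheme.Opens.range_ι]
    rfl
  rw [← IsOpenImmersion.isoOfRangeEq_hom_fac W.ι (W₀.ι ≫ Z₀.ι) e1, Category.assoc, Category.assoc]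
  infer_instance

section Equation

variable [IsDomain R] [IsDiscreteValuationRing R] {X : Over (Spec (CommRingCat.of R))} [IsIntegral X.left]
  [Flat X.hom] [IsProper X.hom] [HenselianLocalRing R]

/-- Near a closed point of the closed fibre some function cuts the closed fibre only there. -/
theorem exists_equation (hdim : topologicalKrullDim X.left = 2) {U : X.left.Opens} (hU : IsAffineOpen U)
    {x : X.left} (hxU : x ∈ U) (hx : IsClosed ({x} : Set X.left)) (hxs : X.hom x = IsLocalRing.closedPoint R) :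
    ∃ (f : Γ(X.left, U)) (O : X.left.Opens), x ∈ O ∧ x ∉ X.left.basicOpen f ∧
      (∃ η, x < η ∧ η < genericPoint X.left ∧ X.hom η = IsLocalRing.closedPoint R) ∧
      ∀ w ∈ U, w ∈ O → X.hom w = IsLocalRing.closedPoint R → w ∉ X.left.basicOpen f → w = x := by
  classical
  obtain ⟨ϖ, hϖ⟩ := IsDiscreteValuationRing.exists_irreducible R
  have hm : IsLocalRing.maximalIdeal R = Ideal.span {ϖ} :=
    (IsDiscreteValuationRing.irreducible_iff_uniformizer ϖ).1 hϖ
  haveI : IsLocallyNoetherian X.left := LocallyOfFiniteType.isLocallyNoetherian X.hom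
  haveI : CompactSpace X.left := QuasiCompact.compactSpace_of_compactSpace X.hom
  haveI : IsNoetherian X.left := {}
  haveI : IsNoetherianRing Γ(X.left, U) := IsLocallyNoetherian.component_noetherian ⟨U, hU⟩
  let π : Γ(X.left, U) := AModX.resR (le_top : U ≤ ⊤) (X.hom.appTop ((Scheme.ΓSpecIso (CommRingCat.of R)).inv ϖ))
  have hπ : ∀ w (hw : w ∈ U), π ∈ (hU.primeIdealOf ⟨w, hw⟩).asIdeal ↔ X.hom w = IsLocalRing.closedPoint R := by
    intro w hw
    rw [mem_prime_iff hU hw]
    have hb : w ∈ X.left.basicOpen π ↔ ¬ (ϖ ∈ (X.hom w : PrimeSpectrum R).asIdeal) := by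
      show w ∈ X.left.basicOpen (X.left.presheaf.map _ _) ↔ _
      rw [X.left.basicOpen_res, ← Scheme.preimage_basicOpen_top]
      refine ⟨fun h h' => ?_, fun h => ⟨hw, ?_⟩⟩
      · have h2 : X.hom w ∈ (Spec (CommRingCat.of R)).basicOpen ((Scheme.ΓSpecIso (CommRingCat.of R)).inv ϖ) := h.2
        rw [basicOpen_eq_of_affine] at h2
        exact h2 h'
      · show X.hom w ∈ (Spec (CommRingCat.of R)).basicOpen _
        rw [basicOpen_eq_of_affine]
        exact h
    rw [hb, not_not]
    rcases spec_cases R (X.hom w) with h | h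
    · simp only [h, iff_true]
      show ϖ ∈ IsLocalRing.maximalIdeal R
      rw [hm]; exact Ideal.mem_span_singleton_self ϖ
    · rw [h]
      refine ⟨fun h' => absurd (Ideal.mem_bot.1 h') hϖ.ne_zero, fun h' => absurd h'.symm closedPoint_ne_bot⟩
  have hspec : ∀ (P Q : PrimeSpectrum Γ(X.left, U)) (w v : X.left) (hw : w ∈ U) (hv : v ∈ U),
      hU.primeIdealOf ⟨w, hw⟩ = P → hU.primeIdealOf ⟨v, hv⟩ = Q → P.asIdeal ≤ Q.asIdeal → w ⤳ v :=
    fun P Q w v hw hv eP eQ hle => by
      have h := ((PrimeSpectrum.le_iff_specializes P Q).1 hle).map hU.fromSpec.continuous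
      rw [← eP, ← eQ, hU.fromSpec_primeIdealOf, hU.fromSpec_primeIdealOf] at h
      exact h
  let p := hU.primeIdealOf ⟨x, hxU⟩
  have hπp : π ∈ p.asIdeal := (hπ x hxU).2 hxs
  have hfinM : ((Ideal.span {π}).minimalPrimes).Finite := Ideal.finite_minimalPrimes_of_isNoetherianRing _ _
  let M := hfinM.toFinset.erase p.asIdeal
  have hMmem : ∀ q ∈ M, q.IsPrime ∧ π ∈ q ∧ q ≠ p.asIdeal := fun q hq => by
    obtain ⟨hne, hq'⟩ := Finset.mem_erase.1 hq
    have h := (hfinM.mem_toFinset.1 hq').1
    exact ⟨h.1, h.2 (Ideal.mem_span_singleton_self π), hne⟩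
  have hgen : ∀ w, X.hom w = IsLocalRing.closedPoint R → w < genericPoint X.left := fun w hw =>
    lt_of_specializes_ne ((genericPoint_spec X.left).specializes (Set.mem_univ w))
      fun he => closedPoint_ne_bot ((he ▸ hw : X.hom (genericPoint X.left) = IsLocalRing.closedPoint R).symm.trans hom_genericPoint)
  -- a point of the closed fibre above the given one
  have hηex : ∃ η, x < η ∧ η < genericPoint X.left ∧ X.hom η = IsLocalRing.closedPoint R := by
    by_cases hp : p.asIdeal ∈ (Ideal.span {π}).minimalPrimes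
    · exfalso
      obtain ⟨g, hg, hgp⟩ : ∃ g, g ∈ M.inf id ∧ g ∉ p.asIdeal := by
        by_contra hcon
        push Not at hcon
        obtain ⟨q, hq, hqp⟩ := p.2.inf_le'.1 (show M.inf id ≤ p.asIdeal from hcon)
        obtain ⟨hqP, hπq, hne⟩ := hMmem q hq
        exact hne (le_antisymm hqp (hp.2 ⟨hqP, (Ideal.span_singleton_le_iff_mem q).2 hπq⟩ hqp))
      have hxg : x ∈ X.left.basicOpen g := by
        by_contra h'
        exact hgp ((mem_prime_iff hU hxU g).2 h')
      haveI : IsAffine (U : Scheme.{u}) := hU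
      obtain ⟨W, hxW, hfinW, -⟩ := exists_finite_nhd (U.ι ≫ X.hom) (z := ⟨x, hxU⟩) hxs
        (U.ι ⁻¹ᵁ X.left.basicOpen g) hxg (fun w hw hws => by
          obtain ⟨q, hq, hqle⟩ := Ideal.exists_minimalPrimes_le
            (show Ideal.span {π} ≤ (hU.primeIdealOf w).asIdeal from
              (Ideal.span_singleton_le_iff_mem _).2 ((hπ w.1 w.2).2 hws))
          have hqp : q = p.asIdeal := by
            by_contra hne
            have hgq : g ∈ q := (Finset.inf_le (Finset.mem_erase.2 ⟨hne, hfinM.mem_toFinset.2 hq⟩) : M.inf id ≤ q) hg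
            exact (mem_prime_iff hU w.2 g).1 (hqle hgq) hw
          refine Subtype.ext ?_
          have h1 : x ⤳ w.1 := hspec p (hU.primeIdealOf w) x w.1 hxU w.2 rfl rfl (hqp ▸ hqle)
          exact (h1.mem_closed hx (Set.mem_singleton x)))
      -- a finite open neighbourhood is everything
      haveI := hfinW
      haveI : IsClosedImmersion (W.ι ≫ U.ι) := by
        haveI : IsProper ((W.ι ≫ U.ι) ≫ X.hom) := by rw [Category.assoc]; infer_instance
        haveI : IsProper (W.ι ≫ U.ι) := IsProper.of_comp _ X.hom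
        exact IsClosedImmersion.of_isPreimmersion _ (W.ι ≫ U.ι).isClosedMap.isClosed_range
      have huniv : Set.range (W.ι ≫ U.ι) = Set.univ := by
        refine IsClopen.eq_univ ⟨(W.ι ≫ U.ι).isClosedEmbedding.isClosed_range,
          (W.ι ≫ U.ι).isOpenEmbedding.isOpen_range⟩ ⟨x, ⟨⟨x, hxU⟩, hxW⟩, rfl⟩
      haveI : Surjective (W.ι ≫ U.ι) := ⟨fun y => huniv.ge (Set.mem_univ y)⟩
      haveI : IsIso (W.ι ≫ U.ι) := isIso_of_isClosedImmersion_of_surjective _
      haveI : IsFinite X.hom := by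
        rw [show X.hom = inv (W.ι ≫ U.ι) ≫ (W.ι ≫ U.ι ≫ X.hom) from by simp]
        infer_instance
      -- fibres of a finite morphism have no specializations
      have hnospec : ∀ a b : X.left, X.hom a = X.hom b → a ≤ b → a = b := fun a b hab hle => by
        haveI := (locallyQuasiFinite_iff_isDiscrete_preimage_singleton (f := X.hom)).1 inferInstance (X.hom a)
        have hd := IsDiscrete.to_subtype this
        have hle' : (⟨b, hab.symm⟩ : X.hom ⁻¹' {X.hom a}) ⤳ (⟨a, rfl⟩ : X.hom ⁻¹' {X.hom a}) :=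
          (subtype_specializes_iff _ _).2 hle
        exact (congrArg Subtype.val hle'.eq).symm
      obtain ⟨a, b, c, hab, hbc⟩ : ∃ a b c : X.left, a < b ∧ b < c := by
        by_contra hcon
        push Not at hcon
        have h1 := dim_le_one_of_no_chain (C := X.left) fun a b d hab hbd => absurd hbd (hcon a b d hab)
        rw [hdim] at h1
        exact absurd h1 (by norm_num)
      have hmono : ∀ {a b : X.left}, a < b → X.hom a = IsLocalRing.closedPoint R ∧
          X.hom b = (⟨⊥, Ideal.isPrime_bot⟩ : PrimeSpectrum R) := fun {a b} h => by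
        have hne : X.hom a ≠ X.hom b := fun e => h.ne (hnospec a b e h.le)
        have hle : X.hom b ⤳ X.hom a := (show b ⤳ a from h.le).map X.hom.continuous
        rcases spec_cases R (X.hom a) with ha | ha <;> rcases spec_cases R (X.hom b) with hb | hb
        · exact absurd (ha.trans hb.symm) hne
        · exact ⟨ha, hb⟩
        · exfalso
          rw [ha, hb] at hle
          refine closedPoint_ne_bot (R := R) (PrimeSpectrum.ext (le_bot_iff.1 ?_))
          exact (PrimeSpectrum.le_iff_specializes _ _).2 hle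
        · exact absurd (ha.trans hb.symm) hne
      exact closedPoint_ne_bot (R := R) ((hmono hbc).1.symm.trans (hmono hab).2)
    · obtain ⟨q, hq, hqp⟩ := Ideal.exists_minimalPrimes_le
        (show Ideal.span {π} ≤ p.asIdeal from (Ideal.span_singleton_le_iff_mem _).2 hπp)
      obtain ⟨η, hη, hηq⟩ := QCoh.exists_point hU ⟨q, hq.1.1⟩
      have hne : η ≠ x := by
        rintro rfl
        exact hp (by rw [show p.asIdeal = q from congrArg PrimeSpectrum.asIdeal hηq]; exact hq)
      have hηs : X.hom η = IsLocalRing.closedPoint R := (hπ η hη).1 (by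
        rw [hηq]; exact hq.1.2 (Ideal.mem_span_singleton_self π))
      exact ⟨η, lt_of_specializes_ne (hspec _ p η x hη hxU hηq rfl hqp) hne, hgen η hηs, hηs⟩
  -- avoid the components of the closed fibre
  obtain ⟨f, hfp, hfM⟩ : ∃ f, f ∈ p.asIdeal ∧ ∀ q ∈ M, f ∉ q := by
    by_contra hcon
    push Not at hcon
    have hsub : (p.asIdeal : Set Γ(X.left, U)) ⊆ ⋃ q ∈ (M : Set (Ideal Γ(X.left, U))), (q : Set Γ(X.left, U)) :=
      fun a ha => by
        obtain ⟨q, hq, haq⟩ := hcon a ha
        exact Set.mem_biUnion (Finset.mem_coe.2 hq) haq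
    obtain ⟨q, hq, hle⟩ := (Ideal.subset_union_prime (f := id) (⊥ : Ideal Γ(X.left, U)) ⊥
      (fun i hi _ _ => (hMmem i hi).1)).1 hsub
    obtain ⟨-, hπq, hne⟩ := hMmem q hq
    -- `q` contains the prime of a closed point
    obtain ⟨w, hw, hwq⟩ := QCoh.exists_point hU ⟨q, (hMmem q hq).1⟩
    have h1 : x ⤳ w := hspec p _ x w hxU hw rfl hwq hle
    obtain rfl : w = x := h1.mem_closed hx (Set.mem_singleton x)
    exact hne (congrArg PrimeSpectrum.asIdeal hwq).symm
  let S : Set X.left := {w | X.hom w = IsLocalRing.closedPoint R ∧ w ∈ U ∧ w ∉ X.left.basicOpen f ∧ w ≠ x}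
  have hScl : ∀ w ∈ S, IsClosed ({w} : Set X.left) := by
    rintro w ⟨hws, hw, hwf, hwx⟩
    obtain ⟨q, hq, hqle⟩ := Ideal.exists_minimalPrimes_le
      (show Ideal.span {π} ≤ (hU.primeIdealOf ⟨w, hw⟩).asIdeal from
        (Ideal.span_singleton_le_iff_mem _).2 ((hπ w hw).2 hws))
    obtain ⟨η, hη, hηq⟩ := QCoh.exists_point hU ⟨q, hq.1.1⟩
    have h1 : η ⤳ w := hspec _ _ η w hη hw hηq rfl hqle
    have hqp : q ≠ p.asIdeal := by
      rintro rfl
      exact hwx ((hspec p _ x w hxU hw rfl rfl hqle).mem_closed hx (Set.mem_singleton x))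
    have hne : η ≠ w := by
      rintro rfl
      refine hfM q (Finset.mem_erase.2 ⟨hqp, hfinM.mem_toFinset.2 hq⟩) ?_
      have := (mem_prime_iff hU hη f).2 hwf
      rwa [hηq] at this
    have hηs : X.hom η = IsLocalRing.closedPoint R := (hπ η hη).1 (by rw [hηq]; exact hq.1.2 (Ideal.mem_span_singleton_self π))
    rw [← closure_subset_iff_isClosed]
    intro v hv
    by_contra hvne
    exact no_chain_four' hdim (lt_of_specializes_ne (specializes_iff_mem_closure.2 hv) (Ne.symm hvne))
      (lt_of_specializes_ne h1 hne) (hgen η hηs)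
  have hSfin : S.Finite := by
    haveI : IsAffine (U : Scheme.{u}) := hU
    haveI : IsNoetherian (U : Scheme.{u}) :=
      { toIsLocallyNoetherian := LocallyOfFiniteType.isLocallyNoetherian (U.ι ≫ X.hom), toCompactSpace := inferInstance }
    have hcl : IsClosed ({w | X.hom (U.ι w) = IsLocalRing.closedPoint R ∧ U.ι w ∉ X.left.basicOpen f} :
        Set (U : Scheme.{u})) :=
      ((IsLocalRing.isClosed_singleton_closedPoint R).preimage (U.ι ≫ X.hom).continuous).inter
        ((X.left.basicOpen f).isOpen.preimage U.ι.continuous).isClosed_compl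
    have hfin := CurveCohLib.finite_of_closedPoints hcl fun w hw => by
      have h1 : IsClosed ({U.ι w} : Set X.left) := by
        by_cases hwx : U.ι w = x
        · rw [hwx]; exact hx
        · exact hScl _ ⟨hw.1, w.2, hw.2, hwx⟩
      convert h1.preimage U.ι.continuous using 1
      ext v
      simp [U.ι.isOpenEmbedding.injective.eq_iff]
    refine (hfin.image U.ι).subset fun w hw => ⟨⟨w, hw.2.1⟩, ⟨hw.1, hw.2.2.1⟩, rfl⟩
  have hSclosed : IsClosed S := by
    rw [← Set.biUnion_of_singleton S]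
    exact hSfin.isClosed_biUnion hScl
  refine ⟨f, ⟨Sᶜ, hSclosed.isOpen_compl⟩, fun h => h.2.2.2 rfl,
    (mem_prime_iff hU hxU f).1 hfp, hηex, fun w hw hwO hws hwf => ?_⟩
  by_contra hne
  exact hwO ⟨hws, hw, hwf, hne⟩

/-- Through a closed point of the closed fibre passes a horizontal divisor meeting it only there. -/
theorem exists_horizontal_divisor (hdim : topologicalKrullDim X.left = 2) {x : X.left}
    (hx : IsClosed ({x} : Set X.left)) (hxs : X.hom x = IsLocalRing.closedPoint R) :
    ∃ (D : Scheme.{u}) (d : D ⟶ X.left), IsClosedImmersion d ∧ BlowUp.IsEffCartierIdeal d.ker ∧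
      IsFinite (d ≫ X.hom) ∧
      (∀ p : D, ∃ q : D, q ⤳ p ∧ ((d ≫ X.hom).base q).asIdeal = ⊥) ∧
      Set.range d.base ∩ X.hom.base ⁻¹' {IsLocalRing.closedPoint R} = {x} := by
  classical
  haveI : IsLocallyNoetherian X.left := LocallyOfFiniteType.isLocallyNoetherian X.hom
  haveI : CompactSpace X.left := QuasiCompact.compactSpace_of_compactSpace X.hom
  haveI : IsNoetherian X.left := {}
  obtain ⟨_, ⟨U, hU, rfl⟩, hxU, -⟩ := X.left.isBasis_affineOpens.exists_subset_of_mem_open (Set.mem_univ x) isOpen_univ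
  obtain ⟨f, O, hxO, hxf, ⟨η, hxη, hηg, hηs⟩, hO⟩ := exists_equation hdim hU hxU hx hxs
  haveI : IsNoetherianRing Γ(X.left, U) := IsLocallyNoetherian.component_noetherian ⟨U, hU⟩
  have hηU : η ∈ U := (show η ⤳ x from hxη.le).mem_open U.isOpen hxU
  have hf0 : f ≠ 0 := fun h => by
    have hηO : η ∈ O := (show η ⤳ x from hxη.le).mem_open O.isOpen hxO
    exact hxη.ne (hO η hηU hηO hηs (by rw [h, Scheme.basicOpen_zero]; exact fun h' => h')).symm
  let Z : Scheme.{u} := Spec (CommRingCat.of (Γ(X.left, U) ⧸ Ideal.span ({f} : Set Γ(X.left, U))))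
  let m : Γ(X.left, U) ⟶ CommRingCat.of (Γ(X.left, U) ⧸ Ideal.span ({f} : Set Γ(X.left, U))) :=
    CommRingCat.ofHom (Ideal.Quotient.mk _)
  haveI : IsClosedImmersion (Spec.map m) := IsClosedImmersion.spec_of_surjective _ Ideal.Quotient.mk_surjective
  let i : Z ⟶ X.left := Spec.map m ≫ hU.fromSpec
  haveI : IsImmersion i := inferInstance
  haveI : QuasiCompact i := QuasiCompact.of_comp i X.hom
  have hmem : ∀ w : Z, i w ∈ U ∧ i w ∉ X.left.basicOpen f := fun w => by
    refine ⟨hU.range_fromSpec.le ⟨Spec.map m w, rfl⟩, fun h => ?_⟩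
    have h2 : Spec.map m w ∈ PrimeSpectrum.basicOpen f := by
      rw [← hU.fromSpec_preimage_basicOpen]; exact h
    refine h2 ?_
    show Ideal.Quotient.mk (Ideal.span ({f} : Set Γ(X.left, U))) f ∈ (w : PrimeSpectrum _).asIdeal
    rw [Ideal.Quotient.eq_zero_iff_mem.2 (Ideal.mem_span_singleton_self f)]
    exact zero_mem _
  let p := hU.primeIdealOf ⟨x, hxU⟩
  have hfp : Ideal.span ({f} : Set Γ(X.left, U)) ≤ p.asIdeal :=
    (Ideal.span_singleton_le_iff_mem _).2 ((mem_prime_iff hU hxU f).2 hxf)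
  have hlift : ∀ P : PrimeSpectrum Γ(X.left, U), Ideal.span ({f} : Set Γ(X.left, U)) ≤ P.asIdeal →
      ∃ w : Z, Spec.map m w = P := fun P hP => by
    haveI : (P.asIdeal.map (Ideal.Quotient.mk (Ideal.span ({f} : Set Γ(X.left, U))))).IsPrime :=
      Ideal.map_isPrime_of_surjective Ideal.Quotient.mk_surjective (by rwa [Ideal.mk_ker])
    refine ⟨(⟨_, this⟩ : PrimeSpectrum _), PrimeSpectrum.ext ?_⟩
    show (P.asIdeal.map (Ideal.Quotient.mk _)).comap (Ideal.Quotient.mk _) = P.asIdeal
    rw [Ideal.comap_map_of_surjective _ Ideal.Quotient.mk_surjective, ← RingHom.ker_eq_comap_bot, Ideal.mk_ker]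
    exact sup_eq_left.2 hP
  obtain ⟨z, hz⟩ := hlift p hfp
  have hiz : i z = x := by
    show hU.fromSpec (Spec.map m z) = x
    rw [hz]
    exact hU.fromSpec_primeIdealOf ⟨x, hxU⟩
  have hinj : Function.Injective i := i.isEmbedding.injective
  haveI : IsAffine Z := inferInstance
  obtain ⟨W, hzW, hfin, hW⟩ := exists_finite_nhd (i ≫ X.hom) (z := z) (by
      show X.hom (i z) = _; rw [hiz]; exact hxs) (i ⁻¹ᵁ O) (by show i z ∈ O; rwa [hiz]) fun w hw hws =>
    hinj ((hO (i w) (hmem w).1 hw hws (hmem w).2).trans hiz.symm)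
  let d : (W : Scheme.{u}) ⟶ X.left := W.ι ≫ i
  haveI hdfin : IsFinite (d ≫ X.hom) := by rw [show d ≫ X.hom = W.ι ≫ i ≫ X.hom from Category.assoc _ _ _]; exact hfin
  haveI : IsProper d := IsProper.of_comp d X.hom
  haveI hd : IsClosedImmersion d := IsClosedImmersion.of_isPreimmersion d d.isClosedMap.isClosed_range
  refine ⟨(W : Scheme.{u}), d, hd, ?_, hdfin, ?_, ?_⟩
  · intro y
    by_cases hy : y ∈ Set.range d
    · obtain ⟨w, rfl⟩ := hy
      obtain ⟨O', hO', hO'W⟩ := i.isEmbedding.isInducing.isOpen_iff.1 W.isOpen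
      obtain ⟨g, hg, hwg⟩ := hU.exists_basicOpen_le (V := U ⊓ ⟨O', hO'⟩)
        ⟨d w, (hmem w.1).1, (hO'W.ge w.2 : i w.1 ∈ O')⟩ (hmem w.1).1
      refine ⟨X.left.affineBasicOpen (U := ⟨U, hU⟩) g, hwg, AModX.resR (X.left.basicOpen_le g) f, ?_, ?_⟩
      · haveI : Nonempty (X.left.basicOpen g) := ⟨⟨_, hwg⟩⟩
        haveI : IsDomain Γ(X.left, X.left.basicOpen g) := inferInstance
        refine mem_nonZeroDivisors_of_ne_zero (M₀ := Γ(X.left, X.left.basicOpen g)) fun h => hf0 ?_
        exact map_injective_of_isIntegral X.left (homOfLE (X.left.basicOpen_le g)) (h.trans (map_zero _).symm)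
      · have hle : i ⁻¹ᵁ X.left.basicOpen g ≤ W := fun v hv => (hO'W.le ((hg hv).2) : v ∈ (W : Set Z))
        show d.ker.ideal (X.left.affineBasicOpen (U := ⟨U, hU⟩) g) = _
        rw [Scheme.Hom.ker_apply]
        refine (KRegLib.ker_app_comp_ι i W hle).trans ?_
        refine (i.ker_apply (X.left.affineBasicOpen (U := ⟨U, hU⟩) g)).symm.trans
          ((i.ker.map_ideal_basicOpen ⟨U, hU⟩ g).symm.trans ?_)
        rw [Scheme.Hom.ker_apply]
        have hk : RingHom.ker (i.app U).hom = Ideal.span ({f} : Set Γ(X.left, U)) := by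
          haveI : IsIso (Z.presheaf.map (homOfLE (le_top : i ⁻¹ᵁ U ≤ ⊤)).op) := by
            haveI : IsIso (homOfLE (le_top : i ⁻¹ᵁ U ≤ ⊤)) :=
              ⟨homOfLE (fun w _ => (hmem w).1), rfl, rfl⟩
            infer_instance
          have h1 : i.app U = m ≫ (Scheme.ΓSpecIso _).inv ≫
              Z.presheaf.map (homOfLE (le_top : i ⁻¹ᵁ U ≤ ⊤)).op := by
            rw [Scheme.Hom.comp_app, hU.fromSpec_app_self, Category.assoc, (Spec.map m).naturality,
              ← Category.assoc m, Scheme.ΓSpecIso_inv_naturality m, Category.assoc]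
            rfl
          rw [h1]
          simp only [CommRingCat.hom_comp]
          rw [RingHom.ker_comp_of_injective]
          · exact Ideal.mk_ker
          · exact ((ConcreteCategory.bijective_of_isIso
              (Z.presheaf.map (homOfLE (le_top : i ⁻¹ᵁ U ≤ ⊤)).op)).1).comp
              (ConcreteCategory.bijective_of_isIso (Scheme.ΓSpecIso _).inv).1
        rw [hk, Ideal.map_span, Set.image_singleton]
        rfl
    · obtain ⟨_, ⟨V, hV, rfl⟩, hyV, hVd⟩ := X.left.isBasis_affineOpens.exists_subset_of_mem_open hy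
        d.isClosedEmbedding.isClosed_range.isOpen_compl
      refine ⟨⟨V, hV⟩, hyV, 1, one_mem _, ?_⟩
      rw [Ideal.span_singleton_one, Scheme.Hom.ker_apply]
      have hbot : d ⁻¹ᵁ V = ⊥ := eq_bot_iff.2 fun v hv => (hVd hv ⟨v, rfl⟩).elim
      haveI : Subsingleton Γ((W : Scheme.{u}), d ⁻¹ᵁ V) := by rw [hbot]; infer_instance
      exact eq_top_iff.2 fun a _ => Subsingleton.elim _ _
  · intro p'
    rcases spec_cases R ((d ≫ X.hom) p') with h | h
    swap
    · exact ⟨p', specializes_rfl, congrArg PrimeSpectrum.asIdeal h⟩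
    have hp'z : p'.1 = z := hW p'.1 p'.2 h
    -- the closed point is not a component
    have hnmin : p.asIdeal ∉ (Ideal.span ({f} : Set Γ(X.left, U))).minimalPrimes := fun hmin => by
      haveI : IsDomain Γ(X.left, U) := by haveI : Nonempty U := ⟨⟨x, hxU⟩⟩; infer_instance
      have h1 := Ideal.height_le_one_of_isPrincipal_of_mem_minimalPrimes _ p.asIdeal hmin
      let qη := hU.primeIdealOf ⟨η, hηU⟩
      have hlt : qη.asIdeal < p.asIdeal := by
        refine lt_of_le_of_ne ?_ fun he => hxη.ne ?_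
        · refine (PrimeSpectrum.le_iff_specializes qη p).2 ?_
          refine hU.fromSpec.isOpenEmbedding.isInducing.specializes_iff.1 ?_
          rw [hU.fromSpec_primeIdealOf, hU.fromSpec_primeIdealOf]
          exact hxη.le
        · have := congrArg hU.fromSpec (PrimeSpectrum.ext he : qη = p)
          rwa [hU.fromSpec_primeIdealOf, hU.fromSpec_primeIdealOf, eq_comm] at this
      have hne : (⊥ : Ideal Γ(X.left, U)) < qη.asIdeal := bot_lt_iff_ne_bot.2 fun he => by
        have hgU : genericPoint X.left ∈ U := (genericPoint_spec X.left).mem_open_set_iff U.isOpen |>.2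
          ⟨x, Set.mem_univ _, hxU⟩
        have h3 : qη ⤳ hU.primeIdealOf ⟨_, hgU⟩ := (PrimeSpectrum.le_iff_specializes _ _).1 (by
          show qη.asIdeal ≤ _; rw [he]; exact bot_le)
        have h4 := h3.map hU.fromSpec.continuous
        rw [hU.fromSpec_primeIdealOf, hU.fromSpec_primeIdealOf] at h4
        exact hηg.not_ge h4
      haveI := qη.2
      haveI := p.2
      haveI : p.asIdeal.FiniteHeight := Ideal.finiteHeight_iff_lt.2 (Or.inr (lt_of_le_of_lt h1 (by simp)))
      have h2 := Ideal.height_strict_mono_of_isPrime_of_isPrime hlt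
      haveI : qη.asIdeal.FiniteHeight := Ideal.finiteHeight_iff_lt.2 (Or.inr (h2.trans_le le_top))
      have h3 := Ideal.height_strict_mono_of_isPrime_of_isPrime hne
      have h4 : qη.asIdeal.height = 0 := by
        have := h2.trans_le h1
        rwa [ENat.lt_one_iff_eq_zero] at this
      rw [h4] at h3
      exact not_lt_zero h3
    obtain ⟨q, hq, hqp⟩ := Ideal.exists_minimalPrimes_le hfp
    obtain ⟨w, hw⟩ := hlift ⟨q, hq.1.1⟩ hq.1.2
    have hwz : w ⤳ z := by
      refine (Spec.map m).isEmbedding.isInducing.specializes_iff.1 ?_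
      rw [hw, hz]
      exact (PrimeSpectrum.le_iff_specializes _ _).1 hqp
    refine ⟨⟨w, hwz.mem_open W.isOpen hzW⟩, (subtype_specializes_iff _ _).2 (by rw [hp'z]; exact hwz), ?_⟩
    rcases spec_cases R ((i ≫ X.hom) w) with hw' | hw'
    · refine absurd ?_ hnmin
      have := hW w (hwz.mem_open W.isOpen hzW) hw'
      rw [this, hz] at hw
      rw [hw]
      exact hq
    · exact congrArg PrimeSpectrum.asIdeal hw'
  · ext y
    constructor
    · rintro ⟨⟨w, rfl⟩, hws⟩
      show i w.1 = x
      rw [hW w.1 w.2 hws, hiz]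
    · rintro rfl
      exact ⟨⟨⟨z, hzW⟩, hiz⟩, hxs⟩

end Equation

end Groth.Agent.ArInt
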