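import Groth.Agent.ArInt.DivFrame
import Groth.Agent.ArInt.EulerChi
import Groth.Agent.ArInt.HenselSection
import Groth.Agent.Lib.AVAmple
import Groth.Agent.Lib.CurveDeg
import Groth.Agent.S0002

/-!
# Powers of a horizontal divisor are generated by sections
-/

set_option autoImplicit false
set_option linter.style.haveILetI false
set_option linter.unusedSectionVars false
set_option backward.isDefEq.respectTransparency false
set_option backward.isDefEq.respectTransparency.types false
set_option maxHeartbeats 1000000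

universe u

open CategoryTheory CategoryTheory.Limits AlgebraicGeometry TopologicalSpace
open Groth.Agent.H23.PicMul
open Groth.Agent.PnCoh.Finite (mapLin deltaLin)

noncomputable section

namespace Groth.Agent.ArInt

open Groth.Agent

theorem isFrame_smul_unit {X : Scheme.{u}} {M : X.Modules} {U : X.Opens} {e : Γ(M, U)} (he : InvX.IsFrame e)
    {a : Γ(X, U)} (ha : IsUnit a) : InvX.IsFrame (a • e) := by
  intro V h
  have hu : IsUnit (AModX.resR h a) := ha.map _
  have h2 : (fun r : Γ(X, V) => r • AModX.res M h (a • e)) =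
      (fun r : Γ(X, V) => r • AModX.res M h e) ∘ (fun r => r * AModX.resR h a) :=
    funext fun r => by simp only [Function.comp_apply, AModX.res_smul, mul_smul]
  rw [h2]
  exact (he V h).comp (IsUnit.isUnit_iff_mulRight_bijective.1 hu)

/-- On an affine scheme an invertible module has a generating section at every point. -/
theorem exists_section_affine {X : Scheme.{u}} [IsAffine X] {M : X.Modules} (hM : PicF.IsInvertible M) (x : X) :
    ∃ a : Γ(M, ⊤), x ∈ AmpleX.locus a := by
  obtain ⟨U, hxU, e, he⟩ := InvX.exists_frame hM x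
  obtain ⟨g, hg, hxg⟩ := (isAffineOpen_top X).exists_basicOpen_le (V := U) ⟨x, hxU⟩ trivial
  obtain ⟨n, a, ha⟩ := QCoh.exists_pow_smul_eq_map (ProjUPX.isQCoh_of_isInvertible hM) (isAffineOpen_top X) g
    (AModX.res M hg e)
  refine ⟨a, AmpleX.mem_locus.2 ⟨X.basicOpen g, le_top, hxg, ?_⟩⟩
  show InvX.IsFrame (M.presheaf.map (homOfLE (X.basicOpen_le g)).op a)
  rw [ha]
  exact isFrame_smul_unit (he.res hg) ((AModX.isUnit_resR _ _ le_rfl).pow n)

theorem bijective_mapLin (A : Type u) [CommRing A] {Y : Scheme.{u}} [Y.Over (Spec (CommRingCat.of A))]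
    {M N : Y.Modules} (e : M ≅ N) (n : ℕ) : Function.Bijective (mapLin A e.hom n) := by
  have h : ∀ {P Q : Y.Modules} (f : P ≅ Q) x, mapLin A f.inv n (mapLin A f.hom n x) = x := fun {P Q} f x => by
    refine (PnCoh.Finite.map_map (Y := Y.toPresheafedSpace.carrier)
      (((QCoh.toAbFunctor Y).map_comp f.hom f.inv).symm.trans (by rw [f.hom_inv_id, CategoryTheory.Functor.map_id])) n x).trans ?_
    show ((Sheaf.functorH _ n).map (𝟙 _)).hom x = x
    rw [CategoryTheory.Functor.map_id]
    rfl
  exact ⟨fun x y hxy => by rw [← h e x, hxy, h e y], fun y => ⟨mapLin A e.inv n y, h e.symm y⟩⟩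

/-- A chain of surjections out of a noetherian module is eventually injective. -/
theorem eventually_injective {R : Type u} [CommRing R] [IsNoetherianRing R] (M : ℕ → Type u)
    [∀ i, AddCommGroup (M i)] [∀ i, Module R (M i)] [Module.Finite R (M 0)]
    (g : ∀ i, M i →ₗ[R] M (i + 1)) (hg : ∀ i, Function.Surjective (g i)) :
    ∃ n₀, ∀ n, n₀ ≤ n → Function.Injective (g n) := by
  let c : ∀ i, M 0 →ₗ[R] M i := Nat.rec LinearMap.id fun i ih => (g i).comp ih
  have hc : ∀ i, Function.Surjective (c i) := fun i => by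
    induction i with
    | zero => exact fun y => ⟨y, rfl⟩
    | succ i ih => exact (hg i).comp ih
  have hmono : Monotone fun i => LinearMap.ker (c i) := monotone_nat_of_le_succ fun i x hx => by
    show g i (c i x) = 0
    rw [show c i x = 0 from hx, map_zero]
  obtain ⟨n₀, hn₀⟩ := monotone_stabilizes_iff_noetherian.2 (inferInstance : IsNoetherian R (M 0)) ⟨_, hmono⟩
  refine ⟨n₀, fun n hn => (injective_iff_map_eq_zero _).2 fun y hy => ?_⟩
  obtain ⟨x, rfl⟩ := hc n y
  have h1 : LinearMap.ker (c n₀) = LinearMap.ker (c n) := hn₀ n hn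
  have h2 : LinearMap.ker (c n₀) = LinearMap.ker (c (n + 1)) := hn₀ (n + 1) (hn.trans n.le_succ)
  have hx : x ∈ LinearMap.ker (c (n + 1)) := hy
  rw [← h2, h1] at hx
  exact hx

variable {X Z : Scheme.{u}} (j : Z ⟶ X) [IsClosedImmersion j] {W : X.Modules}

/-- The restriction sequence of an invertible module on a divisor. -/
theorem restrict_seq (hW : PicF.IsInvertible W) :
    Nonempty ((AmpleVan.tw W).obj (ClSub.quotMod j.ker) ≅
      (Coh.push j).obj ((Scheme.Modules.pullback j).obj W)) ∧
    (Function.Surjective (((AmpleVan.tw W).map (ClSub.toSubscheme j.ker)).app ⊤) →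
      Function.Surjective (fun t : Γ(W, ⊤) => InvX.pullElt j t)) := by
  let G := (Scheme.Modules.pullback j).obj W
  have hG : PicF.IsInvertible G := PicClLib.isInvertible_pullback j hW
  haveI : (AmpleVan.tw W).IsEquivalence := AmpleVan.isEquivalence_tw hW
  let D := j.ker
  have hS := (Big.shortExact_ideal D).map_of_exact (AmpleVan.tw W)
  obtain ⟨q⟩ := ExtShX.nonempty_push_iso_quotMod j
  obtain ⟨α⟩ := AmpleDev.push_tensor_iso j hW (Coh.structureModule Z)
  obtain ⟨β⟩ : Nonempty (CohB1.tensorMod (Coh.structureModule Z) G ≅ G) := cl_eq_iff.1 (by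
    rw [cl_tensor, ← H23.PicMul.one_def, one_mul])
  obtain ⟨γ⟩ : Nonempty (W ≅ (AmpleVan.tw W).obj (Coh.structureModule X)) := cl_eq_iff.1 (by
    show _ = PicF.cl (CohB1.tensorMod _ _)
    rw [cl_tensor, ← H23.PicMul.one_def, one_mul])
  let ω : (AmpleVan.tw W).obj (ClSub.quotMod D) ≅ (Coh.push j).obj G :=
    (AmpleVan.tw W).mapIso q.symm ≪≫ α ≪≫ (Coh.push j).mapIso β
  refine ⟨⟨ω⟩, fun hsurj z => ?_⟩
  let π : W ⟶ (Scheme.Modules.pushforward j).obj G :=
    γ.hom ≫ (AmpleVan.tw W).map (ClSub.toSubscheme D) ≫ ω.hom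
  haveI he : Epi ((AmpleVan.tw W).map (ClSub.toSubscheme D)) := hS.epi_g
  haveI : Epi π := by
    show Epi (γ.hom ≫ (AmpleVan.tw W).map (ClSub.toSubscheme D) ≫ ω.hom)
    infer_instance
  haveI : (Scheme.Modules.pushforward j).Full := (ExtShX.ClosedHom.fullyFaithful j).full
  haveI : (Scheme.Modules.pushforward j).Faithful := (ExtShX.ClosedHom.fullyFaithful j).faithful
  let adj := Scheme.Modules.pullbackPushforwardAdjunction j
  let ψ : G ⟶ G := (adj.homEquiv W G).symm π
  have hψ : π = adj.unit.app W ≫ (Scheme.Modules.pushforward j).map ψ :=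
    ((Equiv.apply_symm_apply (adj.homEquiv W G) π).symm.trans (adj.homEquiv_unit W G ψ))
  haveI : Epi ψ := by
    haveI : Epi (adj.unit.app W ≫ (Scheme.Modules.pushforward j).map ψ) := hψ ▸ inferInstance
    haveI := epi_of_epi (adj.unit.app W) ((Scheme.Modules.pushforward j).map ψ)
    exact (Scheme.Modules.pushforward j).epi_of_epi_map (f := ψ) inferInstance
  haveI : IsIso ψ := H9Existence.isIso_of_epi_invertible hG hG ψ
  obtain ⟨v, hv⟩ := hsurj (ω.inv.app ⊤ (show Γ((Coh.push j).obj G, ⊤) from ψ.app ⊤ z))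
  refine ⟨γ.inv.app ⊤ v, ?_⟩
  have hid : ∀ {P Q : X.Modules} (f : P ≅ Q) (y : Γ(Q, ⊤)), f.hom.app ⊤ (f.inv.app ⊤ y) = y := fun f y => by
    show (f.inv ≫ f.hom).app ⊤ y = _
    rw [f.inv_hom_id]; rfl
  have h2 : π.app ⊤ (γ.inv.app ⊤ v) = (show Γ((Coh.push j).obj G, ⊤) from ψ.app ⊤ z) := by
    show ω.hom.app ⊤ (((AmpleVan.tw W).map (ClSub.toSubscheme D)).app ⊤ (γ.hom.app ⊤ (γ.inv.app ⊤ v))) = _
    rw [hid γ]
    exact (congrArg (ω.hom.app ⊤) hv).trans (hid ω _)
  rw [hψ] at h2
  have hinj : Function.Injective (ψ.app (j ⁻¹ᵁ ⊤)) := QCoh.app_injective ψ _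
  exact hinj h2

/-- Surjectivity on global sections when the connecting map vanishes. -/
theorem app_top_surjective_of_injective {Y : Scheme.{u}} (A : Type u) [CommRing A]
    [Y.Over (Spec (CommRingCat.of A))] {S : ShortComplex Y.Modules} (hS : S.ShortExact)
    (h : Function.Injective (mapLin A S.f 1)) : Function.Surjective (S.g.app ⊤) := fun y => by
  obtain ⟨x, hx⟩ : ∃ x, mapLin A S.g 0 x = (Sheaf.H.equiv₀ (Coh.toAb S.X₃) isTerminalTop).symm y := by
    have h1 : (Sheaf.H.equiv₀ (Coh.toAb S.X₃) isTerminalTop).symm y ∈ LinearMap.range (mapLin A S.g 0) := by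
      rw [range_map_g A hS 0, LinearMap.mem_ker]
      have h2 : deltaLin A hS 0 ((Sheaf.H.equiv₀ (Coh.toAb S.X₃) isTerminalTop).symm y) ∈
          LinearMap.range (deltaLin A hS 0) := ⟨_, rfl⟩
      rw [range_delta A hS 0, LinearMap.ker_eq_bot.2 h] at h2
      exact h2
    exact h1
  refine ⟨Sheaf.H.equiv₀ (Coh.toAb S.X₂) isTerminalTop x, ?_⟩
  have h2 := Sheaf.H.equiv₀_naturality isTerminalTop ((QCoh.toAbFunctor Y).map S.g) x
  exact h2.trans ((congrArg (Sheaf.H.equiv₀ (Coh.toAb S.X₃) isTerminalTop) hx).trans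
    (AddEquiv.apply_symm_apply _ _))

theorem surjective_mapLin_f {Y : Scheme.{u}} (A : Type u) [CommRing A] [Y.Over (Spec (CommRingCat.of A))]
    {S : ShortComplex Y.Modules} (hS : S.ShortExact) (n : ℕ) (h : Subsingleton (Coh.HH Y S.X₃ n)) :
    Function.Surjective (mapLin A S.f n) := fun y =>
  (range_map_f A hS n).ge (LinearMap.mem_ker.2 (h.elim _ _))

/-- What the restriction sequence gives for one invertible module on an affine divisor. -/
theorem twist_facts [IsAffine Z] (A : Type u) [CommRing A] [X.Over (Spec (CommRingCat.of A))]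
    (hW : PicF.IsInvertible W) :
    Function.Surjective (mapLin A ((AmpleVan.tw W).map (ClSub.idealModι j.ker)) 1) ∧
    (Function.Injective (mapLin A ((AmpleVan.tw W).map (ClSub.idealModι j.ker)) 1) →
      Function.Surjective (fun t : Γ(W, ⊤) => InvX.pullElt j t)) := by
  haveI : (AmpleVan.tw W).IsEquivalence := AmpleVan.isEquivalence_tw hW
  have hS := (Big.shortExact_ideal j.ker).map_of_exact (AmpleVan.tw W)
  obtain ⟨⟨ω⟩, hlift⟩ := restrict_seq j hW
  letI : Z.Over (Spec (CommRingCat.of A)) := ⟨j ≫ (X ↘ Spec (CommRingCat.of A))⟩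
  have hG := PicClLib.isInvertible_pullback j hW
  obtain ⟨a⟩ := PnCoh.exists_linearEquiv_push A j rfl (ProjUPX.isQCoh_of_isInvertible hG) 1
  haveI : Subsingleton (Coh.HH Z ((Scheme.Modules.pullback j).obj W) 1) :=
    QCoh.subsingleton_HH_of_isAffine (ProjUPX.isQCoh_of_isInvertible hG) 0
  have h3 := AmpleVan.subsingleton_of_iso ω.symm 1 a.symm.toEquiv.subsingleton
  exact ⟨surjective_mapLin_f A hS 1 h3, fun h => hlift (app_top_surjective_of_injective A hS h)⟩

/-- The maps on first cohomology in a chain of twists are eventually injective. -/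
theorem eventually_injective_chain {Y : Scheme.{u}} (A : Type u) [CommRing A] [IsNoetherianRing A]
    [Y.Over (Spec (CommRingCat.of A))] (T P Q : ℕ → Y.Modules) [Module.Finite A (Coh.HH Y (T 0) 1)]
    (f : ∀ m, P m ⟶ Q m) (e : ∀ m, T m ≅ P (m + 1)) (γ : ∀ m, Q m ≅ T m)
    (hf : ∀ m, Function.Surjective (mapLin A (f m) 1)) :
    ∃ n₀, ∀ k, n₀ ≤ k → Function.Injective (mapLin A (f (k + 1)) 1) := by
  let g : ∀ m, Coh.HH Y (T m) 1 →ₗ[A] Coh.HH Y (T (m + 1)) 1 := fun m =>
    (mapLin A (γ (m + 1)).hom 1).comp ((mapLin A (f (m + 1)) 1).comp (mapLin A (e m).hom 1))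
  obtain ⟨n₀, hn₀⟩ := eventually_injective (fun m => Coh.HH Y (T m) 1) g fun m =>
    (bijective_mapLin A (γ (m + 1)) 1).2.comp ((hf (m + 1)).comp (bijective_mapLin A (e m) 1).2)
  refine ⟨n₀, fun k hk y z hyz => ?_⟩
  obtain ⟨y, rfl⟩ := (bijective_mapLin A (e k) 1).2 y
  obtain ⟨z, rfl⟩ := (bijective_mapLin A (e k) 1).2 z
  exact congrArg _ (hn₀ k hk (congrArg (mapLin A (γ (k + 1)).hom 1) hyz))

section Horizontal

variable {R : Type u} [CommRing R] [IsDedekindDomain R] {X : Over (Spec (CommRingCat.of R))} [IsIntegral X.left]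
  [Flat X.hom] [IsProper X.hom]

/-- A horizontal divisor is finite over the base. -/
theorem isFinite_horizontal (hR : ¬ IsField R) (hdim : topologicalKrullDim X.left = 2)
    {D : Scheme.{u}} (d : D ⟶ X.left) [IsClosedImmersion d] (hD : BlowUp.IsEffCartierIdeal d.ker)
    (hhor : ∀ p : D, ∃ q : D, q ⤳ p ∧ ((d ≫ X.hom).base q).asIdeal = ⊥) : IsFinite (d ≫ X.hom) := by
  classical
  let f := d ≫ X.hom
  haveI : IsProper f := inferInstanceAs (IsProper (d ≫ X.hom))
  have hgen : ∀ z : D, d z < genericPoint X.left := fun z => by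
    refine lt_of_specializes_ne ((genericPoint_spec X.left).specializes (Set.mem_univ _)) fun he => ?_
    obtain ⟨U, hxU, a, ha, hI⟩ := hD (genericPoint X.left)
    haveI : Nonempty U.1 := ⟨⟨_, hxU⟩⟩
    have hb : genericPoint X.left ∈ X.left.basicOpen a := by
      refine ((genericPoint_spec X.left).mem_open_set_iff (X.left.basicOpen a).isOpen).2 ?_
      rw [Set.univ_inter]
      exact (Opens.ne_bot_iff_nonempty _).1 fun hb =>
        nonZeroDivisors.ne_zero ha (AlgebraicGeometry.eq_zero_of_basicOpen_eq_bot a hb)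
    have hs : genericPoint X.left ∈ d.ker.support := by
      have h1 : genericPoint X.left ∈ (d.ker.support : Set X.left) := by
        rw [Scheme.Hom.support_ker]
        exact subset_closure ⟨z, he.symm⟩
      exact h1
    rw [Scheme.IdealSheafData.mem_support_iff_of_mem hxU, Scheme.mem_zeroLocus_iff, hI] at hs
    exact hs a (Ideal.mem_span_singleton_self a) hb
  have hd : ∀ {a b : D}, a < b → d a < d b := fun {a b} h =>
    lt_of_specializes_ne ((show b ⤳ a from h.le).map d.continuous) fun he => h.ne (d.isEmbedding.injective he).symm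
  have hk : Order.krullDim X.left ≤ 2 :=
    ((Order.krullDim_eq_of_orderIso (irreducibleSetEquivPoints (α := X.left))).symm.trans_le hdim.le)
  have hno : ∀ a b c : D, a < b → b < c → False := fun a b c hab hbc => by
    have := (Order.LTSeries.length_le_krullDim (RelSeries.cons (RelSeries.cons
      ((RelSeries.singleton _ (genericPoint X.left)).cons (d c) (hgen c)) (d b) (hd hbc)) (d a) (hd hab))).trans hk
    exact absurd this (by simp only [RelSeries.cons_length, RelSeries.singleton_length]; norm_num)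
  have hnospec : ∀ a b : D, a < b → f a ≠ f b := fun a b hab he => by
    by_cases hb : (f b).asIdeal = ⊥
    · obtain ⟨m, hm⟩ := Ideal.exists_maximal R
      have hm0 : m ≠ ⊥ := Ring.ne_bot_of_isMaximal_of_not_isField hm hR
      let s : Spec (CommRingCat.of R) := (⟨m, hm.isPrime⟩ : PrimeSpectrum R)
      have hcl : IsClosed (f '' closure {a}) := f.isClosedMap _ isClosed_closure
      have hs : f a ⤳ s := (PrimeSpectrum.le_iff_specializes _ _).1 (by
        show (f a).asIdeal ≤ m
        rw [he, hb]; exact bot_le)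
      obtain ⟨a', ha', has⟩ := hs.mem_closed hcl ⟨a, subset_closure rfl, rfl⟩
      refine hno a' a b (lt_of_specializes_ne (specializes_iff_mem_closure.2 ha') fun h => hm0 ?_) hab
      rw [← h, he] at has
      exact (congrArg PrimeSpectrum.asIdeal has).symm.trans hb
    · obtain ⟨q, hq, hq0⟩ := hhor b
      exact hno a b q hab (lt_of_specializes_ne hq fun h => hb (h ▸ hq0))
  haveI : LocallyQuasiFinite f := by
    refine locallyQuasiFinite_iff_isDiscrete_preimage_singleton.2 fun s => ?_
    haveI : LocallyOfFiniteType (f.fiberToSpecResidueField s) :=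
      MorphismProperty.pullback_snd (P := @LocallyOfFiniteType) _ _ inferInstance
    haveI : IsLocallyNoetherian (f.fiber s) := LocallyOfFiniteType.isLocallyNoetherian (f.fiberToSpecResidueField s)
    haveI : IsNoetherian (f.fiber s) := {}
    have hcl : ∀ w : f.fiber s, IsClosed ({w} : Set (f.fiber s)) := fun w => by
      rw [← closure_subset_iff_isClosed]
      intro v hv
      have h1 : w ⤳ v := specializes_iff_mem_closure.2 hv
      have h2 := (h1.map (f.fiberHomeo s).continuous).map continuous_subtype_val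
      by_contra hne
      refine hnospec _ _ (lt_of_specializes_ne h2 fun h => hne ?_)
        ((((f.fiberHomeo s) v).2 : f _ = s).trans (((f.fiberHomeo s) w).2 : f _ = s).symm)
      exact ((f.fiberHomeo s).injective (Subtype.ext h)).symm
    haveI : T1Space (f.fiber s) := ⟨hcl⟩
    haveI : Finite (f.fiber s) :=
      Set.finite_univ_iff.1 (CurveCohLib.finite_of_closedPoints isClosed_univ fun w _ => hcl w)
    haveI : DiscreteTopology (f.fiber s) := inferInstance
    exact isDiscrete_iff_discreteTopology.2 (f.fiberHomeo s).symm.isEmbedding.discreteTopology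
  exact IsFinite.of_isProper_of_locallyQuasiFinite f

/-- High powers of a horizontal divisor are generated by their sections. -/
theorem globallyGenerated_pow (hR : ¬ IsField R) (hdim : topologicalKrullDim X.left = 2)
    {D : Scheme.{u}} (d : D ⟶ X.left) [IsClosedImmersion d] (hD : BlowUp.IsEffCartierIdeal d.ker)
    (hhor : ∀ p : D, ∃ q : D, q ⤳ p ∧ ((d ≫ X.hom).base q).asIdeal = ⊥)
    {L : X.left.Modules} (hLI : ClSub.IsInverseOf L (ClSub.idealMod d.ker)) :
    ∃ m₀ : ℕ, 1 ≤ m₀ ∧ ∀ m : ℕ, m₀ ≤ m → Curv2.IsGloballyGenerated (CohB1.tensorPow L m) := by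
  classical
  haveI : IsLocallyNoetherian X.left := LocallyOfFiniteType.isLocallyNoetherian X.hom
  haveI := isFinite_horizontal hR hdim d hD hhor
  haveI : IsAffine D := isAffine_of_isAffineHom (d ≫ X.hom)
  letI : X.left.Over (Spec (CommRingCat.of R)) := ⟨X.hom⟩
  letI : D.Over (Spec (CommRingCat.of R)) := ⟨d ≫ X.hom⟩
  have hIi := (S8914.result d.ker).2 hD
  have hL := isInvertible_of_inverse hIi hLI
  have hW : ∀ m, PicF.IsInvertible (CohB1.tensorPow L m) := InvX.isInvertible_tensorPow hL
  let T : ℕ → X.left.Modules := CohB1.tensorPow L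
  let f : ∀ m, (AmpleVan.tw (T m)).obj (ClSub.idealMod d.ker) ⟶ (AmpleVan.tw (T m)).obj (Coh.structureModule X.left) :=
    fun m => (AmpleVan.tw (T m)).map (ClSub.idealModι d.ker)
  have hsurjf : ∀ m, Function.Surjective (mapLin R (f m) 1) := fun m => (twist_facts d R (hW m)).1
  have he : ∀ m, Nonempty (T m ≅ (AmpleVan.tw (T (m + 1))).obj (ClSub.idealMod d.ker)) := fun m => cl_eq_iff.1 (by
    show _ = PicF.cl (CohB1.tensorMod _ _)
    rw [cl_tensor, cl_tensorPow, cl_tensorPow, pow_succ, mul_comm (PicF.cl (ClSub.idealMod d.ker)), mul_assoc,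
      Big.cl_mul_eq_one hLI, mul_one])
  have hγ : ∀ m, Nonempty ((AmpleVan.tw (T m)).obj (Coh.structureModule X.left) ≅ T m) := fun m => cl_eq_iff.1 (by
    show PicF.cl (CohB1.tensorMod _ _) = _
    rw [cl_tensor, ← H23.PicMul.one_def, one_mul])
  let e := fun m => (he m).some
  let γ := fun m => (hγ m).some
  haveI : IsProper (X.left ↘ Spec (CommRingCat.of R)) := inferInstanceAs (IsProper X.hom)
  haveI : Module.Finite R (Coh.HH X.left (T 0) 1) :=
    S0002.result R X.left (T 0) (CurveDeg.isCoh_of_isInvertible (hW 0)) 1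
  obtain ⟨n₀, hn₀⟩ := eventually_injective_chain R T
    (fun m => (AmpleVan.tw (T m)).obj (ClSub.idealMod d.ker))
    (fun m => (AmpleVan.tw (T m)).obj (Coh.structureModule X.left)) f e γ hsurjf
  refine ⟨n₀ + 1, Nat.le_add_left 1 n₀, fun m hm => ?_⟩
  obtain ⟨k, rfl⟩ : ∃ k, m = k + 1 := ⟨m - 1, (Nat.sub_add_cancel ((Nat.le_add_left 1 n₀).trans hm)).symm⟩
  have hk : n₀ ≤ k := Nat.le_of_succ_le_succ hm
  have hlift := (twist_facts d R (hW (k + 1))).2 (hn₀ k hk)
  obtain ⟨s, hs⟩ := AVAmple.exists_divisor_section d.ker hD hL hLI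
  have hcover : ∀ x, ∃ t : Γ(CohB1.tensorPow L (k + 1), ⊤), x ∈ H23.TrivBasic.locus t := fun x => by
    by_cases hx : x ∈ Set.range d
    · obtain ⟨z, rfl⟩ := hx
      obtain ⟨a, ha⟩ := exists_section_affine (PicClLib.isInvertible_pullback d (hW (k + 1))) z
      obtain ⟨t, ht⟩ := hlift a
      refine ⟨t, ?_⟩
      have h1 : z ∈ AmpleX.locus (InvX.pullElt d t) := by
        rw [show InvX.pullElt d t = a from ht]; exact ha
      rw [AmpleX.locus_pullElt (hW (k + 1)) d t] at h1
      obtain ⟨V, _, hxV, hV⟩ := AmpleX.mem_locus.1 (show d z ∈ AmpleX.locus t from h1)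
      exact H23.TrivBasic.mem_locus_iff.2 ⟨V, hxV, hV⟩
    · refine ⟨AmpleX.powElt s (k + 1), ?_⟩
      have hx' : x ∈ H23.TrivBasic.locus s := (hs x).2 fun h => hx (by
        have h1 : x ∈ (d.ker.support : Set X.left) := h
        rw [Scheme.Hom.support_ker, d.isClosedEmbedding.isClosed_range.closure_eq] at h1
        exact h1)
      obtain ⟨V, hxV, hV⟩ := H23.TrivBasic.mem_locus_iff.1 hx'
      refine H23.TrivBasic.mem_locus_iff.2 ⟨V, hxV, ?_⟩
      rw [AmpleX.res_powElt]
      exact AmpleX.isFrame_powElt hV _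
  choose t ht using hcover
  exact InvX.isGloballyGenerated_of_generated (AVAmple.generatedBy_of_locus t fun x => ⟨x, ht x⟩)

end Horizontal

end Groth.Agent.ArInt
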