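import Groth.Agent.ArInt.ModelLib
import Mathlib.FieldTheory.IsAlgClosed.Basic
import Mathlib.RingTheory.Spectrum.Prime.LTSeries

/-!
# The generic fibre of a model whose closed fibre consists of curves is a curve
-/

set_option autoImplicit false
set_option linter.style.haveILetI false
set_option linter.unusedSectionVars false
set_option backward.isDefEq.respectTransparency false
set_option backward.isDefEq.respectTransparency.types false
set_option maxHeartbeats 1000000

universe u

open CategoryTheory CategoryTheory.Limits AlgebraicGeometry TopologicalSpace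

noncomputable section

namespace Groth.Agent.ArInt

open Groth.Agent

variable {R : Type u} [CommRing R] [IsDomain R] [IsDiscreteValuationRing R]

theorem dim_le_one {C X : Scheme.{u}} [IsIntegral C] {f : C ⟶ Spec (CommRingCat.of (FractionRing R))}
    {p : X ⟶ Spec (CommRingCat.of R)} (hX : Models.IsModel R X p C f) [IsProper p]
    {n : ℕ} (Γ : Fin n → ArSurf.VertComp R (Over.mk p)) (hΓ : Models.IsComponentList R (Over.mk p) Γ) :
    topologicalKrullDim C ≤ 1 := by
  obtain ⟨-, g, hgd, hgi, hg⟩ := model_facts' hX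
  haveI : IsLocallyNoetherian X := LocallyOfFiniteType.isLocallyNoetherian p
  rw [show topologicalKrullDim C = Order.krullDim C from Order.krullDim_eq_of_orderIso (irreducibleSetEquivPoints (α := C))]
  refine iSup_le fun s => ?_
  by_contra hs
  push Not at hs
  have hlen : 2 ≤ s.length := by
    have : (1 : ℕ) < s.length := by exact_mod_cast hs
    omega
  let z : ℕ → X := fun i => g (s.toFun ⟨min i s.length, by omega⟩)
  have hstrict : ∀ i, i < 2 → z i < z (i + 1) := fun i hi => by
    have h : s.toFun ⟨min i s.length, by omega⟩ < s.toFun ⟨min (i + 1) s.length, by omega⟩ :=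
      s.strictMono (Fin.mk_lt_mk.2 (by omega))
    exact lt_of_le_not_ge (hgi.specializes_iff.2 h.le) fun h' => h.not_ge (hgi.specializes_iff.1 h')
  obtain ⟨w, hw, hwF⟩ : ∃ w, z 0 ⤳ w ∧ p w = IsLocalRing.closedPoint R := by
    have h1 := p.isClosedMap _ (isClosed_closure (s := ({z 0} : Set X)))
    have h2 : p (z 0) ⤳ IsLocalRing.closedPoint R := IsLocalRing.specializes_closedPoint _
    obtain ⟨w, hw, hw'⟩ := h2.mem_closed h1 ⟨_, subset_closure rfl, rfl⟩
    exact ⟨w, specializes_iff_mem_closure.2 hw, hw'⟩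
  have hz0 : p (z 0) ≠ IsLocalRing.closedPoint R := (hg _).1 ⟨_, rfl⟩
  let O := X.presheaf.stalk w
  haveI : IsNoetherianRing O := inferInstance
  have hmem : ∀ y : X, y ⤳ w → y ∈ Set.range (X.fromSpecStalk w) := fun y hy => by
    rw [Scheme.range_fromSpecStalk]; exact hy
  obtain ⟨P0, hP0⟩ := hmem _ hw
  obtain ⟨P1, hP1⟩ := hmem _ ((show z 1 ⤳ z 0 from (hstrict 0 (by omega)).le).trans hw)
  obtain ⟨P2, hP2⟩ := hmem _ ((show z 2 ⤳ z 1 from (hstrict 1 (by omega)).le).trans
    ((show z 1 ⤳ z 0 from (hstrict 0 (by omega)).le).trans hw))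
  have hemb := (X.fromSpecStalk w).isEmbedding.isInducing
  have hiff : ∀ a b : PrimeSpectrum O, a < b ↔ (X.fromSpecStalk w b : X) < X.fromSpecStalk w a := fun a b => by
    rw [lt_iff_le_not_ge, lt_iff_le_not_ge, PrimeSpectrum.le_iff_specializes, PrimeSpectrum.le_iff_specializes]
    exact and_congr hemb.specializes_iff.symm (not_congr hemb.specializes_iff.symm)
  have hcp : X.fromSpecStalk w (IsLocalRing.closedPoint O) = w := Scheme.fromSpecStalk_closedPoint
  let Q0 : PrimeSpectrum O := P0
  let Q1 : PrimeSpectrum O := P1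
  let Q2 : PrimeSpectrum O := P2
  have h0m : Q0 < IsLocalRing.closedPoint O := (hiff Q0 (IsLocalRing.closedPoint O)).2 (by
    show _ < X.fromSpecStalk w P0
    rw [hP0, hcp]
    exact lt_of_le_not_ge hw fun h => hz0 ((Specializes.antisymm (show w ⤳ z 0 from h) hw).eq ▸ hwF))
  have h10 : Q1 < Q0 := (hiff Q1 Q0).2 (by show X.fromSpecStalk w P0 < X.fromSpecStalk w P1; rw [hP1, hP0]; exact hstrict 0 (by omega))
  have h21 : Q2 < Q1 := (hiff Q2 Q1).2 (by show X.fromSpecStalk w P1 < X.fromSpecStalk w P2; rw [hP2, hP1]; exact hstrict 1 (by omega))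
  let L : LTSeries (PrimeSpectrum O) :=
    RelSeries.cons (RelSeries.cons (RelSeries.cons (RelSeries.singleton _ (IsLocalRing.closedPoint O)) Q0 h0m) Q1 h10) Q2 h21
  obtain ⟨π, hπ⟩ := IsDiscreteValuationRing.exists_irreducible R
  let φ : CommRingCat.of R ⟶ O := Spec.preimage (X.fromSpecStalk w ≫ p)
  let a : O := φ.hom π
  have hmemπ : ∀ P : PrimeSpectrum O, a ∈ P.asIdeal ↔ p (X.fromSpecStalk w P) = IsLocalRing.closedPoint R := fun P => by
    have hφ : p (X.fromSpecStalk w P) = Spec.map φ P := by rw [Spec.map_preimage]; rfl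
    rw [hφ]
    refine ⟨fun h => PrimeSpectrum.ext ?_, fun h => ?_⟩
    · refine ((IsLocalRing.maximalIdeal.isMaximal R).eq_of_le (PrimeSpectrum.isPrime _).ne_top ?_).symm
      rw [hπ.maximalIdeal_eq, Ideal.span_singleton_le_iff_mem]
      exact h
    · show π ∈ PrimeSpectrum.asIdeal (show PrimeSpectrum R from Spec.map φ P)
      rw [h]
      exact (show π ∈ IsLocalRing.maximalIdeal R from hπ.maximalIdeal_eq.symm ▸ Ideal.mem_span_singleton_self π)
  have hlast : L.last = IsLocalRing.closedPoint O := by simp [L]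
  obtain ⟨q, hq1, hqlen, -, -⟩ := PrimeSpectrum.exist_ltSeries_mem_one_of_mem_last L
    (x := a) (by rw [hlast, hmemπ, hcp]; exact hwF)
  have hq3 : q.length = 3 := by rw [← hqlen]; simp [L]
  let y : ℕ → PrimeSpectrum O := fun i => q.toFun ⟨min i q.length, by omega⟩
  have hy1 : a ∈ (y 1).asIdeal := by
    have he : (y 1) = q 1 := congrArg q.toFun (Fin.ext (by
      simp only [Fin.val_one']
      rw [Nat.mod_eq_of_lt (by omega)]
      omega))
    rwa [he]
  have hy12 : y 1 < y 2 := q.strictMono (Fin.mk_lt_mk.2 (by omega))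
  have hy23 : y 2 < y 3 := q.strictMono (Fin.mk_lt_mk.2 (by omega))
  let x : ℕ → X := fun i => X.fromSpecStalk w (y i)
  have hx : ∀ i, a ∈ (y i).asIdeal → x i ∈ Models.specialFibreSet R (Over.mk p) := fun i hi => (hmemπ _).1 hi
  obtain ⟨j, hj⟩ := Set.mem_iUnion.1 (cover _ Γ hΓ (hx 1 hy1))
  have hcl := (Γ j).ι.isClosedEmbedding.isClosed_range
  exact false_of_chain (Γ j).dim_eq.le (Γ j).ι (Γ j).ι.isClosedEmbedding.isInducing
    ((hiff _ _).1 hy23) ((hiff _ _).1 hy12)
    (Specializes.mem_closed (((hiff _ _).1 (hy12.trans hy23)).le) hcl hj)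
    (Specializes.mem_closed ((hiff _ _).1 hy12).le hcl hj) hj

end Groth.Agent.ArInt

namespace Groth.Agent.ArInt

/-- A field finite over a DVR with algebraically closed residue field is the residue field. -/
theorem length_eq_one_of_field {R : Type u} [CommRing R] [IsDomain R] [IsDiscreteValuationRing R]
    (hk : IsAlgClosed (IsLocalRing.ResidueField R)) {F : Type u} [CommRing F] [Algebra R F]
    [Module.Finite R F] (hF : IsField F) : Module.length R F = 1 := by
  letI : Field F := hF.toField
  have hm : ∀ r ∈ IsLocalRing.maximalIdeal R, algebraMap R F r = 0 := by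
    have hmax : (RingHom.ker (algebraMap R F)).IsMaximal := by
      haveI : Algebra.IsIntegral R F := Algebra.IsIntegral.of_finite R F
      have h := Ideal.isMaximal_comap_of_isIntegral_of_isMaximal (R := R) (⊥ : Ideal F)
        (hI := Ideal.bot_isMaximal)
      rwa [← RingHom.ker_eq_comap_bot] at h
    intro r hr
    exact RingHom.mem_ker.1 ((IsLocalRing.eq_maximalIdeal hmax).ge hr)
  let φ : IsLocalRing.ResidueField R →+* F := Ideal.Quotient.lift _ (algebraMap R F) hm
  letI : Algebra (IsLocalRing.ResidueField R) F := φ.toAlgebra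
  haveI : IsScalarTower R (IsLocalRing.ResidueField R) F := IsScalarTower.of_algebraMap_eq fun r => rfl
  haveI : Module.Finite (IsLocalRing.ResidueField R) F := Module.Finite.of_restrictScalars_finite R _ _
  haveI := hk
  have hb : Function.Bijective (algebraMap (IsLocalRing.ResidueField R) F) :=
    IsAlgClosed.algebraMap_bijective_of_isIntegral
  rw [Module.length_eq_of_surjective (R := IsLocalRing.ResidueField R) IsLocalRing.residue_surjective,
    Module.length_eq_finrank, ← (LinearEquiv.ofBijective (Algebra.linearMap _ F) hb).finrank_eq,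
    Module.finrank_self, Nat.cast_one]

end Groth.Agent.ArInt
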