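import Groth.Agent.H9PB.FundLemmas
import Groth.Agent.MorLib.BddFib

/-!
# Geometric lengths are divisible by the degree of the field of functions
-/

set_option autoImplicit false
set_option linter.style.haveILetI false
set_option linter.unusedSectionVars false
set_option backward.isDefEq.respectTransparency false
set_option backward.isDefEq.respectTransparency.types false
set_option maxHeartbeats 1000000

universe u

open CategoryTheory CategoryTheory.Limits AlgebraicGeometry TopologicalSpace
open scoped TensorProduct

noncomputable section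

namespace Groth.Agent.ArInt

open Groth.Agent

/-- A finite local algebra over an algebraically closed field has its dimension as length. -/
theorem length_local_finite (K : Type u) [Field K] [IsAlgClosed K] (B : Type u) [CommRing B] [IsLocalRing B]
    [Algebra K B] [Module.Finite K B] : Module.length B B = (Module.finrank K B : ℕ∞) := by
  haveI : IsLocalHom (algebraMap K B) := ⟨fun a ha => by
    rw [isUnit_iff_ne_zero]
    rintro rfl
    rw [map_zero] at ha
    exact not_isUnit_zero ha⟩
  have h := IsLocalRing.length_restrictScalars K B B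
  have h1 : Module.length (IsLocalRing.ResidueField K) (IsLocalRing.ResidueField B) = 1 := by
    let e := RingEquiv.ofBijective (IsLocalRing.residue K)
      ⟨(IsLocalRing.residue K).injective, IsLocalRing.residue_surjective⟩
    have hs : Function.Surjective (algebraMap K (IsLocalRing.ResidueField B)) := by
      haveI : Module.Finite K (IsLocalRing.ResidueField B) :=
        Module.Finite.of_surjective (IsScalarTower.toAlgHom K B (IsLocalRing.ResidueField B)).toLinearMap
          IsLocalRing.residue_surjective
      exact (IsAlgClosed.algebraMap_bijective_of_isIntegral).2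
    have hs' : Function.Surjective (algebraMap (IsLocalRing.ResidueField K) (IsLocalRing.ResidueField B)) := fun y => by
      obtain ⟨a, rfl⟩ := hs y
      exact ⟨e a, (IsScalarTower.algebraMap_apply K (IsLocalRing.ResidueField K) (IsLocalRing.ResidueField B) a).symm⟩
    rw [Module.length_eq_rank, show Module.rank (IsLocalRing.ResidueField K) (IsLocalRing.ResidueField B) = 1 from
      rank_eq_one (1 : IsLocalRing.ResidueField B) one_ne_zero fun y => by
        obtain ⟨a, rfl⟩ := hs' y
        exact ⟨a, (Algebra.algebraMap_eq_smul_one a).symm⟩]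
    simp
  rw [h1, mul_one] at h
  rw [← h, Module.length_eq_rank, ← Module.finrank_eq_rank]
  simp

/-- The stalk of the spectrum of a local ring at its closed point. -/
theorem length_stalk_closedPoint (B : Type u) [CommRing B] [IsLocalRing B] (w : Spec (CommRingCat.of B))
    (hw : (w : PrimeSpectrum B).asIdeal = IsLocalRing.maximalIdeal B) :
    Module.length ((Spec (CommRingCat.of B)).presheaf.stalk w) ((Spec (CommRingCat.of B)).presheaf.stalk w) =
      Module.length B B := by
  let w' : PrimeSpectrum B := w
  letI : Algebra B ((Spec (CommRingCat.of B)).presheaf.stalk w) :=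
    StructureSheaf.stalkAlgebra B w'
  haveI : IsLocalization.AtPrime ((Spec (CommRingCat.of B)).presheaf.stalk w) w'.asIdeal :=
    StructureSheaf.IsLocalization.to_stalk B w'
  have hunit : w'.asIdeal.primeCompl ≤ IsUnit.submonoid B := fun b hb => by
    have : b ∉ IsLocalRing.maximalIdeal B := hw ▸ hb
    exact of_not_not fun h => this ((IsLocalRing.mem_maximalIdeal b).2 h)
  let e := IsLocalization.atUnits B w'.asIdeal.primeCompl (S := (Spec (CommRingCat.of B)).presheaf.stalk w) hunit
  have hs : Function.Surjective (algebraMap B ((Spec (CommRingCat.of B)).presheaf.stalk w)) := fun y =>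
    ⟨e.symm y, (e.commutes (e.symm y)).symm.trans (e.apply_symm_apply y)⟩
  exact ((Module.length_eq_of_surjective (M := (Spec (CommRingCat.of B)).presheaf.stalk w) hs).symm).trans
    e.toLinearEquiv.length_eq.symm

/-- Lengths on the geometric fibre are multiples of the degree of the functions. -/
theorem exists_length_eq_mul {k K : Type u} [Field k] [Field K] [IsAlgClosed K] [Algebra k K]
    {P Pb : Scheme.{u}} [Nonempty P] [ConnectedSpace Pb] {s : P ⟶ Spec (CommRingCat.of k)} {q : Pb ⟶ P}
    {r : Pb ⟶ Spec (CommRingCat.of K)} (hq : IsPullback q r s (Spec.map (CommRingCat.ofHom (algebraMap k K))))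
    (hA : IsField ↑Γ(P, ⊤)) (hfin : (s.appTop.hom.comp (Scheme.ΓSpecIso (CommRingCat.of k)).inv.hom).Finite)
    (x : Pb) :
    letI := (s.appTop.hom.comp (Scheme.ΓSpecIso (CommRingCat.of k)).inv.hom).toAlgebra
    ∃ L : ℕ∞, Module.length (Pb.presheaf.stalk x) (Pb.presheaf.stalk x) =
      (Module.finrank k Γ(P, ⊤) : ℕ∞) * L := by
  letI alg : Algebra k Γ(P, ⊤) := (s.appTop.hom.comp (Scheme.ΓSpecIso (CommRingCat.of k)).inv.hom).toAlgebra
  haveI : Module.Finite k Γ(P, ⊤) := hfin
  haveI : Nontrivial Γ(P, ⊤) := ⟨hA.exists_pair_ne⟩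
  let A : Type u := Γ(P, ⊤)
  let φ : CommRingCat.of k ⟶ CommRingCat.of A := CommRingCat.ofHom (algebraMap k A)
  let t : P ⟶ Spec (CommRingCat.of A) := P.toSpecΓ
  have ht : t ≫ Spec.map φ = s := by
    have h1 : Spec.map φ = Spec.map s.appTop ≫ Spec.map (Scheme.ΓSpecIso (CommRingCat.of k)).inv := by
      rw [← Spec.map_comp]
      rfl
    show P.toSpecΓ ≫ Spec.map φ = s
    rw [h1, ← Category.assoc, ← Scheme.toSpecΓ_naturality, ← SpecMap_ΓSpecIso_hom, Category.assoc, ← Spec.map_comp,
      Iso.inv_hom_id, Spec.map_id, Category.comp_id]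
  let B : Type u := A ⊗[k] K
  letI : Algebra K B := Algebra.TensorProduct.rightAlgebra
  let u : Spec (CommRingCat.of B) ⟶ Spec (CommRingCat.of A) :=
    Spec.map (CommRingCat.ofHom (Algebra.TensorProduct.includeLeftRingHom : A →+* B))
  let v : Spec (CommRingCat.of B) ⟶ Spec (CommRingCat.of K) :=
    Spec.map (CommRingCat.ofHom (Algebra.TensorProduct.includeRight : K →ₐ[k] B).toRingHom)
  have hT : IsPullback u v (Spec.map φ) (Spec.map (CommRingCat.ofHom (algebraMap k K))) :=
    isPullback_SpecMap_of_isPushout _ _ _ _ (CommRingCat.isPushout_tensorProduct k A K)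
  have hw : (q ≫ t) ≫ Spec.map φ = r ≫ Spec.map (CommRingCat.ofHom (algebraMap k K)) := by
    rw [Category.assoc, ht]; exact hq.w
  let tb : Pb ⟶ Spec (CommRingCat.of B) := hT.lift (q ≫ t) r hw
  have h1 : tb ≫ u = q ≫ t := hT.lift_fst _ _ _
  have h2 : tb ≫ v = r := hT.lift_snd _ _ _
  have hsq : IsPullback q tb t u :=
    IsPullback.of_bot (by rw [h2, ht]; exact hq) h1.symm hT
  haveI : Flat t := MorLib.BF.flat_to_field hA t
  haveI : Flat tb := MorphismProperty.of_isPullback hsq ‹Flat t›
  haveI : Subsingleton (Spec (CommRingCat.of A)) := by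
    letI := hA.toField
    exact inferInstanceAs (Subsingleton (PrimeSpectrum A))
  haveI : Surjective t := ⟨fun z => ⟨Classical.arbitrary P, Subsingleton.elim _ _⟩⟩
  haveI : Surjective tb := MorphismProperty.of_isPullback hsq ‹Surjective t›
  haveI : Module.Finite k A := ‹Module.Finite k Γ(P, ⊤)›
  haveI : Module.Finite K B := Module.Finite.equiv (Algebra.TensorProduct.commRight k K A).toLinearEquiv
  haveI : IsArtinianRing B := IsArtinianRing.of_finite K B
  haveI : ConnectedSpace (PrimeSpectrum B) := tb.surjective.connectedSpace tb.continuous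
  haveI : Subsingleton (PrimeSpectrum B) := PreconnectedSpace.trivial_of_discrete
  obtain ⟨w₀⟩ := (inferInstance : Nonempty (PrimeSpectrum B))
  haveI : Nontrivial B := ⟨0, 1, fun h => w₀.isPrime.ne_top ((Ideal.eq_top_iff_one _).2 (h ▸ zero_mem _))⟩
  haveI : IsLocalRing B := IsLocalRing.of_unique_max_ideal ⟨w₀.asIdeal,
    IsArtinianRing.isMaximal_of_isPrime _, fun I hI =>
      congrArg PrimeSpectrum.asIdeal (Subsingleton.elim (⟨I, hI.isPrime⟩ : PrimeSpectrum B) w₀)⟩
  refine ⟨Module.length (Pb.presheaf.stalk x) (Pb.presheaf.stalk x ⧸ Ideal.map (tb.stalkMap x).hom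
    (IsLocalRing.maximalIdeal ((Spec (CommRingCat.of B)).presheaf.stalk (tb x)))),
    (H9PB.length_self_flat tb x).trans ?_⟩
  rw [length_stalk_closedPoint B (tb x) (IsLocalRing.eq_maximalIdeal
      (IsArtinianRing.isMaximal_of_isPrime _)), length_local_finite K B,
    ← (Algebra.TensorProduct.commRight k K A).toLinearEquiv.finrank_eq, Module.finrank_baseChange]

end Groth.Agent.ArInt
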