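import Groth.Agent.ArInt.GGDivisor
import Groth.Agent.ArInt.ArtinContract
import Groth.Agent.S1519

/-!
# Semi-ample divisors contracting given curves over a henselian base
-/

set_option autoImplicit false
set_option linter.style.haveILetI false
set_option linter.unusedSectionVars false
set_option backward.isDefEq.respectTransparency false
set_option backward.isDefEq.respectTransparency.types false
set_option maxHeartbeats 1000000

universe u

open CategoryTheory CategoryTheory.Limits AlgebraicGeometry TopologicalSpace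
open Groth.Agent.H23.PicMul

noncomputable section

namespace Groth.Agent.ArInt

open Groth.Agent

theorem mem_trivLocus_iff {Y : Scheme.{u}} {M : Y.Modules} {t : Γ(M, ⊤)} {y : Y} :
    y ∈ H23.TrivBasic.locus t ↔ y ∈ AmpleX.locus t :=
  ⟨fun h => by
    obtain ⟨V, hyV, hV⟩ := H23.TrivBasic.mem_locus_iff.1 h
    exact AmpleX.mem_locus.2 ⟨V, le_top, hyV, hV⟩,
  fun h => by
    obtain ⟨V, _, hyV, hV⟩ := AmpleX.mem_locus.1 h
    exact H23.TrivBasic.mem_locus_iff.2 ⟨V, hyV, hV⟩⟩

theorem exists_locus_of_gg' {Y : Scheme.{u}} [CompactSpace Y] {M : Y.Modules} (hM : PicF.IsInvertible M)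
    (hgg : Curv2.IsGloballyGenerated M) (y : Y) : ∃ a : Γ(M, ⊤), y ∈ AmpleX.locus a :=
  (CurveReg.exists_locus_of_gg hM hgg y).imp fun _ h => mem_trivLocus_iff.1 h

variable {R : Type u} [CommRing R] [IsDomain R] [IsDiscreteValuationRing R]
  {X : Over (Spec (CommRingCat.of R))} [IsIntegral X.left] [Flat X.hom] [IsProper X.hom]

/-- A semi-ample module with a section vanishing in the closed fibre exactly at given closed points. -/
theorem exists_section_vanishing [HenselianLocalRing R] (hdim : topologicalKrullDim X.left = 2)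
    (s : Finset X.left) (hs : ∀ x ∈ s, IsClosed ({x} : Set X.left) ∧ X.hom x = IsLocalRing.closedPoint R) :
    ∃ (L : X.left.Modules) (t : Γ(L, ⊤)), PicF.IsInvertible L ∧ (∀ x, ∃ a : Γ(L, ⊤), x ∈ AmpleX.locus a) ∧
      genericPoint X.left ∈ AmpleX.locus t ∧
      (∀ w, X.hom w = IsLocalRing.closedPoint R → (w ∈ AmpleX.locus t ↔ w ∉ s)) ∧
      (s.Nonempty → ∃ q : X.left, X.hom q ≠ IsLocalRing.closedPoint R ∧ q ∉ AmpleX.locus t) := by
  classical
  induction s using Finset.induction_on with
  | empty =>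
    let t : Γ(Coh.structureModule X.left, (⊤ : X.left.Opens)) := (1 : Γ(X.left, ⊤))
    have h1 : ∀ w, w ∈ AmpleX.locus t := fun w =>
      AmpleX.mem_locus.2 ⟨⊤, le_rfl, trivial, by rw [AModX.res_self]; exact InvX.isFrame_one ⊤⟩
    exact ⟨_, t, PicLoc.isInvertible_structureModule _, fun w => ⟨t, h1 w⟩, h1 _,
      fun w _ => iff_of_true (h1 w) (Finset.notMem_empty w), fun h => absurd h Finset.not_nonempty_empty⟩
  | insert x s hxs ih =>
    obtain ⟨L, t, hL, hcov, hgt, hiff, -⟩ := ih fun y hy => hs y (Finset.mem_insert_of_mem hy)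
    obtain ⟨hx, hxF⟩ := hs x (Finset.mem_insert_self x s)
    obtain ⟨D, d, hd, hE, -, hhor, hr⟩ := exists_horizontal_divisor hdim hx hxF
    haveI := hd
    have hIi := (S8914.result d.ker).2 hE
    obtain ⟨M, hM, ⟨ε⟩⟩ := H23.PicInv.exists_inverse hIi
    have hMI : ClSub.IsInverseOf M (ClSub.idealMod d.ker) := cl_eq_iff.1 (by
      rw [cl_tensor, mul_comm, ← cl_tensor]; exact cl_eq_iff.2 ⟨ε⟩)
    obtain ⟨σ, hσ0, hσ⟩ := AVAmple.exists_divisor_section_ne_zero d.ker hE hM hMI
    have hσ' : ∀ w, w ∈ AmpleX.locus σ ↔ w ∉ Set.range d := fun w => by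
      rw [← mem_trivLocus_iff, hσ w]
      refine not_congr ?_
      show w ∈ (d.ker.support : Set X.left) ↔ _
      rw [Scheme.Hom.support_ker, d.isClosedEmbedding.isClosed_range.closure_eq]
    have hR : ¬ IsField R := IsDiscreteValuationRing.not_isField R
    obtain ⟨m₀, hm₀, hgg⟩ := globallyGenerated_pow hR hdim d hE hhor hMI
    obtain ⟨k, rfl⟩ : ∃ k, m₀ = k + 1 := ⟨m₀ - 1, (Nat.sub_add_cancel hm₀).symm⟩
    have hMk : PicF.IsInvertible (CohB1.tensorPow M (k + 1)) := InvX.isInvertible_tensorPow hM _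
    haveI : CompactSpace X.left := QuasiCompact.compactSpace_of_compactSpace X.hom
    let τ := InvX.tmul t (AmpleX.powElt σ (k + 1))
    have hτ : ∀ w, w ∈ AmpleX.locus τ ↔ w ∈ AmpleX.locus t ∧ w ∉ Set.range d := fun w => by
      rw [AmpleX.locus_tmul hL hMk, AmpleX.locus_powElt hM σ k, ← hσ']
      rfl
    have hgσ : genericPoint X.left ∉ Set.range d := by
      rw [← hσ']
      obtain ⟨y, hy⟩ := (Opens.ne_bot_iff_nonempty (AmpleX.locus σ)).1 fun hb =>
        hσ0 (AmpleX.eq_zero_of_locus_eq_bot hM σ hb)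
      exact ((genericPoint_spec X.left).mem_open_set_iff (AmpleX.locus σ).isOpen).2 ⟨y, Set.mem_univ _, hy⟩
    have hfib : ∀ w, X.hom w = IsLocalRing.closedPoint R → (w ∈ Set.range d ↔ w = x) := fun w hw =>
      ⟨fun h => hr.le (show w ∈ _ from ⟨h, hw⟩), fun h => (hr.ge (show w ∈ ({x} : Set X.left) from h)).1⟩
    refine ⟨_, τ, InvX.isInvertible_tensorMod hL hMk, fun w => ?_, (hτ _).2 ⟨hgt, hgσ⟩, fun w hw => ?_, fun _ => ?_⟩
    · obtain ⟨a, ha⟩ := hcov w
      obtain ⟨b, hb⟩ := exists_locus_of_gg' hMk (hgg _ le_rfl) w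
      exact ⟨InvX.tmul a b, by rw [AmpleX.locus_tmul hL hMk]; exact ⟨ha, hb⟩⟩
    · rw [hτ, hiff w hw, hfib w hw, Finset.mem_insert, not_or]
      exact and_comm
    · obtain ⟨p, hp⟩ := ((hfib x hxF).2 rfl)
      obtain ⟨q, -, hq⟩ := hhor p
      refine ⟨d q, fun h => ?_, fun h => ((hτ _).1 h).2 ⟨q, rfl⟩⟩
      exact IsDiscreteValuationRing.not_a_field R
        ((congrArg PrimeSpectrum.asIdeal h).symm.trans hq)

/-- The vertical curves have finitely many supports. -/
theorem finite_vertComp_ranges (hdim : topologicalKrullDim X.left = 2) :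
    (Set.range fun E : ArSurf.VertComp R X => Set.range E.ι.base).Finite := by
  haveI : IsLocallyNoetherian X.left := LocallyOfFiniteType.isLocallyNoetherian X.hom
  haveI : CompactSpace X.left := QuasiCompact.compactSpace_of_compactSpace X.hom
  haveI : IsNoetherian X.left := {}
  obtain ⟨Fs, hFs, hcl, hirr, hU⟩ := NoetherianSpace.exists_finite_set_isClosed_irreducible (α := X.left)
    (Models.isClosed_specialFibreSet R X)
  refine hFs.subset ?_
  rintro _ ⟨E, rfl⟩
  have hEI : IsIrreducible (Set.range E.ι) := by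
    haveI := E.isIntegral
    rw [← Set.image_univ]
    exact (IrreducibleSpace.isIrreducible_univ _).image _ E.ι.continuous.continuousOn
  have hEF : ∀ c, X.hom (E.ι c) = IsLocalRing.closedPoint R := fun c => by
    rw [← Scheme.Hom.comp_apply, E.w, Scheme.Hom.comp_apply]
    have h := Subsingleton.elim (E.curve.hom c) (IsLocalRing.closedPoint (IsLocalRing.ResidueField R))
    rw [h]
    exact IsLocalRing.comap_closedPoint (IsLocalRing.residue R)
  obtain ⟨F, hF, hEle⟩ := isIrreducible_iff_sUnion_isClosed.1 hEI hFs.toFinset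
    (fun z hz => hcl z (hFs.mem_toFinset.1 hz)) (by
      rw [hFs.coe_toFinset, ← hU]
      rintro _ ⟨c, rfl⟩
      exact hEF c)
  rw [hFs.mem_toFinset] at hF
  haveI := E.isIntegral
  haveI := E.isClosedImmersion
  have hξ := (hirr F hF).isGenericPoint_genericPoint_closure
  rw [(hcl F hF).closure_eq] at hξ
  let ξ := (hirr F hF).genericPoint
  have hξF : X.hom ξ = IsLocalRing.closedPoint R := hU.ge (Set.mem_sUnion.2 ⟨F, hF, hξ.mem⟩)
  have hξE : ξ = E.ι (genericPoint E.curve.left) := by
    by_contra hne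
    obtain ⟨a, b, hab⟩ : ∃ a b : E.curve.left, a < b := by
      by_contra hcon
      push Not at hcon
      have h : Order.krullDim E.curve.left ≤ 0 := Order.krullDim_nonpos_iff_forall_isMax.2 fun a b hab => by
        rcases hab.lt_or_eq with h | h
        · exact absurd h (hcon a b)
        · exact h.ge
      have h1 := E.dim_eq
      rw [show topologicalKrullDim E.curve.left = Order.krullDim E.curve.left from
        Order.krullDim_eq_of_orderIso (irreducibleSetEquivPoints (α := E.curve.left))] at h1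
      rw [h1] at h
      exact absurd h (by norm_num)
    have hb : E.ι a < E.ι (genericPoint E.curve.left) := by
      refine lt_of_specializes_ne (((genericPoint_spec _).specializes (Set.mem_univ a)).map E.ι.continuous) fun he => ?_
      have he' := E.ι.isEmbedding.injective he
      exact hab.not_ge (he' ▸ (genericPoint_spec _).specializes (Set.mem_univ b))
    exact no_chain_four' hdim hb (lt_of_specializes_ne (hξ.specializes (hEle ⟨_, rfl⟩)) hne)
      (lt_of_specializes_ne ((genericPoint_spec X.left).specializes (Set.mem_univ ξ)) fun he =>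
        closedPoint_ne_bot ((he ▸ hξF : X.hom (genericPoint X.left) = _).symm.trans hom_genericPoint))
  have : Set.range E.ι = F := by
    refine hEle.antisymm ?_
    rw [← hξ.def]
    exact closure_minimal (Set.singleton_subset_iff.2 ⟨_, hξE.symm⟩) E.ι.isClosedEmbedding.isClosed_range
  show Set.range E.ι ∈ Fs
  rw [this]
  exact hF

/-- A section vanishing somewhere on the generic fibre, and not everywhere, gives positive degree there. -/
theorem curveDeg_pos_of_section (hdim : topologicalKrullDim X.left = 2) {L : X.left.Modules}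
    (hL : PicF.IsInvertible L) (t : Γ(L, ⊤)) (hgt : genericPoint X.left ∈ AmpleX.locus t) {q : X.left}
    (hq : X.hom q ≠ IsLocalRing.closedPoint R) (hqt : q ∉ AmpleX.locus t) :
    0 < ArSurf.curveDeg (FractionRing R) ((Neron.genericFibre R).obj X).left
      ((Scheme.Modules.pullback (pullback.fst X.hom (Neron.genPt R))).obj L) := by
  let C := pullback X.hom (Neron.genPt R)
  let ψ := pullback.fst X.hom (Neron.genPt R)
  haveI : IsOpenImmersion (Neron.genPt R) := isOpenImmersion_genPt
  haveI : IsOpenImmersion ψ := inferInstance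
  have hqg : q < genericPoint X.left :=
    lt_of_specializes_ne ((genericPoint_spec X.left).specializes (Set.mem_univ q)) fun h => hqt (h ▸ hgt)
  have hrange : ∀ x : X.left, X.hom x ≠ IsLocalRing.closedPoint R → x ∈ Set.range ψ := fun x hx => by
    rw [Scheme.Pullback.range_fst]
    refine ⟨IsLocalRing.closedPoint (FractionRing R), ?_⟩
    rw [(spec_cases R (X.hom x)).resolve_left hx]
    exact genPt_apply R _
  obtain ⟨c, hc⟩ := hrange q hq
  obtain ⟨g, hg⟩ := hrange (genericPoint X.left) fun h => closedPoint_ne_bot (h.symm.trans hom_genericPoint)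
  haveI : Nonempty C := ⟨c⟩
  haveI : IsIntegral C := isIntegral_of_isOpenImmersion ψ
  haveI : IsProper (pullback.snd X.hom (Neron.genPt R)) := inferInstance
  letI : C.Over (Spec (CommRingCat.of (FractionRing R))) := ⟨pullback.snd X.hom (Neron.genPt R)⟩
  haveI : IsProper (C ↘ Spec (CommRingCat.of (FractionRing R))) := inferInstanceAs (IsProper (pullback.snd X.hom (Neron.genPt R)))
  have hsp : ∀ a : C, X.hom (ψ a) ≠ IsLocalRing.closedPoint R := fun a h => by
    rw [← Scheme.Hom.comp_apply, pullback.condition, Scheme.Hom.comp_apply, genPt_apply] at h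
    exact closedPoint_ne_bot h.symm
  have hmono : ∀ {a b : C}, a < b ↔ ψ a < ψ b := fun {a b} => by
    have h : ∀ x y : C, ψ x ≤ ψ y ↔ x ≤ y := fun x y => ψ.isEmbedding.isInducing.specializes_iff
    rw [lt_iff_le_not_ge, lt_iff_le_not_ge, h, h]
  have hdimC : topologicalKrullDim C = 1 := by
    refine le_antisymm (dim_le_one_of_no_chain fun a b c hab hbc => ?_) ?_
    · obtain ⟨w, hw, hw'⟩ := (IsLocalRing.specializes_closedPoint (X.hom (ψ a))).mem_closed
        (X.hom.isClosedMap _ (isClosed_closure (s := ({ψ a} : Set X.left)))) ⟨_, subset_closure rfl, rfl⟩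
      exact no_chain_four' hdim (lt_of_specializes_ne (specializes_iff_mem_closure.2 hw)
        fun h => hsp a (h ▸ hw')) (hmono.1 hab) (hmono.1 hbc)
    · rw [show topologicalKrullDim C = Order.krullDim C from Order.krullDim_eq_of_orderIso (irreducibleSetEquivPoints (α := C))]
      have hcd : c < g := hmono.2 (by rw [hc, hg]; exact hqg)
      simpa using Order.LTSeries.length_le_krullDim ((RelSeries.singleton _ g).cons c hcd)
  let L' := (Scheme.Modules.pullback ψ).obj L
  have hL' : PicF.IsInvertible L' := PicClLib.isInvertible_pullback ψ hL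
  let t' : Γ(L', ⊤) := InvX.pullElt ψ t
  have hloc : ∀ a, a ∈ H23.TrivBasic.locus t' ↔ ψ a ∈ AmpleX.locus t := fun a => by
    rw [mem_trivLocus_iff, show AmpleX.locus t' = ψ ⁻¹ᵁ AmpleX.locus t from AmpleX.locus_pullElt hL ψ t]
    rfl
  have hpos : 0 < Curv2.deg (FractionRing R) C L' 1 := by
    refine S1519.result (FractionRing R) C hdimC L' hL' (InvX.ofSect t') (fun h0 => ?_) c
      (fun h => hqt (hc ▸ (hloc c).1 h))
    have h1 : g ∈ H23.TrivBasic.locus t' := (hloc g).2 (hg ▸ hgt)
    obtain ⟨V, hgV, hV⟩ := H23.TrivBasic.mem_locus_iff.1 h1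
    have ht0 : t' = 0 := by rw [← InvX.one_ofSect t', h0]; rfl
    rw [ht0, map_zero] at hV
    haveI : Nonempty V := ⟨⟨g, hgV⟩⟩
    exact one_ne_zero (α := Γ(C, V)) (hV.coord_unique le_rfl (by simp only [AModX.res_self, smul_zero]))
  have hd : topologicalKrullDim C ≤ ((1 : ℕ) : WithBot ℕ∞) := hdimC.le
  show 0 < ArSurf.curveDeg (FractionRing R) C L'
  unfold ArSurf.curveDeg
  rw [Nakai.eulerCharLE_eq_euler _ hd (ProjUPX.isQCoh_of_isInvertible hL'),
    Nakai.eulerCharLE_eq_euler _ hd QCoh.isQCoh_structureModule]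
  simpa [Curv2.deg] using hpos

theorem mem_locus_all_of_triv {k : Type u} [Field k] {C Y : Scheme.{u}} [IsIntegral C]
    (π : C ⟶ Spec (CommRingCat.of k)) [IsProper π] (j : C ⟶ Y) {L : Y.Modules} (hL : PicF.IsInvertible L)
    (hT : Nonempty ((Scheme.Modules.pullback j).obj L ≅ Coh.structureModule C)) (t : Γ(L, ⊤)) {c₀ : C}
    (h0 : j c₀ ∈ AmpleX.locus t) (c : C) : j c ∈ AmpleX.locus t := by
  let M := (Scheme.Modules.pullback j).obj L
  have hM : PicF.IsInvertible M := PicClLib.isInvertible_pullback j hL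
  let t' : Γ(M, ⊤) := InvX.pullElt j t
  have hloc : ∀ u, u ∈ H23.TrivBasic.locus t' ↔ j u ∈ AmpleX.locus t := fun u => by
    rw [mem_trivLocus_iff, show AmpleX.locus t' = j ⁻¹ᵁ AmpleX.locus t from AmpleX.locus_pullElt hL j t]
    rfl
  have hT' : H23.TrivBasic.Triv ((Scheme.Modules.pullback (𝟙 C)).obj M) := (show H23.TrivBasic.Triv M from hT).pullback _
  have h1 : (𝟙 C : C ⟶ C) c₀ ∈ H23.TrivBasic.locus t' := (hloc c₀).2 h0
  exact (hloc c).1 (AVAmple.mem_locus_of_triv π (𝟙 C) hM hT' t' h1 c)

theorem triv_of_mem_locus {C Y : Scheme.{u}} (j : C ⟶ Y) {L : Y.Modules} (hL : PicF.IsInvertible L)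
    (t : Γ(L, ⊤)) (h : ∀ c, j c ∈ AmpleX.locus t) :
    Nonempty ((Scheme.Modules.pullback j).obj L ≅ Coh.structureModule C) := by
  refine H23.TrivBasic.triv_of_frame (e := (show Γ((Scheme.Modules.pullback j).obj L, ⊤) from InvX.pullElt j t)) ?_
  have h0 : AmpleX.locus (InvX.pullElt j t) = ⊤ := by
    rw [AmpleX.locus_pullElt hL j t]
    exact top_le_iff.1 fun c _ => h c
  have h' := AmpleX.isFrame_res_of_le (InvX.pullElt j t) h0.ge
  erw [AModX.res_self] at h'
  exact h'

end Groth.Agent.ArInt
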