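import Groth.Agent.ArInt.RedFibre
import Groth.Agent.GrpSchLib.AntiAffine
import Groth.Agent.Lib.Euler
import Mathlib.RingTheory.SimpleModule.Basic

/-!
# Curves meeting with intersection number one
-/

set_option autoImplicit false
set_option linter.style.haveILetI false
set_option linter.unusedSectionVars false
set_option backward.isDefEq.respectTransparency false
set_option backward.isDefEq.respectTransparency.types false
set_option maxHeartbeats 1000000

universe u

open CategoryTheory CategoryTheory.Limits AlgebraicGeometry TopologicalSpace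

noncomputable section

namespace Groth.Agent.ArInt

open Groth.Agent

variable {R : Type u} [CommRing R] [IsDomain R] [IsDiscreteValuationRing R]
  {X : Over (Spec (CommRingCat.of R))} [IsSurf X]

/-- A closed subscheme with all points closed and functions of length one is a reduced rational point. -/
theorem point_of_length_one (I : X.left.IdealSheafData)
    (hcl : ∀ y ∈ (I.support : Set X.left), IsClosed ({y} : Set X.left))
    (hlen : Models.lengthH R X (ClSub.quotMod I) 0 = 1) :
    ∃ x : X.left, (I.support : Set X.left) = {x} ∧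
      I = Scheme.IdealSheafData.vanishingIdeal ⟨closure {x}, isClosed_closure⟩ ∧
      Function.Surjective ((X.left.residue x).hom.comp (Models.stalkHom R X x)) := by
  let Z := I.subscheme
  let ι := I.subschemeι
  let ρ : R →+* Γ(Z, ⊤) := (ι ≫ X.hom).appTop.hom.comp (Scheme.ΓSpecIso (CommRingCat.of R)).inv.hom
  letI : Algebra R Γ(Z, ⊤) := ρ.toAlgebra
  unfold Models.lengthH at hlen
  rw [lengthH_zero_eq] at hlen
  have hlen' : Module.length R Γ(Z, ⊤) = 1 := ENat.toNat_eq_iff one_ne_zero |>.1 hlen
  haveI : IsSimpleModule R Γ(Z, ⊤) := Module.length_eq_one_iff.1 hlen'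
  haveI : Nontrivial Γ(Z, ⊤) := IsSimpleModule.nontrivial R Γ(Z, ⊤)
  have hsurj : Function.Surjective ρ := fun y => by
    obtain ⟨r, hr⟩ := IsSimpleModule.toSpanSingleton_surjective R (one_ne_zero : (1 : Γ(Z, ⊤)) ≠ 0) y
    exact ⟨r, by rw [← hr, LinearMap.toSpanSingleton_apply, Algebra.smul_def, mul_one]; rfl⟩
  have hfield : IsField Γ(Z, ⊤) := by
    have hmax : (RingHom.ker ρ).IsMaximal := by
      haveI : IsSimpleModule R (R ⧸ RingHom.ker (Algebra.ofId R Γ(Z, ⊤))) :=
        IsSimpleModule.congr (Ideal.quotientKerAlgEquivOfSurjective (f := Algebra.ofId R Γ(Z, ⊤)) hsurj).toLinearEquiv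
      exact Ideal.isMaximal_def.2 (isSimpleModule_iff_isCoatom.1 this)
    haveI := hmax
    letI := Ideal.Quotient.field (RingHom.ker ρ)
    exact MulEquiv.isField (Field.toIsField (R ⧸ RingHom.ker ρ))
      (RingHom.quotientKerEquivOfSurjective hsurj).symm.toMulEquiv
  letI : Field Γ(Z, ⊤) := hfield.toField
  haveI : IsNoetherian X.left := inferInstance
  haveI : IsLocallyNoetherian Z := LocallyOfFiniteType.isLocallyNoetherian ι
  haveI : CompactSpace Z := QuasiCompact.compactSpace_of_compactSpace ι
  haveI : IsNoetherian Z := { }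
  have hclZ : ∀ z : Z, IsClosed ({z} : Set Z) := fun z => by
    have h := (hcl (ι z) (by rw [← I.range_subschemeι]; exact ⟨z, rfl⟩)).preimage ι.continuous
    rwa [show ι ⁻¹' {ι z} = ({z} : Set Z) from Set.ext fun w => ⟨fun h => ι.isClosedEmbedding.injective h, fun h => congrArg ι h⟩] at h
  haveI : Finite Z := by
    have hfin := TopologicalSpace.NoetherianSpace.finite_irreducibleComponents (α := Z)
    have hall : ∀ s ∈ irreducibleComponents Z, s.Subsingleton := fun s hs => by
      obtain ⟨y, hy⟩ := QuasiSober.sober hs.1 (isClosed_of_mem_irreducibleComponents s hs)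
      intro a ha b hb
      rw [← hy.def, (hclZ y).closure_eq] at ha hb
      exact ha.trans hb.symm
    refine Set.finite_univ_iff.1 ((hfin.biUnion fun s hs => (hall s hs).finite).subset fun z _ => ?_)
    exact Set.mem_biUnion (irreducibleComponent_mem_irreducibleComponents z) mem_irreducibleComponent
  haveI : DiscreteTopology Z := by
    haveI : T1Space Z := ⟨hclZ⟩
    infer_instance
  haveI : PreconnectedSpace Z := GrpSchLib.AntiAffine.preconnectedSpace_of_forall_idem fun e he => by
    rcases mul_eq_zero.1 (show e * (e - 1) = 0 by rw [mul_sub, mul_one, he, sub_self]) with h | h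
    · exact Or.inl h
    · exact Or.inr (sub_eq_zero.1 h)
  haveI : Subsingleton Z := PreconnectedSpace.trivial_of_discrete
  haveI : Nonempty Z := by
    by_contra h
    haveI : IsEmpty Z := not_nonempty_iff.1 h
    exact false_of_nontrivial_of_subsingleton Γ(Z, ⊤)
  haveI := Euler.isAffine_of_subsingleton Z
  haveI : IsReduced Z := by
    haveI : IsReduced (Spec Γ(Z, ⊤)) := inferInstance
    exact isReduced_of_isOpenImmersion Z.isoSpec.hom
  obtain ⟨z⟩ := ‹Nonempty Z›
  have hsupp : (I.support : Set X.left) = {ι z} := by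
    rw [← I.range_subschemeι]
    exact Set.ext fun y => ⟨fun ⟨w, hw⟩ => by rw [← hw, Subsingleton.elim w z]; exact Set.mem_singleton _,
      fun h => ⟨z, (Set.mem_singleton_iff.1 h).symm⟩⟩
  refine ⟨ι z, hsupp, ?_, ?_⟩
  · conv_lhs => rw [← CartierExt.radical_eq_of_isReduced I, ← Scheme.IdealSheafData.vanishingIdeal_support]
    refine congrArg _ (Closeds.ext ?_)
    rw [hsupp]
    exact ((hcl _ (hsupp.symm.subset rfl)).closure_eq).symm
  · intro t
    obtain ⟨u, hu⟩ := Z.residue_surjective z (ι.residueFieldMap z t)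
    obtain ⟨a, ha⟩ : ∃ a : Γ(Z, ⊤), Z.presheaf.germ ⊤ z trivial a = u := by
      obtain ⟨U, hzU, a, ha⟩ := Z.presheaf.exists_germ_eq u
      have hU : U = ⊤ := top_le_iff.1 fun w _ => by rw [Subsingleton.elim w z]; exact hzU
      subst hU
      exact ⟨a, ha⟩
    obtain ⟨r, hr⟩ := hsurj a
    refine ⟨r, (ι.residueFieldMap z).hom.injective ?_⟩
    show ι.residueFieldMap z (X.left.residue (ι z) (Models.stalkHom R X (ι z) r)) = ι.residueFieldMap z t
    rw [← hu, ← ha, ← hr]
    refine (ConcreteCategory.congr_hom (Scheme.residue_residueFieldMap ι z) _).trans (congrArg (Z.residue z) ?_)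
    exact Scheme.Hom.germ_stalkMap_apply ι ⊤ z trivial _

end Groth.Agent.ArInt
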