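import Groth.Agent.ArInt.RatTree
import Groth.Agent.H9Existence.Lift

/-!
# Restriction of sections to an effective divisor
-/

set_option autoImplicit false
set_option linter.style.haveILetI false
set_option linter.unusedSectionVars false
set_option backward.isDefEq.respectTransparency false
set_option backward.isDefEq.respectTransparency.types false
set_option maxHeartbeats 1000000

universe u

open CategoryTheory CategoryTheory.Limits AlgebraicGeometry TopologicalSpace
open Groth.Agent.H23.PicMul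

noncomputable section

namespace Groth.Agent.ArInt

open Groth.Agent

variable {X Z : Scheme.{u}} (j : Z ⟶ X) [IsClosedImmersion j] {W : X.Modules}

/-- Restriction to a divisor is surjective on sections without first cohomology of the twisted ideal, and
the first cohomology of a module is controlled by the two outer terms. -/
theorem restrict_divisor (hj : BlowUp.IsEffCartierIdeal j.ker) (hW : PicF.IsInvertible W)
    (h1 : Subsingleton (Coh.HH X (CohB1.tensorMod (ClSub.idealMod j.ker) W) 1)) :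
    Function.Surjective (fun t : Γ(W, ⊤) => InvX.pullElt j t) ∧
    ∀ (R : Type u) [CommRing R] (p : X ⟶ Spec (CommRingCat.of R)),
      Subsingleton (Coh.HH Z ((Scheme.Modules.pullback j).obj W) 1) → Subsingleton (Coh.HH X W 1) := by
  let G := (Scheme.Modules.pullback j).obj W
  have hG : PicF.IsInvertible G := PicClLib.isInvertible_pullback j hW
  haveI : (AmpleVan.tw W).IsEquivalence := AmpleVan.isEquivalence_tw hW
  let D := j.ker
  have hS := (Big.shortExact_ideal D).map_of_exact (AmpleVan.tw W)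
  obtain ⟨q⟩ := ExtShX.nonempty_push_iso_quotMod j
  obtain ⟨α⟩ := AmpleDev.push_tensor_iso j hW (Coh.structureModule Z)
  obtain ⟨β⟩ : Nonempty (CohB1.tensorMod (Coh.structureModule Z) G ≅ G) := cl_eq_iff.1 (by
    rw [cl_tensor, ← H23.PicMul.one_def, one_mul])
  obtain ⟨γ⟩ : Nonempty (W ≅ (AmpleVan.tw W).obj (Coh.structureModule X)) := cl_eq_iff.1 (by
    show _ = PicF.cl (CohB1.tensorMod _ _)
    rw [cl_tensor, ← H23.PicMul.one_def, one_mul])
  let ω : (AmpleVan.tw W).obj (ClSub.quotMod D) ≅ (Coh.push j).obj G :=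
    (AmpleVan.tw W).mapIso q.symm ≪≫ α ≪≫ (Coh.push j).mapIso β
  let π : W ⟶ (Scheme.Modules.pushforward j).obj G :=
    γ.hom ≫ (AmpleVan.tw W).map (ClSub.toSubscheme D) ≫ ω.hom
  haveI he : Epi ((AmpleVan.tw W).map (ClSub.toSubscheme D)) := hS.epi_g
  haveI : Epi π := by
    show Epi (γ.hom ≫ (AmpleVan.tw W).map (ClSub.toSubscheme D) ≫ ω.hom)
    infer_instance
  haveI : (Scheme.Modules.pushforward j).Full := (ExtShX.ClosedHom.fullyFaithful j).full
  haveI : (Scheme.Modules.pushforward j).Faithful := (ExtShX.ClosedHom.fullyFaithful j).faithful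
  let adj := Scheme.Modules.pullbackPushforwardAdjunction j
  let ψ : G ⟶ G := (adj.homEquiv W G).symm π
  have hψ : π = adj.unit.app W ≫ (Scheme.Modules.pushforward j).map ψ :=
    ((Equiv.apply_symm_apply (adj.homEquiv W G) π).symm.trans (adj.homEquiv_unit W G ψ))
  haveI : Epi ψ := by
    haveI : Epi (adj.unit.app W ≫ (Scheme.Modules.pushforward j).map ψ) := hψ ▸ inferInstance
    haveI := epi_of_epi (adj.unit.app W) ((Scheme.Modules.pushforward j).map ψ)
    exact (Scheme.Modules.pushforward j).epi_of_epi_map (f := ψ) inferInstance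
  haveI : IsIso ψ := H9Existence.isIso_of_epi_invertible hG hG ψ
  refine ⟨fun z => ?_, fun R _ p h3 => ?_⟩
  · obtain ⟨v, hv⟩ := QCoh.app_top_surjective_of_HH_one hS h1
      (ω.inv.app ⊤ (show Γ((Coh.push j).obj G, ⊤) from ψ.app ⊤ z))
    refine ⟨γ.inv.app ⊤ v, ?_⟩
    have hid : ∀ {P Q : X.Modules} (f : P ≅ Q) (y : Γ(Q, ⊤)), f.hom.app ⊤ (f.inv.app ⊤ y) = y := fun f y => by
      show (f.inv ≫ f.hom).app ⊤ y = _
      rw [f.inv_hom_id]; rfl
    have h2 : π.app ⊤ (γ.inv.app ⊤ v) = (show Γ((Coh.push j).obj G, ⊤) from ψ.app ⊤ z) := by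
      show ω.hom.app ⊤ (((AmpleVan.tw W).map (ClSub.toSubscheme D)).app ⊤ (γ.hom.app ⊤ (γ.inv.app ⊤ v))) = _
      rw [hid γ]
      exact (congrArg (ω.hom.app ⊤) hv).trans (hid ω _)
    rw [hψ] at h2
    have hinj : Function.Injective (ψ.app (j ⁻¹ᵁ ⊤)) := QCoh.app_injective ψ _
    exact hinj h2
  · letI : X.Over (Spec (CommRingCat.of R)) := ⟨p⟩
    letI : Z.Over (Spec (CommRingCat.of R)) := ⟨j ≫ p⟩
    obtain ⟨a⟩ := PnCoh.exists_linearEquiv_push R j rfl (ProjUPX.isQCoh_of_isInvertible hG) 1
    have hx3 : Subsingleton (Coh.HH X ((AmpleVan.tw W).obj (ClSub.quotMod D)) 1) :=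
      AmpleVan.subsingleton_of_iso ω.symm 1 a.symm.toEquiv.subsingleton
    exact AmpleVan.subsingleton_of_iso γ.symm 1 (QCoh.subsingleton_HH_X₂ hS 1 h1 hx3)

end Groth.Agent.ArInt
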