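import Groth.Agent.ArInt.RatTree
import Groth.Agent.ArInt.RestrSurj

/-!
# Twists trivial near a curve of genus zero with negative self-intersection
-/

set_option autoImplicit false
set_option linter.style.haveILetI false
set_option linter.unusedSectionVars false
set_option backward.isDefEq.respectTransparency false
set_option backward.isDefEq.respectTransparency.types false
set_option maxHeartbeats 1000000

universe u

open CategoryTheory CategoryTheory.Limits AlgebraicGeometry TopologicalSpace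
open Groth.Agent.H23.PicMul

noncomputable section

namespace Groth.Agent.ArInt

open Groth.Agent

variable {R : Type u} [CommRing R] [IsDomain R] [IsDiscreteValuationRing R]
  {X : Over (Spec (CommRingCat.of R))} [IsSurf X] [Flat X.hom] (Γ₀ : ArSurf.VertComp R X)
  (L : X.left.Modules) (hL : ClSub.IsInverseOf L (ClSub.idealMod Γ₀.ι.ker))
  (hh1 : Models.h1 R X Γ₀ = 0)

include hL hh1 in
/-- A section generating along the curve, whose powers kill first cohomology in nonnegative degree on it. -/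
theorem exists_near_twist (hproj : Neron.IsProjectiveOver R X) (hneg : ArSurf.inter R X L Γ₀ < 0) :
    ∃ (T : X.left.Modules) (_ : PicF.IsInvertible T) (t : Γ(T, ⊤)),
      ArSurf.inter R X T Γ₀ = 0 ∧ (∀ c, Γ₀.ι c ∈ AmpleX.locus t) ∧
      ∀ P : X.left.Modules, PicF.IsInvertible P → 0 ≤ ArSurf.inter R X P Γ₀ →
        ∃ c₀ : ℕ, ∀ c, c₀ ≤ c → ∀ W : X.left.Modules, PicF.IsInvertible W →
          PicF.cl W = PicF.cl P * PicF.cl T ^ c → Subsingleton (Coh.HH X.left W 1) := by
  haveI : IsProper X.hom := isProper_of_isProjectiveOver hproj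
  letI : X.left.Over (Spec (CommRingCat.of R)) := ⟨X.hom⟩
  haveI : IsProper (X.left ↘ Spec (CommRingCat.of R)) := ‹IsProper X.hom›
  let k := IsLocalRing.ResidueField R
  let C := Γ₀.curve.left
  haveI := isProper_curve_over Γ₀
  obtain ⟨hw, hdvd⟩ := wdeg_pos_dvd Γ₀
  have hI : PicF.IsInvertible (ClSub.idealMod Γ₀.ι.ker) := Big.isInvertible_ideal (isEffCartier_ker Γ₀)
  have hLi := isInvertible_of_inverse hI hL
  have hLI : PicF.cl (ClSub.idealMod Γ₀.ι.ker) * PicF.cl L = 1 := by
    rw [mul_comm, ← cl_tensor, cl_eq_iff.2 hL, ← H23.PicMul.one_def]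
  obtain ⟨H, hH⟩ := exists_ample_of_isProjectiveOver hproj
  have hhpos := inter_pos_of_ample hH Γ₀
  obtain ⟨m, hm⟩ : ∃ m : ℕ, ArSurf.inter R X L Γ₀ = -(m : ℤ) := ⟨_, by rw [Int.natAbs_of_nonneg (a := -ArSurf.inter R X L Γ₀) (by omega)]; omega⟩
  obtain ⟨h, hh⟩ := Int.eq_ofNat_of_zero_le hhpos.le
  let A := CohB1.tensorPow H m
  have hA : CohB1.IsAmple A := AmpleX.isAmple_tensorPow hH (by omega)
  let N := CohB1.tensorMod A (CohB1.tensorPow L h)
  have hN : PicF.IsInvertible N := H23.PicMul.isInvertible_tensor hA.1 (InvX.isInvertible_tensorPow hLi h)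
  have hN0 : ArSurf.inter R X N Γ₀ = 0 := by
    rw [inter_tensor Γ₀ hA.1 (InvX.isInvertible_tensorPow hLi h), inter_tensorPow hH.1, inter_tensorPow hLi, hh, hm]
    ring
  -- degrees of classes
  have hdeg : ∀ (W : X.left.Modules), PicF.IsInvertible W →
      Curv2.deg k C ((Scheme.Modules.pullback Γ₀.ι).obj W) 1 = ArSurf.inter R X W Γ₀ :=
    fun W hW => (inter_eq_deg Γ₀ hW).symm
  -- vanishing
  have van : ∀ P : X.left.Modules, PicF.IsInvertible P → 0 ≤ ArSurf.inter R X P Γ₀ →
      ∃ b₀ : ℕ, ∀ b, b₀ ≤ b → ∀ W : X.left.Modules, PicF.IsInvertible W →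
        PicF.cl W = PicF.cl P * PicF.cl N ^ b → Subsingleton (Coh.HH X.left W 1) := by
    intro P hP hP0
    obtain ⟨b₀, hb₀⟩ := AmpleVan.exists_vanishing (A := R) hA (AmpleVan.isCoh_invertible hP)
    refine ⟨b₀, fun b hb => ?_⟩
    suffices key : ∀ j, j ≤ h * b → ∀ W : X.left.Modules, PicF.IsInvertible W →
        PicF.cl W = PicF.cl P * PicF.cl A ^ b * PicF.cl L ^ j → Subsingleton (Coh.HH X.left W 1) by
      intro W hW hcl
      refine key _ le_rfl W hW ?_
      rw [hcl]
      simp only [N, A, cl_tensor, cl_tensorPow, mul_pow, ← pow_mul, mul_assoc]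
    intro j
    induction j with
    | zero =>
      intro _ W hW hcl
      obtain ⟨ψ⟩ : Nonempty (W ≅ CohB1.tensorMod P (CohB1.tensorPow A b)) := cl_eq_iff.1 (by
        rw [hcl]
        simp only [A, cl_tensor, cl_tensorPow, pow_zero, mul_one])
      exact AmpleVan.subsingleton_of_iso ψ.symm 1 (hb₀ b hb 0)
    | succ j ih =>
      intro hj W hW hcl
      have h1 : Subsingleton (Coh.HH X.left (CohB1.tensorMod (ClSub.idealMod Γ₀.ι.ker) W) 1) := by
        refine ih (by omega) _ (H23.PicMul.isInvertible_tensor hI hW) ?_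
        conv_rhs => rw [← mul_one (PicF.cl P * PicF.cl A ^ b * PicF.cl L ^ j), ← hLI]
        rw [cl_tensor, hcl, pow_succ]
        ac_rfl
      refine (restrict_divisor Γ₀.ι (isEffCartier_ker Γ₀) hW h1).2 R X.hom ?_
      refine subsingleton_H1_of_deg k Γ₀.dim_eq hw rfl hh1 hdvd (PicClLib.isInvertible_pullback _ hW) ?_
      rw [hdeg W hW, inter_congr Γ₀ hW (H23.PicMul.isInvertible_tensor (H23.PicMul.isInvertible_tensor hP
        (InvX.isInvertible_tensorPow hA.1 b)) (InvX.isInvertible_tensorPow hLi (j + 1)))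
        (by rw [hcl]; simp only [A, cl_tensor, cl_tensorPow]),
        inter_tensor Γ₀ (H23.PicMul.isInvertible_tensor hP (InvX.isInvertible_tensorPow hA.1 b))
          (InvX.isInvertible_tensorPow hLi (j + 1)), inter_tensor Γ₀ hP (InvX.isInvertible_tensorPow hA.1 b),
        inter_tensorPow hA.1, inter_tensorPow hLi, inter_tensorPow hH.1, hh, hm]
      have h2 : ((j : ℤ) + 1) * m ≤ (b : ℤ) * ((m : ℤ) * h) := by
        have : ((j + 1) * m : ℕ) ≤ b * (m * h) := by
          calc (j + 1) * m ≤ h * b * m := Nat.mul_le_mul_right m hj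
            _ = b * (m * h) := by ring
        exact_mod_cast this
      push_cast
      linarith
  obtain ⟨b₁, hb₁⟩ := van _ hI (by rw [← neg_neg (ArSurf.inter R X (ClSub.idealMod Γ₀.ι.ker) Γ₀), ← inter_inverse Γ₀ hI hL]; omega)
  let b := b₁ + 1
  let T := CohB1.tensorPow N b
  have hT : PicF.IsInvertible T := InvX.isInvertible_tensorPow hN b
  have hT0 : ArSurf.inter R X T Γ₀ = 0 := by rw [inter_tensorPow hN, hN0, mul_zero]
  have hsurj := (restrict_divisor Γ₀.ι (isEffCartier_ker Γ₀) hT (hb₁ b (by omega) _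
    (H23.PicMul.isInvertible_tensor hI hT) (by rw [cl_tensor, cl_tensorPow]))).1
  obtain ⟨φ⟩ := triv_of_deg_eq_zero k Γ₀.dim_eq hw rfl hh1 (PicClLib.isInvertible_pullback Γ₀.ι hT)
    (by rw [hdeg T hT, hT0])
  let one : Γ((Scheme.Modules.pullback Γ₀.ι).obj T, ⊤) := φ.inv.app ⊤ (1 : Γ(C, ⊤))
  obtain ⟨t, ht⟩ := hsurj one
  refine ⟨T, hT, t, hT0, fun c => ?_, fun P hP hP0 => ?_⟩
  · have h1 : c ∈ AmpleX.locus one := (AmpleX.locus_iso φ.symm _).ge
      (AmpleX.le_locus (U := (⊤ : C.Opens)) _ (le_refl _) (by rw [AModX.res_self]; exact InvX.isFrame_one ⊤)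
        (trivial : c ∈ (⊤ : C.Opens)))
    have hloc := AmpleX.locus_pullElt hT Γ₀.ι t
    change c ∈ Γ₀.ι ⁻¹ᵁ AmpleX.locus t
    rw [← hloc, show InvX.pullElt Γ₀.ι t = one from ht]
    exact h1
  · obtain ⟨c₀, hc₀⟩ := van P hP hP0
    refine ⟨c₀, fun c hc W hW hcl => hc₀ (b * c) (hc.trans (Nat.le_mul_of_pos_left c (by omega))) W hW ?_⟩
    rw [hcl, cl_tensorPow, pow_mul]

end Groth.Agent.ArInt
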