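import Groth.Agent.ArInt.ModelLib
import Groth.Agent.ArInt.SmoothRelMin
import Groth.Agent.AmpleX.EmbedOverApps

/-!
# Negative definiteness for contracted curves
-/

set_option autoImplicit false
set_option linter.style.haveILetI false
set_option linter.unusedSectionVars false
set_option backward.isDefEq.respectTransparency false
set_option backward.isDefEq.respectTransparency.types false
set_option maxHeartbeats 1000000

universe u

open CategoryTheory CategoryTheory.Limits AlgebraicGeometry TopologicalSpace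
open Groth.Agent.H23.PicMul

noncomputable section

namespace Groth.Agent.ArInt

open Groth.Agent

/-- The rows with negative sum carry no weight in an isotropic vector. -/
theorem quad_zero_row {ι : Type*} [Fintype ι] [DecidableEq ι] {M : ι → ι → ℤ} {d : ι → ℕ}
    (hs : ∀ i j, M i j = M j i) (hoff : ∀ i j, i ≠ j → 0 ≤ M i j) (hd : ∀ i, 0 < d i)
    (hrow : ∀ i, ∑ j, (d j : ℤ) * M i j ≤ 0) (a : ι → ℤ) (h0 : ∑ i, ∑ j, a i * a j * M i j = 0)
    (i : ι) (hi : ∑ j, (d j : ℤ) * M i j < 0) : a i = 0 := by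
  let b : ι → ℚ := fun i => (a i : ℚ) / d i
  have hdq : ∀ i, (0 : ℚ) < d i := fun i => by exact_mod_cast hd i
  have hb : ∀ i, b i * d i = a i := fun i => div_mul_cancel₀ _ (hdq i).ne'
  have hQ : ((∑ i, ∑ j, a i * a j * M i j : ℤ) : ℚ) = ∑ i, ∑ j, (b i * d i) * (b j * d j) * (M i j : ℚ) := by
    push_cast
    simp_rw [hb]
  have hA : ∀ i, (b i ^ 2 * d i) * ∑ j, (d j : ℚ) * (M i j : ℚ) ≤ 0 := fun i =>
    mul_nonpos_of_nonneg_of_nonpos (by have := hdq i; positivity) (by exact_mod_cast hrow i)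
  have hterm : ∀ i j, 0 ≤ (b i - b j) ^ 2 * ((d i : ℚ) * d j * (M i j : ℚ)) := fun i j => by
    by_cases h : i = j
    · simp [h]
    · have : (0 : ℚ) ≤ M i j := by exact_mod_cast hoff i j h
      positivity
  have hB : 0 ≤ ∑ i, ∑ j, (b i - b j) ^ 2 * ((d i : ℚ) * d j * (M i j : ℚ)) :=
    Finset.sum_nonneg fun i _ => Finset.sum_nonneg fun j _ => hterm i j
  have hid := quad_identity M d b hs
  rw [← hQ, h0] at hid
  simp only [Int.cast_zero, mul_zero] at hid
  have hA0 : ∑ i, (b i ^ 2 * d i) * ∑ j, (d j : ℚ) * (M i j : ℚ) = 0 := by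
    have := Finset.sum_nonpos fun i (_ : i ∈ Finset.univ) => hA i
    linarith
  have h1 := (Finset.sum_eq_zero_iff_of_nonpos fun i _ => hA i).1 hA0 i (Finset.mem_univ i)
  have h2 : ∑ j, (d j : ℚ) * (M i j : ℚ) ≠ 0 := by
    have : (∑ j, (d j : ℚ) * (M i j : ℚ)) < 0 := by exact_mod_cast hi
    exact this.ne
  have h3 : b i ^ 2 * d i = 0 := (mul_eq_zero.1 h1).resolve_right h2
  have h4 : b i = 0 := pow_eq_zero_iff two_ne_zero |>.1 ((mul_eq_zero.1 h3).resolve_right (hdq i).ne')
  have := hb i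
  rw [h4, zero_mul] at this
  exact_mod_cast this.symm

variable {R : Type u} [CommRing R] [IsDomain R] [IsDiscreteValuationRing R]
  {X : Over (Spec (CommRingCat.of R))} [IsSurf X] [Flat X.hom]

theorem φ_eq_zero_iff (Γ₀ : ArSurf.VertComp R X) {G : X.left.IdealSheafData} (hG : BlowUp.IsEffCartierIdeal G)
    (hη : Models.genPtOf R X Γ₀ ∉ G.support) :
    φ Γ₀ G = 0 ↔ Disjoint (Set.range Γ₀.ι) (G.support : Set X.left) := by
  obtain ⟨L, hL, hLI⟩ := H23.PicInv.exists_inverse (Big.isInvertible_ideal hG)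
  have hinv : ClSub.IsInverseOf L (ClSub.idealMod G) := ⟨(H23.PicMul.comm _ _).some ≪≫ hLI.some⟩
  rw [← (inter_eq_length Γ₀ hG hη hinv).2, inter_inverse Γ₀ (Big.isInvertible_ideal hG) hinv, neg_eq_zero]

variable {n : ℕ} (Γ : Fin n → ArSurf.VertComp R X)
  (L : Fin n → X.left.Modules) (hL : ∀ j, ClSub.IsInverseOf (L j) (ClSub.idealMod (Γ j).ι.ker))
  (hinj : Function.Injective fun i => Set.range ((Γ i).ι.base))

include hL hinj in
/-- An isotropic vector supports a union of curves which is open in the closed fibre. -/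
theorem isClosed_diff_of_form_eq_zero (a : Fin n → ℤ)
    (h0 : ∑ i, ∑ j, a i * a j * ArSurf.inter R X (L j) (Γ i) = 0) :
    IsClosed (Models.specialFibreSet R X \ ⋃ i ∈ {i | a i ≠ 0}, Set.range (Γ i).ι) := by
  classical
  obtain ⟨d, G, hG, hGs, hF⟩ := exists_split_curves Γ (fibreIdeal X) (isEffCartier_fibreIdeal X)
  have hm : ∀ i, Models.mult R X (Γ i) = d i ∧ 0 < d i := mult_eq Γ hGs hF hinj
  let M : Fin n → Fin n → ℤ := fun i j => ArSurf.inter R X (L j) (Γ i)
  have hs : ∀ i j, M i j = M j i := fun i j => by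
    by_cases h : i = j
    · rw [h]
    · exact inter_symm Γ L hL hinj h
  have hP := fun i => φ_prod (Γ i) Finset.univ (fun j => (Γ j).ι.ker ^ d j)
    fun j => (φ_pow (Γ i) (isEffCartier_ker (Γ j)) (d j)).1
  have hrow : ∀ i, ∑ j, (Models.mult R X (Γ j) : ℤ) * M i j = φ (Γ i) G := fun i => by
    have h1 : φ (Γ i) (fibreIdeal X) = 0 := by
      rw [φ, inter_congr (Γ i) (Big.isInvertible_ideal (isEffCartier_fibreIdeal X))
        CurveDeg.isInvertible_structureModule (by rw [cl_fibreIdeal, H23.PicMul.one_def]), inter_structureModule]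
    rw [hF, φ_mul (Γ i) (hP i).1 hG, (hP i).2] at h1
    rw [show φ (Γ i) G = -∑ j, φ (Γ i) ((Γ j).ι.ker ^ d j) by linarith, ← Finset.sum_neg_distrib]
    refine Finset.sum_congr rfl fun j _ => ?_
    show _ * ArSurf.inter R X (L j) (Γ i) = _
    rw [(φ_pow (Γ i) (isEffCartier_ker (Γ j)) (d j)).2, (hm j).1,
      inter_inverse (Γ i) (Big.isInvertible_ideal (isEffCartier_ker (Γ j))) (hL j), mul_neg]
  have hoff : ∀ i j, i ≠ j → 0 ≤ M i j := fun i j h => (inter_nonneg Γ L hL hinj h).1
  have hd : ∀ i, 0 < Models.mult R X (Γ i) := fun i => by rw [(hm i).1]; exact (hm i).2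
  have hGm : ∀ i, a i ≠ 0 → Disjoint (Set.range (Γ i).ι) (G.support : Set X.left) := fun i hi => by
    refine (φ_eq_zero_iff (Γ i) hG (hGs i)).1 (by_contra fun hne => hi ?_)
    refine quad_zero_row hs hoff hd (fun j => hrow j ▸ φ_nonpos (Γ j) hG (hGs j)) a h0 i ?_
    rw [hrow]
    exact lt_of_le_of_ne (φ_nonpos (Γ i) hG (hGs i)) hne
  have hpair : ∀ i j, a i ≠ 0 → a j = 0 → Disjoint (Set.range (Γ i).ι) (Set.range (Γ j).ι) := fun i j hi hj => by
    have hij : i ≠ j := fun h => hi (h ▸ hj)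
    refine (inter_nonneg Γ L hL hinj hij).2.1 (by_contra fun hne => hi ?_)
    have h := (form_nonpos Γ L hL hinj a).2 h0 i j hne
    rw [hj, Int.cast_zero, zero_div, div_eq_zero_iff] at h
    rcases h with h | h
    · exact_mod_cast h
    · exact absurd (by exact_mod_cast h : Models.mult R X (Γ i) = 0) (hd i).ne'
  let C : Set X.left := (G.support : Set X.left) ∪ ⋃ i ∈ {i | a i = 0}, Set.range (Γ i).ι
  have hC : IsClosed C := G.support.isClosed.union
    ((Set.toFinite _).isClosed_biUnion fun i _ => (Γ i).ι.isClosedEmbedding.isClosed_range)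
  have heq : Models.specialFibreSet R X \ (⋃ i ∈ {i | a i ≠ 0}, Set.range (Γ i).ι) =
      C ∩ Models.specialFibreSet R X := by
    refine Set.ext fun z => ⟨fun ⟨hz, hzB⟩ => ⟨?_, hz⟩, fun ⟨hzC, hz⟩ => ⟨hz, fun hzB => ?_⟩⟩
    · have h1 : z ∈ ((fibreIdeal X).support : Set X.left) := by rw [support_fibreIdeal]; exact hz
      by_cases hzG : z ∈ (G.support : Set X.left)
      · exact Or.inl hzG
      refine Or.inr ?_
      by_contra hzC
      have h2 : Div21Lib.stI (fibreIdeal X) z = ⊤ := by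
        rw [hF, stI_mul, (stI_eq_top_iff G z).2 hzG, Ideal.mul_top, stI_prod]
        refine (Finset.prod_congr rfl fun j _ => ?_).trans (Finset.prod_const_one.trans Ideal.one_eq_top)
        have hj : Div21Lib.stI (Γ j).ι.ker z = ⊤ := by
          rw [stI_eq_top_iff, ← SetLike.mem_coe, support_ker]
          intro hzj
          by_cases haj : a j = 0
          · exact hzC (Set.mem_biUnion (show j ∈ {i | a i = 0} from haj) hzj)
          · exact hzB (Set.mem_biUnion (show j ∈ {i | a i ≠ 0} from haj) hzj)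
        rw [stI_pow, hj, ← Ideal.one_eq_top, one_pow]
      exact ((stI_eq_top_iff _ _).1 h2) h1
    · obtain ⟨i, hi, hzi⟩ := Set.mem_iUnion₂.1 hzB
      rcases hzC with hzG | hzj
      · exact Set.disjoint_left.1 (hGm i hi) hzi hzG
      · obtain ⟨j, hj, hzj⟩ := Set.mem_iUnion₂.1 hzj
        exact Set.disjoint_left.1 (hpair i j hi hj) hzi hzj
  rw [heq]
  exact hC.inter (Models.isClosed_specialFibreSet R X)

end Groth.Agent.ArInt
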