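import Groth.Agent.ArInt.VertPic
import Groth.Agent.ArInt.Form

/-!
# Degrees of modules trivial on the generic fibre
-/

set_option autoImplicit false
set_option linter.style.haveILetI false
set_option linter.unusedSectionVars false
set_option backward.isDefEq.respectTransparency false
set_option backward.isDefEq.respectTransparency.types false
set_option maxHeartbeats 1000000

universe u

open CategoryTheory CategoryTheory.Limits AlgebraicGeometry TopologicalSpace
open Groth.Agent.H23.PicMul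

noncomputable section

namespace Groth.Agent.ArInt

open Groth.Agent

variable {R : Type u} [CommRing R] [IsDomain R] [IsDiscreteValuationRing R]
  {X : Over (Spec (CommRingCat.of R))} [IsSurf X] [Flat X.hom] {n : ℕ} (Γ : Fin n → ArSurf.VertComp R X)
  (L : Fin n → X.left.Modules) (hL : ∀ j, ClSub.IsInverseOf (L j) (ClSub.idealMod (Γ j).ι.ker))

include hL in
/-- The degrees of a module given by a vertical divisor. -/
theorem inter_of_cl_mul {M : X.left.Modules} (e : Fin n → ℕ)
    (he : PicF.cl M * PicF.cl (ClSub.idealMod (divOf Γ e)) = 1) (Γ₀ : ArSurf.VertComp R X) :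
    ArSurf.inter R X M Γ₀ = ∑ j, (e j : ℤ) * ArSurf.inter R X (L j) Γ₀ := by
  have h : ClSub.IsInverseOf M (ClSub.idealMod (divOf Γ e)) :=
    cl_eq_iff.1 (by rw [cl_tensor, he, one_def])
  rw [inter_inverse Γ₀ (Big.isInvertible_ideal (isEffCartier_divOf Γ e)) h]
  show -φ Γ₀ (divOf Γ e) = _
  rw [φ_divOf Γ L hL, neg_neg]

include hL in
/-- A vertical divisor of degree zero on every component is a rational multiple of the fibre. -/
theorem dvd_of_degree_zero (hΓ : Models.IsComponentList R X Γ)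
    (hconnF : _root_.IsConnected (Models.specialFibreSet R X)) (e : Fin n → ℕ)
    (h0 : ∀ i, ∑ j, (e j : ℤ) * ArSurf.inter R X (L j) (Γ i) = 0) :
    ∃ q : ℕ, ∀ i, Models.multGcd R X Γ * e i = q * Models.mult R X (Γ i) := by
  classical
  rcases isEmpty_or_nonempty (Fin n) with hn | ⟨⟨i₀⟩⟩
  · exact ⟨0, fun i => hn.elim i⟩
  obtain ⟨c, hc⟩ := (kernel_iff Γ L hL hΓ.1 (cover X Γ hΓ) hconnF (fun j => (e j : ℤ))).1 h0
  obtain ⟨dd, G, -, hGs, hFib⟩ := exists_split_curves Γ (fibreIdeal X) (isEffCartier_fibreIdeal X)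
  have hm : ∀ i, 0 < Models.mult R X (Γ i) := fun i => by
    rw [(mult_eq Γ hGs hFib hΓ.1 i).1]; exact (mult_eq Γ hGs hFib hΓ.1 i).2
  let d := Models.multGcd R X Γ
  let μ : Fin n → ℕ := fun i => Models.mult R X (Γ i) / d
  have hμ : ∀ i, μ i * d = Models.mult R X (Γ i) := fun i => Nat.div_mul_cancel (Finset.gcd_dvd (Finset.mem_univ i))
  have hd : 0 < d := Nat.pos_of_ne_zero fun h => (hm i₀).ne' (by rw [← hμ i₀, h, mul_zero])
  have hμ0 : ∀ i, 0 < μ i := fun i => Nat.pos_of_ne_zero fun h => (hm i).ne' (by rw [← hμ i, h, zero_mul])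
  have hcross : ∀ i, e i * μ i₀ = e i₀ * μ i := fun i => by
    have h1 : (e i : ℚ) = c * Models.mult R X (Γ i) := by exact_mod_cast hc i
    have h2 : (e i₀ : ℚ) = c * Models.mult R X (Γ i₀) := by exact_mod_cast hc i₀
    rw [← hμ i] at h1
    rw [← hμ i₀] at h2
    push_cast at h1 h2
    exact_mod_cast (show (e i : ℚ) * μ i₀ = e i₀ * μ i by rw [h1, h2]; ring)
  have hdvd : μ i₀ ∣ e i₀ := by
    have hall : μ i₀ ∣ Finset.univ.gcd fun i => e i₀ * μ i :=
      Finset.dvd_gcd fun i _ => ⟨e i, by rw [← hcross i]; ring⟩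
    rw [Finset.gcd_mul_left, show Finset.univ.gcd μ = 1 from
      Finset.gcd_div_eq_one (f := fun i => Models.mult R X (Γ i)) (Finset.mem_univ i₀) (hm i₀).ne', mul_one] at hall
    simpa using hall
  obtain ⟨q, hq⟩ := hdvd
  refine ⟨q, fun i => Nat.eq_of_mul_eq_mul_right (hμ0 i₀) ?_⟩
  show d * e i * μ i₀ = _
  rw [mul_assoc, hcross i, hq, ← hμ i]
  ring

end Groth.Agent.ArInt
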