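import Groth.Agent.ArInt.Fundamental
import Groth.Agent.OmegaLib.IdealMod
import Groth.Agent.Big.Alt

/-!
# Vertical divisors which are principal
-/

set_option autoImplicit false
set_option linter.style.haveILetI false
set_option linter.unusedSectionVars false
set_option backward.isDefEq.respectTransparency false
set_option backward.isDefEq.respectTransparency.types false
set_option maxHeartbeats 1000000

universe u

open CategoryTheory CategoryTheory.Limits AlgebraicGeometry TopologicalSpace Opposite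
open Groth.Agent.H23.PicMul

noncomputable section

namespace Groth.Agent.ArInt

open Groth.Agent

/-- A trivial ideal module has a global generator. -/
theorem exists_global_gen {X : Scheme.{u}} (K : X.IdealSheafData)
    (h : Nonempty (ClSub.idealMod K ≅ Coh.structureModule X)) :
    ∃ a : Γ(X, ⊤), ∀ U : X.affineOpens, K.ideal U = Ideal.span {X.presheaf.map (homOfLE le_top).op a} := by
  obtain ⟨θ⟩ := h
  let k₀ : Γ(ClSub.idealMod K, ⊤) := θ.inv.app ⊤ (show Γ(X, ⊤) from 1)
  refine ⟨OmegaSh.idealSect K ⊤ k₀, fun U => le_antisymm (fun x hx => ?_) ?_⟩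
  · have h0 : K.subschemeι.app U.1 x = 0 := by rwa [← RingHom.mem_ker, K.ker_subschemeι_app]
    obtain ⟨k, rfl⟩ := OmegaLib.exists_idealSect_eq K U.1 x h0
    let r : Γ(X, U.1) := θ.hom.app U.1 k
    have hk : k = r • (ClSub.idealMod K).presheaf.map (homOfLE le_top).op k₀ := by
      have h1 : (ClSub.idealMod K).presheaf.map (homOfLE (le_top : U.1 ≤ ⊤)).op k₀ =
          θ.inv.app U.1 (show Γ(X, U.1) from 1) := by
        refine (congr($(θ.inv.mapPresheaf.naturality (homOfLE (le_top : U.1 ≤ ⊤)).op) (show Γ(X, ⊤) from 1))).symm.trans ?_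
        exact congrArg (θ.inv.app U.1) (map_one (X.presheaf.map (homOfLE (le_top : U.1 ≤ ⊤)).op).hom)
      rw [h1, ← Scheme.Modules.Hom.app_smul]
      have h2 : (r • (show Γ(X, U.1) from 1) : Γ(Coh.structureModule X, U.1)) = θ.hom.app U.1 k := mul_one _
      refine Eq.trans ?_ (congrArg (θ.inv.app U.1) h2).symm
      exact (congr(($(θ.hom_inv_id)).app U.1 k)).symm
    rw [Ideal.mem_span_singleton']
    refine ⟨r, ?_⟩
    conv_rhs => rw [hk, OmegaLib.idealSect_smul, OmegaLib.idealSect_map]
  · rw [Ideal.span_singleton_le_iff_mem, ← OmegaLib.idealSect_map]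
    exact OmegaLib.idealSect_mem K U _

theorem cl_idealMod_top (X : Scheme.{u}) : PicF.cl (ClSub.idealMod (⊤ : X.IdealSheafData)) = 1 := by
  have h := SurfRR.cl_idealMod_mul (isEffCartier_top X) (isEffCartier_top X)
  rw [Scheme.IdealSheafData.top_mul] at h
  obtain ⟨N, -, hN⟩ := H23.PicInv.exists_inverse (Big.isInvertible_ideal (isEffCartier_top X))
  have h1 : PicF.cl (ClSub.idealMod (⊤ : X.IdealSheafData)) * PicF.cl N = 1 := by
    rw [← cl_tensor, one_def]; exact cl_eq_iff.2 hN
  calc PicF.cl (ClSub.idealMod (⊤ : X.IdealSheafData))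
      = PicF.cl (ClSub.idealMod (⊤ : X.IdealSheafData)) * (PicF.cl (ClSub.idealMod (⊤ : X.IdealSheafData)) * PicF.cl N) := by
        rw [h1, mul_one]
    _ = PicF.cl (ClSub.idealMod (⊤ : X.IdealSheafData)) * PicF.cl N := by rw [← mul_assoc, ← h]
    _ = 1 := h1

variable {R : Type u} [CommRing R] [IsDomain R] [IsDiscreteValuationRing R]

/-- The functions on a model of a curve with field of constants `K` are the base. -/
theorem bijective_appTop_model (C X : Scheme.{u})
    (f : C ⟶ Spec (CommRingCat.of (FractionRing R))) (p : X ⟶ Spec (CommRingCat.of R))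
    (hH0 : IsIso f.appTop) (hX : Models.IsRegularProperModel R X p C f) : Function.Bijective p.appTop := by
  obtain ⟨⟨hflat, hlft, hqc, g, hg⟩, hprop, -⟩ := hX
  haveI := hflat
  haveI := hprop
  let jK := Spec.map (CommRingCat.ofHom (algebraMap R (FractionRing R)))
  haveI : QuasiCompact jK := inferInstance
  haveI : IsDominant jK := ⟨(PrimeSpectrum.denseRange_comap_iff_ker_le_nilRadical _).2 (by
    show RingHom.ker (algebraMap R (FractionRing R)) ≤ _
    rw [(RingHom.injective_iff_ker_eq_bot _).1 (IsFractionRing.injective R (FractionRing R))]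
    exact bot_le)⟩
  haveI : IsSchemeTheoreticallyDominant jK := IsSchemeTheoreticallyDominant.of_isDominant jK
  haveI : IsSchemeTheoreticallyDominant g := IsSchemeTheoreticallyDominant.of_isPullback hg.flip
  haveI : QuasiCompact g := MorphismProperty.of_isPullback hg.flip inferInstance
  have hinj : Function.Injective g.appTop := g.app_injective ⊤
  haveI : IsIntegrallyClosed R := inferInstance
  have hfin : p.appTop.hom.Finite := S1297.finite_appTop p
  let eR := (Scheme.ΓSpecIso (CommRingCat.of R)).commRingCatIsoToRingEquiv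
  let eK := (Scheme.ΓSpecIso (CommRingCat.of (FractionRing R))).commRingCatIsoToRingEquiv
  have hf : Function.Bijective f.appTop := (ConcreteCategory.isIso_iff_bijective _).1 hH0
  have hcomp : ∀ a, g.appTop (p.appTop a) = f.appTop (jK.appTop a) := fun a => by
    rw [← CommRingCat.comp_apply, ← CommRingCat.comp_apply, ← Scheme.Hom.comp_appTop,
      ← Scheme.Hom.comp_appTop, hg.w]
  have hjK : ∀ a, eK (jK.appTop a) = algebraMap R (FractionRing R) (eR a) := fun a => by
    show (jK.appTop ≫ (Scheme.ΓSpecIso _).hom) a = ((Scheme.ΓSpecIso _).hom ≫ CommRingCat.ofHom _) a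
    rw [Scheme.ΓSpecIso_naturality]
    rfl
  refine ⟨fun a b hab => ?_, fun x => ?_⟩
  · have h1 := congrArg g.appTop hab
    rw [hcomp, hcomp] at h1
    have h2 := congrArg eK (hf.1 h1)
    rw [hjK, hjK] at h2
    exact eR.injective (IsFractionRing.injective R (FractionRing R) h2)
  · obtain ⟨y, hy⟩ := hf.2 (g.appTop x)
    obtain ⟨P, hP, hPx⟩ := hfin.to_isIntegral x
    have hint : _root_.IsIntegral R (eK y) := by
      refine ⟨P.map eR.toRingHom, hP.map _, ?_⟩
      apply eK.symm.injective
      apply hf.1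
      rw [map_zero, map_zero, Polynomial.eval₂_map]
      show (f.appTop.hom.comp eK.symm.toRingHom) (Polynomial.eval₂ _ (eK y) P) = 0
      rw [Polynomial.hom_eval₂]
      have e1 : (f.appTop.hom.comp eK.symm.toRingHom).comp
          ((algebraMap R (FractionRing R)).comp eR.toRingHom) = g.appTop.hom.comp p.appTop.hom :=
        RingHom.ext fun a => by
          show f.appTop (eK.symm (algebraMap R (FractionRing R) (eR a))) = g.appTop (p.appTop a)
          rw [← hjK, RingEquiv.symm_apply_apply, hcomp]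
      rw [e1, show (f.appTop.hom.comp eK.symm.toRingHom) (eK y) = g.appTop x by
        show f.appTop (eK.symm (eK y)) = _
        rw [RingEquiv.symm_apply_apply, hy], ← Polynomial.hom_eval₂, hPx, map_zero]
    obtain ⟨r, hr⟩ := IsIntegrallyClosed.isIntegral_iff.1 hint
    refine ⟨eR.symm r, hinj ?_⟩
    rw [hcomp, ← hy]
    congr 1
    apply eK.injective
    rw [hjK, RingEquiv.apply_symm_apply, hr]

variable {X : Over (Spec (CommRingCat.of R))} [IsSurf X] [Flat X.hom] {n : ℕ} (Γ : Fin n → ArSurf.VertComp R X)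

theorem cl_divOf (a : Fin n → ℕ) :
    PicF.cl (ClSub.idealMod (divOf Γ a)) = ∏ j, PicF.cl (ClSub.idealMod (Γ j).ι.ker) ^ a j := by
  classical
  have hpow : ∀ (j : Fin n) (m : ℕ), BlowUp.IsEffCartierIdeal ((Γ j).ι.ker ^ m) ∧
      PicF.cl (ClSub.idealMod ((Γ j).ι.ker ^ m)) = PicF.cl (ClSub.idealMod (Γ j).ι.ker) ^ m := fun j m => by
    induction m with
    | zero => rw [pow_zero, pow_zero, Scheme.IdealSheafData.one_eq_top]; exact ⟨isEffCartier_top _, cl_idealMod_top _⟩
    | succ m ih =>
      rw [pow_succ, pow_succ, SurfRR.cl_idealMod_mul ih.1 (isEffCartier_ker _), ih.2]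
      exact ⟨ModPairLib.isEffCartier_mul ih.1 (isEffCartier_ker _), rfl⟩
  suffices key : ∀ s : Finset (Fin n), BlowUp.IsEffCartierIdeal (∏ j ∈ s, (Γ j).ι.ker ^ a j) ∧
      PicF.cl (ClSub.idealMod (∏ j ∈ s, (Γ j).ι.ker ^ a j)) = ∏ j ∈ s, PicF.cl (ClSub.idealMod (Γ j).ι.ker) ^ a j from
    (key Finset.univ).2
  intro s
  induction s using Finset.induction with
  | empty => rw [Finset.prod_empty, Finset.prod_empty, Scheme.IdealSheafData.one_eq_top]; exact ⟨isEffCartier_top _, cl_idealMod_top _⟩
  | insert i t hi ih =>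
    rw [Finset.prod_insert hi, Finset.prod_insert hi, SurfRR.cl_idealMod_mul (hpow i (a i)).1 ih.1, (hpow i (a i)).2, ih.2]
    exact ⟨ModPairLib.isEffCartier_mul (hpow i (a i)).1 ih.1, rfl⟩

variable (hinj : Function.Injective fun i => Set.range ((Γ i).ι.base))
  (hcov : Models.specialFibreSet R X ⊆ ⋃ j, Set.range (Γ j).ι.base)

include hinj hcov in
/-- The closed fibre is principal. -/
theorem cl_divOf_mult :
    PicF.cl (ClSub.idealMod (divOf Γ fun i => Models.mult R X (Γ i))) = 1 := by
  rw [divOf, ← fibreIdeal_eq_prod Γ hinj (fun i => dim_gen (Γ i)) hcov]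
  exact cl_fibreIdeal X

include hinj in
/-- An effective vertical divisor is principal only when it is a multiple of the closed fibre. -/
theorem exists_eq_mult_of_cl_eq_one (hbij : Function.Bijective X.hom.appTop) (e : Fin n → ℕ)
    (h : PicF.cl (ClSub.idealMod (divOf Γ e)) = 1) :
    ∃ v : ℕ, ∀ i, e i = v * Models.mult R X (Γ i) := by
  classical
  obtain ⟨a, ha⟩ := exists_global_gen (divOf Γ e) (cl_eq_iff.1 (h.trans one_def))
  obtain ⟨r', rfl⟩ := hbij.2 a
  obtain ⟨r, rfl⟩ := (ConcreteCategory.bijective_of_isIso (Scheme.ΓSpecIso (CommRingCat.of R)).inv).2 r'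
  have hst : ∀ x : X.left, Div21Lib.stI (divOf Γ e) x = Ideal.span {Models.stalkHom R X x r} := fun x => by
    obtain ⟨U, hU, hx, -⟩ := exists_isAffineOpen_mem_and_subset (U := ⊤) (x := x) trivial
    rw [Div21Lib.stI_eq _ ⟨U, hU⟩ hx, ha, Ideal.map_span, Set.image_singleton]
    refine congrArg (fun t => Ideal.span {t}) ?_
    exact X.left.presheaf.germ_res_apply (homOfLE (le_top : U ≤ ⊤)) x hx _
  have hξ : ∀ i, Div21Lib.stI (divOf Γ e) (Models.genPtOf R X (Γ i)) =
      IsLocalRing.maximalIdeal (X.left.presheaf.stalk (Models.genPtOf R X (Γ i))) ^ e i := fun i => by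
    rw [divOf, stI_prod, Finset.prod_eq_single i (fun j _ hj => ?_) (by simp), stI_pow, stI_ker_gen]
    have hij : Div21Lib.stI (Γ j).ι.ker (Models.genPtOf R X (Γ i)) = ⊤ :=
      (stI_eq_top_iff _ _).2 (gen_notMem (Γ i) (Γ j) fun h => hj (hinj h.symm))
    rw [stI_pow, hij, ← Ideal.one_eq_top, one_pow]
  rcases isEmpty_or_nonempty (Fin n) with hn | ⟨⟨i₀⟩⟩
  · exact ⟨0, fun i => hn.elim i⟩
  have hr : r ≠ 0 := by
    rintro rfl
    have h1 := (hst (Models.genPtOf R X (Γ i₀))).symm.trans (hξ i₀)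
    rw [map_zero, Ideal.span_singleton_zero] at h1
    haveI := IsRegModel.regular (X := X) (Models.genPtOf R X (Γ i₀))
    haveI := (ufd (X := X) (Models.genPtOf R X (Γ i₀))).1
    have h2 : IsLocalRing.maximalIdeal (X.left.presheaf.stalk (Models.genPtOf R X (Γ i₀))) = ⊥ :=
      eq_bot_iff.2 fun x hx => Ideal.mem_bot.2 (eq_zero_of_pow_eq_zero (n := e i₀)
        (Ideal.mem_bot.1 (h1 ▸ Ideal.pow_mem_pow hx (e i₀))))
    have h3 := ringKrullDim_eq_zero_of_isField (IsLocalRing.isField_iff_maximalIdeal_eq.2 h2)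
    rw [show ringKrullDim (X.left.presheaf.stalk (Models.genPtOf R X (Γ i₀))) = 1 from dim_gen (Γ i₀)] at h3
    exact one_ne_zero h3
  obtain ⟨π, hπ⟩ := IsDiscreteValuationRing.exists_irreducible R
  obtain ⟨v, u, rfl⟩ := IsDiscreteValuationRing.eq_unit_mul_pow_irreducible hr hπ
  refine ⟨v, fun i => ?_⟩
  obtain ⟨d, G, -, hG, hF⟩ := exists_split_curves Γ (fibreIdeal X) (isEffCartier_fibreIdeal X)
  rw [(mult_eq Γ hG hF hinj i).1]
  let ξ := Models.genPtOf R X (Γ i)
  let O := X.left.presheaf.stalk ξ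
  haveI := IsRegModel.regular (X := X) ξ
  haveI := (ufd (X := X) ξ).1
  haveI := DimFormula.isPrincipalIdealRing_of_regular_dim_le_one (dim_gen (X := X) (Γ i)).le
  haveI : IsDiscreteValuationRing O :=
    { not_a_field' := fun h => by
        have h3 := ringKrullDim_eq_zero_of_isField (IsLocalRing.isField_iff_maximalIdeal_eq.2 h)
        rw [show ringKrullDim O = 1 from dim_gen (Γ i)] at h3
        exact one_ne_zero h3 }
  have hd : (IsLocalRing.maximalIdeal R).map (Models.stalkHom R X ξ) = IsLocalRing.maximalIdeal O ^ d i := by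
    rw [← stI_fibreIdeal, hF, stI_mul, stI_prod, (stI_eq_top_iff G ξ).2 (hG i), Ideal.mul_top,
      Finset.prod_eq_single i (fun j _ hj => ?_) (by simp), stI_pow, stI_ker_gen]
    have hij : Div21Lib.stI (Γ j).ι.ker ξ = ⊤ :=
      (stI_eq_top_iff _ _).2 (gen_notMem (Γ i) (Γ j) fun h => hj (hinj h.symm))
    rw [stI_pow, hij, ← Ideal.one_eq_top, one_pow]
  have h1 : IsLocalRing.maximalIdeal O ^ e i = IsLocalRing.maximalIdeal O ^ (v * d i) := by
    rw [← hξ i, hst, mul_comm v, pow_mul, ← hd, hπ.maximalIdeal_eq, Ideal.map_span, Set.image_singleton,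
      Ideal.span_singleton_pow, map_mul, map_pow, Ideal.span_singleton_mul_left_unit (u.isUnit.map _)]
  obtain ⟨τ, hτ⟩ := IsDiscreteValuationRing.exists_irreducible O
  rw [hτ.maximalIdeal_eq, Ideal.span_singleton_pow, Ideal.span_singleton_pow, Ideal.span_singleton_eq_span_singleton] at h1
  exact le_antisymm ((pow_dvd_pow_iff hτ.ne_zero hτ.not_isUnit).1 h1.dvd) ((pow_dvd_pow_iff hτ.ne_zero hτ.not_isUnit).1 h1.symm.dvd)

end Groth.Agent.ArInt

namespace Groth.Agent.ArInt

open Groth.Agent

variable {R : Type u} [CommRing R] [IsDomain R] [IsDiscreteValuationRing R]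
  {X : Over (Spec (CommRingCat.of R))} [IsSurf X] [Flat X.hom] {n : ℕ} (Γ : Fin n → ArSurf.VertComp R X)
  (L : Fin n → X.left.Modules) (hL : ∀ j, ClSub.IsInverseOf (L j) (ClSub.idealMod (Γ j).ι.ker))
  (hinj : Function.Injective fun i => Set.range ((Γ i).ι.base))
  (hcov : Models.specialFibreSet R X ⊆ ⋃ j, Set.range (Γ j).ι.base)
  (hbij : Function.Bijective X.hom.appTop)

theorem cl_multiTwist (a : Fin n → ℕ) : PicF.cl (FGA.multiTwist L a) = ∏ j, PicF.cl (L j) ^ a j := by
  rw [FGA.multiTwist, Big.cl_tensorList, ← List.ofFn_eq_map, List.prod_ofFn]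
  exact Finset.prod_congr rfl fun j _ => cl_tensorPow _ _

include hL hinj hcov hbij in
/-- Two vertical divisors are linearly equivalent only up to the closed fibre. -/
theorem twist_eq_iff (a b : Fin n → ℕ) :
    ∏ j, PicF.cl (L j) ^ a j = ∏ j, PicF.cl (L j) ^ b j ↔
      ∃ c : ℤ, ∀ i, (a i : ℤ) - (b i : ℤ) = c * (Models.mult R X (Γ i) : ℤ) := by
  classical
  let P : (Fin n → ℕ) → PicF.Cl X.left := fun e => ∏ j, PicF.cl (ClSub.idealMod (Γ j).ι.ker) ^ e j
  let Q : (Fin n → ℕ) → PicF.Cl X.left := fun e => ∏ j, PicF.cl (L j) ^ e j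
  let m : Fin n → ℕ := fun i => Models.mult R X (Γ i)
  have hPQ : ∀ e, P e * Q e = 1 := fun e => by
    rw [← Finset.prod_mul_distrib]
    refine Finset.prod_eq_one fun j _ => ?_
    rw [← mul_pow, show PicF.cl (ClSub.idealMod (Γ j).ι.ker) * PicF.cl (L j) = 1 by
      rw [mul_comm, ← cl_tensor, one_def]; exact cl_eq_iff.2 (hL j), one_pow]
  have hPadd : ∀ e e', P (e + e') = P e * P e' := fun e e' => by
    simp only [P, Pi.add_apply, pow_add, Finset.prod_mul_distrib]
  have hPsmul : ∀ (q : ℕ), P (q • m) = 1 := fun q => by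
    have h1 : P m = 1 := by
      show ∏ j, PicF.cl (ClSub.idealMod (Γ j).ι.ker) ^ m j = 1
      rw [← cl_divOf Γ m]
      exact cl_divOf_mult Γ hinj hcov
    induction q with
    | zero => simp [P]
    | succ q ih => rw [succ_nsmul, hPadd, ih, h1, one_mul]
  have hPQ' : Q a = Q b ↔ P a = P b := by
    constructor
    · intro h
      calc P a = P a * (P b * Q b) := by rw [hPQ, mul_one]
        _ = P b * (P a * Q a) := by rw [h, mul_left_comm]
        _ = P b := by rw [hPQ, mul_one]
    · intro h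
      calc Q a = Q a * (P b * Q b) := by rw [hPQ, mul_one]
        _ = Q b * (P a * Q a) := by rw [h]; ac_rfl
        _ = Q b := by rw [hPQ, mul_one]
  show Q a = Q b ↔ _
  rw [hPQ']
  constructor
  · intro h
    let N := ∑ i, b i
    have hm : ∀ i, 1 ≤ m i := fun i => by
      obtain ⟨d, G, -, hG, hF⟩ := exists_split_curves Γ (fibreIdeal X) (isEffCartier_fibreIdeal X)
      show 1 ≤ Models.mult R X (Γ i)
      rw [(mult_eq Γ hG hF hinj i).1]
      exact (mult_eq Γ hG hF hinj i).2
    have hle : ∀ i, b i ≤ a i + N * m i := fun i =>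
      le_add_left ((Finset.single_le_sum (fun j _ => Nat.zero_le (b j)) (Finset.mem_univ i)).trans
        (Nat.le_mul_of_pos_right N (hm i)))
    let e : Fin n → ℕ := fun i => a i + N * m i - b i
    have he : e + b = a + N • m := funext fun i => by
      simp only [e, Pi.add_apply, Pi.smul_apply, smul_eq_mul]
      exact Nat.sub_add_cancel (hle i)
    have h1 : P e * P b = P b := by rw [← hPadd, he, hPadd, hPsmul, mul_one, h]
    have h2 : P e = 1 := by
      calc P e = P e * P b * Q b := by rw [mul_assoc, hPQ, mul_one]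
        _ = 1 := by rw [h1, hPQ]
    obtain ⟨v, hv⟩ := exists_eq_mult_of_cl_eq_one Γ hinj hbij e ((cl_divOf Γ e).trans h2)
    refine ⟨(v : ℤ) - N, fun i => ?_⟩
    have := congrFun he i
    simp only [Pi.add_apply, Pi.smul_apply, smul_eq_mul, hv i] at this
    have h' : ((v * Models.mult R X (Γ i) + b i : ℕ) : ℤ) = ((a i + N * m i : ℕ) : ℤ) := by exact_mod_cast this
    push_cast [m] at h'
    linarith
  · rintro ⟨c, hc⟩
    obtain ⟨p, q, rfl⟩ : ∃ p q : ℕ, c = (q : ℤ) - p := ⟨(-c).toNat, c.toNat, by omega⟩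
    have he : a + p • m = b + q • m := funext fun i => by
      have := hc i
      simp only [Pi.add_apply, Pi.smul_apply, smul_eq_mul, m]
      have h' : ((a i + p * Models.mult R X (Γ i) : ℕ) : ℤ) = ((b i + q * Models.mult R X (Γ i) : ℕ) : ℤ) := by
        push_cast; linarith
      exact_mod_cast h'
    calc P a = P (a + p • m) := by rw [hPadd, hPsmul, mul_one]
      _ = P b := by rw [he, hPadd, hPsmul, mul_one]

end Groth.Agent.ArInt
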