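import Groth.Agent.ArInt.Inter
import Groth.Agent.DimFormula.DedekindFlat
import Groth.Agent.CartierExt.Decompose
import Groth.Agent.SurfRR.Divisors
import Groth.Agent.CurveFinMap.Trivial

/-!
# Stalks of ideals at generic points of curves
-/

set_option autoImplicit false
set_option linter.style.haveILetI false
set_option linter.unusedSectionVars false
set_option backward.isDefEq.respectTransparency false
set_option backward.isDefEq.respectTransparency.types false
set_option maxHeartbeats 1000000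

universe u

open CategoryTheory CategoryTheory.Limits AlgebraicGeometry TopologicalSpace
open Groth.Agent.H23.PicMul

noncomputable section

namespace Groth.Agent.ArInt

open Groth.Agent

variable {X : Scheme.{u}}

theorem stI_mul (I J : X.IdealSheafData) (x : X) :
    Div21Lib.stI (I * J) x = Div21Lib.stI I x * Div21Lib.stI J x := by
  obtain ⟨U, hU, hx, -⟩ := exists_isAffineOpen_mem_and_subset (U := ⊤) (x := x) trivial
  rw [Div21Lib.stI_eq _ ⟨U, hU⟩ hx, Div21Lib.stI_eq _ ⟨U, hU⟩ hx, Div21Lib.stI_eq _ ⟨U, hU⟩ hx,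
    ← Ideal.map_mul]
  rfl

theorem stI_top (x : X) : Div21Lib.stI (⊤ : X.IdealSheafData) x = ⊤ := by
  obtain ⟨U, hU, hx, -⟩ := exists_isAffineOpen_mem_and_subset (U := ⊤) (x := x) trivial
  rw [Div21Lib.stI_eq _ ⟨U, hU⟩ hx, Scheme.IdealSheafData.ideal_top]
  exact Ideal.map_top _

theorem stI_pow (I : X.IdealSheafData) (x : X) (n : ℕ) :
    Div21Lib.stI (I ^ n) x = Div21Lib.stI I x ^ n := by
  induction n with
  | zero => rw [pow_zero, pow_zero, Ideal.one_eq_top, Scheme.IdealSheafData.one_eq_top, stI_top]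
  | succ n ih => rw [pow_succ, pow_succ, stI_mul, ih]

theorem stI_prod {ι : Type*} (s : Finset ι) (I : ι → X.IdealSheafData) (x : X) :
    Div21Lib.stI (∏ i ∈ s, I i) x = ∏ i ∈ s, Div21Lib.stI (I i) x := by
  classical
  induction s using Finset.induction with
  | empty => rw [Finset.prod_empty, Finset.prod_empty, Ideal.one_eq_top, Scheme.IdealSheafData.one_eq_top, stI_top]
  | insert i t hi ih => rw [Finset.prod_insert hi, Finset.prod_insert hi, stI_mul, ih]

theorem stI_le_maximal_iff (I : X.IdealSheafData) (x : X) :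
    Div21Lib.stI I x ≤ IsLocalRing.maximalIdeal (X.presheaf.stalk x) ↔ x ∈ I.support := by
  obtain ⟨U, hU, hx, -⟩ := exists_isAffineOpen_mem_and_subset (U := ⊤) (x := x) trivial
  rw [Div21Lib.stI_eq _ ⟨U, hU⟩ hx, Scheme.IdealSheafData.mem_support_iff_of_mem (U := ⟨U, hU⟩) hx,
    Scheme.mem_zeroLocus_iff, Ideal.map_le_iff_le_comap]
  refine forall_congr' fun f => imp_congr_right fun _ => ?_
  rw [Ideal.mem_comap, IsLocalRing.mem_maximalIdeal, mem_nonunits_iff, Scheme.mem_basicOpen _ _ _ hx]

theorem stI_eq_top_iff (I : X.IdealSheafData) (x : X) : Div21Lib.stI I x = ⊤ ↔ x ∉ I.support := by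
  rw [← stI_le_maximal_iff]
  refine ⟨fun h h' => ?_, fun h => ?_⟩
  · rw [h] at h'
    exact IsLocalRing.maximalIdeal.isMaximal _ |>.ne_top (top_le_iff.1 h')
  · by_contra hne
    exact h (IsLocalRing.le_maximalIdeal hne)

/-- The stalk at the generic point of the ideal of a reduced irreducible closed subscheme. -/
theorem stI_gen_eq_maximal (I : X.IdealSheafData) [IsReduced I.subscheme] {η : X}
    (hη : (I.support : Set X) = closure {η}) :
    Div21Lib.stI I η = IsLocalRing.maximalIdeal (X.presheaf.stalk η) := by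
  refine le_antisymm ((stI_le_maximal_iff I η).2 (by rw [← SetLike.mem_coe, hη]; exact subset_closure rfl))
    fun a ha => ?_
  obtain ⟨V, hηV, s₀, rfl⟩ := X.presheaf.exists_germ_eq (x := η) a
  obtain ⟨U, hU, hηU, hUV⟩ := exists_isAffineOpen_mem_and_subset (show η ∈ V from hηV)
  rw [← X.presheaf.germ_res_apply (homOfLE (show U ≤ V from hUV)) η hηU s₀] at ha ⊢
  generalize X.presheaf.map (homOfLE (show U ≤ V from hUV)).op s₀ = s at ha ⊢
  refine Div21Lib.germ_mem_stI I ⟨U, hU⟩ ?_ hηU
  have hη' : η ∉ X.basicOpen s := by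
    rw [Scheme.mem_basicOpen _ _ _ hηU]
    exact (IsLocalRing.mem_maximalIdeal _).1 ha
  have hrad : s ∈ (I.ideal ⟨U, hU⟩).radical := by
    rw [Ideal.radical_eq_sInf, Ideal.mem_sInf]
    rintro P ⟨hP, hPp⟩
    let p : Spec Γ(X, U) := (⟨P, hPp⟩ : PrimeSpectrum Γ(X, U))
    let y := hU.fromSpec p
    have hyU : y ∈ U := by
      have : y ∈ Set.range hU.fromSpec := ⟨p, rfl⟩
      rwa [hU.range_fromSpec] at this
    have key : ∀ f : Γ(X, U), y ∈ X.basicOpen f ↔ f ∉ P := fun f => by
      show hU.fromSpec p ∈ X.basicOpen f ↔ _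
      rw [← Scheme.Hom.mem_preimage, hU.fromSpec_preimage_basicOpen]
      rfl
    have hyI : y ∈ I.support := by
      rw [Scheme.IdealSheafData.mem_support_iff_of_mem (U := ⟨U, hU⟩) hyU, Scheme.mem_zeroLocus_iff]
      exact fun f hf hy => (key f).1 hy (hP hf)
    have hsp : η ⤳ y := by rw [specializes_iff_mem_closure, ← hη]; exact hyI
    by_contra hsP
    exact hη' (hsp.mem_open (X.basicOpen s).2 ((key s).2 hsP))
  rwa [← Scheme.IdealSheafData.radical_ideal, CartierExt.radical_eq_of_isReduced] at hrad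

/-- Invertible modules on the spectrum of a local ring are trivial. -/
theorem cl_eq_one_of_local {A : Type u} [CommRing A] [IsLocalRing A]
    {L : (Spec (CommRingCat.of A)).Modules} (hL : PicF.IsInvertible L) : PicF.cl L = 1 := by
  obtain ⟨U, hU, e, he⟩ := InvX.exists_frame hL (IsLocalRing.closedPoint A)
  have hT : U = ⊤ := top_le_iff.1 fun x _ =>
    (IsLocalRing.specializes_closedPoint x).mem_open U.2 hU
  subst hT
  obtain ⟨i⟩ := CurveFinMap.nonempty_iso_of_frame e he
  rw [H23.PicMul.one_def]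
  exact cl_eq_iff.2 ⟨i⟩

end Groth.Agent.ArInt
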