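import Groth.Agent.ArInt.Inter
import Groth.Agent.ArInt.Fundamental
import Groth.Agent.ArInt.StalkIdeals
import Groth.Agent.GeomField.GlobalFunctions
import Groth.Agent.RegLoc6.Basic
import Groth.Prelude.Def_ModelsG
import Mathlib.AlgebraicGeometry.ValuativeCriterion

/-!
# Sections of a model over a DVR
-/

set_option autoImplicit false
set_option linter.style.haveILetI false
set_option linter.unusedSectionVars false
set_option backward.isDefEq.respectTransparency false
set_option backward.isDefEq.respectTransparency.types false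
set_option maxHeartbeats 1000000

universe u

open CategoryTheory CategoryTheory.Limits AlgebraicGeometry TopologicalSpace

noncomputable section

namespace Groth.Agent.ArInt

open Groth.Agent

variable {R : Type u} [CommRing R] [IsDomain R] [IsDiscreteValuationRing R]

/-- A rational point of the generic fibre extends to a section. -/
theorem exists_section_model {X : Scheme.{u}} (p : X ⟶ Spec (CommRingCat.of R)) [IsProper p]
    (t : Spec (CommRingCat.of (FractionRing R)) ⟶ X)
    (ht : t ≫ p = Spec.map (CommRingCat.ofHom (algebraMap R (FractionRing R)))) :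
    ∃ σ : Spec (CommRingCat.of R) ⟶ X, σ ≫ p = 𝟙 _ := by
  have hex : ValuativeCriterion.Existence p := by
    have h : UniversallyClosed p := inferInstance
    rw [UniversallyClosed.eq_valuativeCriterion] at h
    exact h.1
  obtain ⟨⟨l, -, hl⟩⟩ := (hex
    { R := R, K := FractionRing R, i₁ := t, i₂ := 𝟙 _, commSq := ⟨by rw [ht, Category.comp_id]⟩ }).exists_lift
  exact ⟨l, hl⟩

variable {X : Over (Spec (CommRingCat.of R))}

theorem fromSpecStalk_hom (x : X.left) :
    X.left.fromSpecStalk x ≫ X.hom = Spec.map (CommRingCat.ofHom (Models.stalkHom R X x)) := by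
  have h1 : X.hom = X.left.toSpecΓ ≫ Spec.map ((Scheme.ΓSpecIso (CommRingCat.of R)).inv ≫ X.hom.appTop) := by
    rw [Spec.map_comp, ← Category.assoc, ← Scheme.toSpecΓ_naturality, Category.assoc,
      AlgebraicGeometry.toSpecΓ_SpecMap_ΓSpecIso_inv, Category.comp_id]
  conv_lhs => rw [h1]
  rw [← Category.assoc, Scheme.fromSpecStalk_toSpecΓ]
  rw [← Spec.map_comp]
  rfl

variable (σ : Spec (CommRingCat.of R) ⟶ X.left) (hσ : σ ≫ X.hom = 𝟙 _)

/-- The point of the closed fibre cut by a section. -/
abbrev secPt : X.left := σ (IsLocalRing.closedPoint R)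

/-- Evaluation along a section. -/
abbrev secEval : X.left.presheaf.stalk (secPt σ) →+* R := (Scheme.stalkClosedPointTo σ).hom

include hσ in
theorem secEval_stalkHom (r : R) : secEval σ (Models.stalkHom R X (secPt σ) r) = r := by
  have h : CommRingCat.ofHom (Models.stalkHom R X (secPt σ)) ≫ Scheme.stalkClosedPointTo σ =
      𝟙 (CommRingCat.of R) := by
    refine Spec.map_injective ?_
    refine (Spec.map_comp _ _).trans ?_
    refine (congrArg (Spec.map (Scheme.stalkClosedPointTo σ) ≫ ·) (fromSpecStalk_hom (X := X) (secPt σ)).symm).trans ?_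
    refine (Category.assoc _ _ _).symm.trans ?_
    refine (congrArg (· ≫ X.hom) (Scheme.Spec_stalkClosedPointTo_fromSpecStalk σ)).trans ?_
    exact hσ.trans (Spec.map_id _).symm
  have h2 := congrArg (fun φ => φ.hom r) h
  exact h2

include hσ in
theorem secPt_mem : secPt σ ∈ Models.specialFibreSet R X := by
  show X.hom (σ (IsLocalRing.closedPoint R)) = IsLocalRing.closedPoint R
  rw [← Scheme.Hom.comp_apply, hσ]
  rfl

include hσ in
theorem isClosed_secPt [IsSeparated X.hom] : IsClosed ({secPt σ} : Set X.left) := by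
  haveI : IsClosedImmersion (σ ≫ X.hom) := by rw [hσ]; infer_instance
  haveI : IsClosedImmersion σ := IsClosedImmersion.of_comp σ X.hom
  have h := σ.isClosedEmbedding.isClosedMap _ (IsLocalRing.isClosed_singleton_closedPoint R)
  rwa [Set.image_singleton] at h

include hσ in
/-- The residue field at the point is the residue field of the base. -/
theorem residue_surjective_secPt :
    Function.Surjective ((X.left.residue (secPt σ)).hom.comp (Models.stalkHom R X (secPt σ))) := by
  intro t
  obtain ⟨a, rfl⟩ := X.left.residue_surjective (secPt σ) t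
  refine ⟨secEval σ a, ?_⟩
  show X.left.residue (secPt σ) (Models.stalkHom R X (secPt σ) (secEval σ a)) = X.left.residue (secPt σ) a
  rw [← sub_eq_zero, ← map_sub]
  refine (IsLocalRing.residue_eq_zero_iff _).2 ((IsLocalRing.mem_maximalIdeal _).2 fun hu => ?_)
  have h := hu.map (secEval σ)
  rw [map_sub, secEval_stalkHom σ hσ, sub_self] at h
  exact not_isUnit_zero h

include hσ in
/-- The uniformiser is a regular parameter at the point. -/
theorem regular_quot_secPt [IsRegularLocalRing (X.left.presheaf.stalk (secPt σ))] :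
    IsRegularLocalRing (X.left.presheaf.stalk (secPt σ) ⧸
        (IsLocalRing.maximalIdeal R).map (Models.stalkHom R X (secPt σ))) ∧
      ((IsLocalRing.maximalIdeal R).map (Models.stalkHom R X (secPt σ))).IsPrime ∧
      (IsLocalRing.maximalIdeal R).map (Models.stalkHom R X (secPt σ)) ≠ ⊥ := by
  obtain ⟨π, hπ⟩ := IsDiscreteValuationRing.exists_irreducible R
  let O := X.left.presheaf.stalk (secPt σ)
  let a : O := Models.stalkHom R X (secPt σ) π
  have hmap : (IsLocalRing.maximalIdeal R).map (Models.stalkHom R X (secPt σ)) = Ideal.span {a} := by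
    rw [hπ.maximalIdeal_eq, Ideal.map_span, Set.image_singleton]
  have hloc : (IsLocalRing.maximalIdeal O).map (secEval σ) ≤ IsLocalRing.maximalIdeal R := by
    haveI : IsLocalHom (secEval σ) := inferInstanceAs (IsLocalHom (Scheme.stalkClosedPointTo σ).hom)
    rw [Ideal.map_le_iff_le_comap, IsLocalRing.maximalIdeal_comap]
  have hm : a ∈ IsLocalRing.maximalIdeal O := by
    refine (IsLocalRing.mem_maximalIdeal _).2 fun hu => hπ.not_isUnit ?_
    have h := hu.map (secEval σ)
    rwa [secEval_stalkHom σ hσ] at h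
  have hm2 : a ∉ IsLocalRing.maximalIdeal O ^ 2 := fun h => by
    have h1 : π ∈ IsLocalRing.maximalIdeal R ^ 2 := by
      have h2 := Ideal.mem_map_of_mem (secEval σ) h
      rw [Ideal.map_pow, secEval_stalkHom σ hσ] at h2
      exact Ideal.pow_right_mono hloc 2 h2
    rw [hπ.maximalIdeal_eq, Ideal.span_singleton_pow, Ideal.mem_span_singleton] at h1
    have := (pow_dvd_pow_iff hπ.ne_zero hπ.not_isUnit).1 (show π ^ 2 ∣ π ^ 1 by rwa [pow_one])
    omega
  rw [hmap]
  haveI := (RegLoc6.isRegularLocalRing_quot_and hm hm2).1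
  haveI := RegLoc6.isDomain_of_isRegularLocalRing (O ⧸ Ideal.span {a})
  refine ⟨‹_›, (Ideal.Quotient.isDomain_iff_prime _).1 ‹_›, fun h => hπ.ne_zero ?_⟩
  rw [Ideal.span_singleton_eq_bot] at h
  rw [← secEval_stalkHom σ hσ π, show Models.stalkHom R X (secPt σ) π = 0 from h, map_zero]

/-- A product of two proper ideals is no nonzero prime. -/
theorem not_isPrime_mul {O : Type u} [CommRing O] [IsLocalRing O] [IsNoetherianRing O] {I J : Ideal O}
    (hI : I ≠ ⊤) (hJ : J ≠ ⊤) (h0 : I * J ≠ ⊥) : ¬ (I * J).IsPrime := by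
  intro hP
  have key : ∀ {A B : Ideal O}, B ≠ ⊤ → A * B ≠ ⊥ → A ≤ A * B → False := fun {A B} hB h0 hle => by
    have hA : A = ⊥ := Submodule.eq_bot_of_le_smul_of_le_jacobson_bot B A (IsNoetherian.noetherian A)
      (by rw [smul_eq_mul, mul_comm]; exact hle)
      (by rw [IsLocalRing.jacobson_eq_maximalIdeal ⊥ bot_ne_top]; exact IsLocalRing.le_maximalIdeal hB)
    exact h0 (by rw [hA, Ideal.bot_mul])
  rcases (Ideal.IsPrime.mul_le hP).1 (le_refl (I * J)) with h | h
  · exact key hJ h0 h
  · rw [mul_comm] at h h0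
    exact key hI h0 h

include hσ in
/-- A curve through the point has trivial field of constants. -/
theorem wdeg_eq_one [IsSurf X] (Γ : ArSurf.VertComp R X) (h : secPt σ ∈ Set.range Γ.ι.base) :
    Models.wdeg R X Γ = 1 := by
  obtain ⟨c, hc⟩ := h
  let k := IsLocalRing.ResidueField R
  let C := Γ.curve.left
  haveI : IsIntegral C := Γ.isIntegral
  haveI := isProper_curve_over Γ
  letI : Algebra k Γ(C, ⊤) := GeomField.globalAlgebra k C
  letI : Field Γ(C, ⊤) := (GeomField.isField_globalFunctions k C).toField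
  let ev := GeomField.evalHom k C c
  have hsurj : Function.Surjective (algebraMap k Γ(C, ⊤)) := by
    intro y
    have hres : Function.Surjective ((X.left.residue (Γ.ι c)).hom.comp (Models.stalkHom R X (Γ.ι c))) := by
      rw [show (Γ.ι c : X.left) = secPt σ from hc]; exact residue_surjective_secPt σ hσ
    obtain ⟨u, hu⟩ := C.residue_surjective c (ev y)
    obtain ⟨v, hv⟩ := Γ.ι.stalkMap_surjective c u
    obtain ⟨r, hr⟩ := hres (X.left.residue (Γ.ι c) v)
    refine ⟨IsLocalRing.residue R r, ev.injective ?_⟩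
    show (C.residue c) ((C.presheaf.germ ⊤ c trivial) (Coh.toGlobal Γ.curve.hom (IsLocalRing.residue R r))) = _
    have hw : Coh.toGlobal Γ.curve.hom (IsLocalRing.residue R r) = Γ.ι.appTop (Coh.toGlobal X.hom r) := by
      have h1 := RingHom.congr_fun (toGlobal_comp Γ.curve.hom (IsLocalRing.residue R)) r
      rw [← Γ.w] at h1
      exact h1.symm
    have hnat : C.presheaf.germ ⊤ c trivial (Γ.ι.appTop (Coh.toGlobal X.hom r)) =
        Γ.ι.stalkMap c (Models.stalkHom R X (Γ.ι c) r) :=
      (Scheme.Hom.germ_stalkMap_apply Γ.ι ⊤ c trivial _).symm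
    rw [hw, hnat]
    refine Eq.trans ?_ hu
    have hrr : ∀ z, C.residue c (Γ.ι.stalkMap c z) = Γ.ι.residueFieldMap c (X.left.residue (Γ.ι c) z) := fun z =>
      (ConcreteCategory.congr_hom (Scheme.residue_residueFieldMap Γ.ι c) z).symm
    rw [← hv, hrr, hrr]
    exact congrArg _ hr
  show Module.finrank k (Coh.HH C (Coh.structureModule C) 0) = 1
  rw [GeomField.finrank_HH_zero]
  exact ((LinearEquiv.ofBijective (Algebra.linearMap k Γ(C, ⊤))
    ⟨(algebraMap k Γ(C, ⊤)).injective, hsurj⟩).finrank_eq).symm.trans (Module.finrank_self k)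

end Groth.Agent.ArInt

namespace Groth.Agent.ArInt

open Groth.Agent

variable {R : Type u} [CommRing R] [IsDomain R] [IsDiscreteValuationRing R] {X : Over (Spec (CommRingCat.of R))}

/-- With a section, a field of functions on the closed fibre is the residue field. -/
theorem length_eq_one_of_section [IsSurf X] (σ : Spec (CommRingCat.of R) ⟶ X.left) (hσ : σ ≫ X.hom = 𝟙 _)
    (hF : IsFieldFinite X (fibreIdeal X)) :
    letI : Algebra R Γ((fibreIdeal X).subscheme, ⊤) :=
      (((fibreIdeal X).subschemeι ≫ X.hom).appTop.hom.comp (Scheme.ΓSpecIso (CommRingCat.of R)).inv.hom).toAlgebra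
    Module.length R Γ((fibreIdeal X).subscheme, ⊤) = 1 := by
  let ρ : R →+* Γ((fibreIdeal X).subscheme, ⊤) :=
    ((fibreIdeal X).subschemeι ≫ X.hom).appTop.hom.comp (Scheme.ΓSpecIso (CommRingCat.of R)).inv.hom
  letI : Algebra R Γ((fibreIdeal X).subscheme, ⊤) := ρ.toAlgebra
  letI : Field Γ((fibreIdeal X).subscheme, ⊤) := hF.1.toField
  let k := IsLocalRing.ResidueField R
  let jk := Spec.map (CommRingCat.ofHom (IsLocalRing.residue R))
  haveI : IsClosedImmersion jk := IsClosedImmersion.spec_of_surjective _ IsLocalRing.residue_surjective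
  let Z := pullback X.hom jk
  let j := pullback.fst X.hom jk
  have hker : j.ker = fibreIdeal X := Scheme.IdealSheafData.ker_fst_of_isClosedImmersion jk X.hom
  let τ : Spec (CommRingCat.of k) ⟶ Z := pullback.lift (jk ≫ σ) (𝟙 _) (by rw [Category.assoc, hσ, Category.id_comp, Category.comp_id])
  let l : Z ⟶ (fibreIdeal X).subscheme := IsClosedImmersion.lift (fibreIdeal X).subschemeι j
    (by rw [Scheme.IdealSheafData.ker_subschemeι, hker])
  let v : Spec (CommRingCat.of k) ⟶ (fibreIdeal X).subscheme := τ ≫ l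
  have hv : v ≫ (fibreIdeal X).subschemeι ≫ X.hom = jk := by
    rw [Category.assoc, IsClosedImmersion.lift_fac_assoc, pullback.lift_fst_assoc, Category.assoc, hσ,
      Category.comp_id]
  let ψ : Γ((fibreIdeal X).subscheme, ⊤) →+* k :=
    (Scheme.ΓSpecIso (CommRingCat.of k)).hom.hom.comp v.appTop.hom
  have hψ : ∀ r, ψ (ρ r) = IsLocalRing.residue R r := fun r => by
    show (Scheme.ΓSpecIso (CommRingCat.of k)).hom (v.appTop (((fibreIdeal X).subschemeι ≫ X.hom).appTop
      ((Scheme.ΓSpecIso (CommRingCat.of R)).inv r))) = _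
    rw [← CommRingCat.comp_apply _ v.appTop, ← Scheme.Hom.comp_appTop, hv]
    have h := ConcreteCategory.congr_hom (Scheme.ΓSpecIso_naturality (CommRingCat.ofHom (IsLocalRing.residue R)))
      ((Scheme.ΓSpecIso (CommRingCat.of R)).inv r)
    refine h.trans ?_
    exact congrArg (IsLocalRing.residue R) ((Scheme.ΓSpecIso (CommRingCat.of R)).commRingCatIsoToRingEquiv.apply_symm_apply r)
  have hsurj : Function.Surjective ρ := fun y => by
    obtain ⟨r, hr⟩ := IsLocalRing.residue_surjective (ψ y)
    exact ⟨r, ψ.injective ((hψ r).trans hr)⟩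
  have hk : ∀ r ∈ IsLocalRing.maximalIdeal R, ρ r = 0 := fun r hr => ψ.injective (by
    rw [hψ, map_zero]; exact (IsLocalRing.residue_eq_zero_iff r).2 hr)
  let φ : k →+* Γ((fibreIdeal X).subscheme, ⊤) := Ideal.Quotient.lift _ ρ hk
  letI : Algebra k Γ((fibreIdeal X).subscheme, ⊤) := φ.toAlgebra
  haveI : IsScalarTower R k Γ((fibreIdeal X).subscheme, ⊤) := IsScalarTower.of_algebraMap_eq fun r => rfl
  haveI : Module.Finite R Γ((fibreIdeal X).subscheme, ⊤) := hF.2
  haveI : Module.Finite k Γ((fibreIdeal X).subscheme, ⊤) := Module.Finite.of_restrictScalars_finite R _ _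
  have hb : Function.Bijective (Algebra.linearMap k Γ((fibreIdeal X).subscheme, ⊤)) :=
    ⟨φ.injective, fun y => (hsurj y).elim fun r hr => ⟨IsLocalRing.residue R r, hr⟩⟩
  rw [Module.length_eq_of_surjective (R := k) IsLocalRing.residue_surjective,
    Module.length_eq_finrank, ← (LinearEquiv.ofBijective _ hb).finrank_eq, Module.finrank_self, Nat.cast_one]

end Groth.Agent.ArInt
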