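import Groth.Agent.ArInt.ArtinContract
import Groth.Agent.ArInt.ConstField
import Groth.Agent.ArInt.EulerChi
import Groth.Agent.ExtShX.ClosedHom

/-!
# Vertical divisors built from rational curves have no line bundles of degree zero
-/

set_option autoImplicit false
set_option linter.style.haveILetI false
set_option linter.unusedSectionVars false
set_option backward.isDefEq.respectTransparency false
set_option backward.isDefEq.respectTransparency.types false
set_option maxHeartbeats 1000000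

universe u

open CategoryTheory CategoryTheory.Limits AlgebraicGeometry TopologicalSpace
open Groth.Agent.H23.PicMul
open Groth.Agent.PnCoh.Finite (mapLin)

noncomputable section

namespace Groth.Agent.ArInt

open Groth.Agent

section Curve

variable (k : Type u) [Field k] {C : Scheme.{u}} [C.Over (Spec (CommRingCat.of k))] [IsIntegral C]
  [IsProper (C ↘ Spec (CommRingCat.of k))]

include k in
/-- A nonzero section gives a surjection on first cohomology. -/
theorem surjective_H1_of_section (hdim : topologicalKrullDim C = 1) {L : C.Modules} (hL : PicF.IsInvertible L)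
    (φ : Coh.structureModule C ⟶ L) (hφ : φ ≠ 0) : Function.Surjective (mapLin k φ 1) := by
  haveI := CurveCohLib.isNoetherian_of_proper (k := k) (X := C)
  have hN : PicF.IsInvertible (Coh.structureModule C) := CurveDeg.isInvertible_structureModule
  have hNc := CurveDeg.isCoh_of_isInvertible hN
  have hLc := CurveDeg.isCoh_of_isInvertible hL
  have hQ : Coh.IsCoh (cokernel φ) := QCoh.isCoh_cokernel hNc.1 hLc φ
  haveI : Mono φ := InvEnd.mono_of_ne_zero hN hL φ hφ
  let S : ShortComplex C.Modules := ShortComplex.mk φ (cokernel.π φ) (cokernel.condition φ)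
  have hS : S.ShortExact :=
    { exact := ShortComplex.exact_of_g_is_cokernel _ (cokernelIsCokernel φ) }
  have hdimQ : topologicalKrullDim (CohB1.support (cokernel φ)) ≤ 0 := by
    refine CurveDeg.topologicalKrullDim_le_zero_of_ne_univ hdim.le (QCoh.isClosed_support_of_isFT hQ.1 hQ.2)
      fun hu => ?_
    obtain ⟨W, ⟨⟨w, hw⟩⟩, hW⟩ := CurveDeg.exists_open_surjective hN hL φ hφ
    obtain ⟨_, ⟨V, hV, rfl⟩, hwV, hVW⟩ :=
      C.isBasis_affineOpens.exists_subset_of_mem_open hw W.isOpen
    refine absurd (hu.symm.subset (Set.mem_univ w)) ((QCoh.notMem_support_iff hQ.1 hV hwV).2 fun m => ?_)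
    obtain ⟨l, rfl⟩ := QCoh.app_surjective_of_epi hLc.1 hQ.1 (cokernel.π φ) hV m
    obtain ⟨n, rfl⟩ := hW V hVW l
    refine ⟨1, by rw [C.basicOpen_of_isUnit isUnit_one]; exact hwV, ?_⟩
    rw [one_smul]
    exact congrArg (fun ψ => Scheme.Modules.Hom.app ψ V n) (cokernel.condition φ)
  haveI := (Euler.good_of_dim_le_zero k hQ hdimQ).1 1 le_rfl
  intro y
  exact (CurveCohLib.ker_mapLin_g k hS 1).le
    (LinearMap.mem_ker.2 (Subsingleton.elim (mapLin k (cokernel.π φ) 1 y) 0))

variable (hdim : topologicalKrullDim C = 1) {w : ℕ} (hw : 0 < w)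
  (hw0 : Module.finrank k (Coh.HH C (Coh.structureModule C) 0) = w)
  (hh1 : Module.finrank k (Coh.HH C (Coh.structureModule C) 1) = 0)

include hdim hw0 hh1 in
theorem euler_eq_deg_add (M : C.Modules) (hM : PicF.IsInvertible M) :
    (Module.finrank k (Coh.HH C M 0) : ℤ) - Module.finrank k (Coh.HH C M 1) = Curv2.deg k C M 1 + w := by
  haveI := CurveCohLib.isNoetherian_of_proper (k := k) (X := C)
  have h1 := CurveReg.euler_eq k (X := C) hdim.le (CurveDeg.isCoh_of_isInvertible hM)
  have h2 := CurveReg.euler_eq k (X := C) hdim.le (RefX.isCoh_unit (X := C))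
  simp only [Curv2.deg, Nat.cast_one, one_mul]
  rw [← h1, show Curv2.euler k C (Coh.structureModule C) = _ from h2, hw0, hh1]
  push_cast
  ring

include hdim hw hw0 hh1 in
/-- Degree above `-2w` on a curve of genus zero leaves no first cohomology. -/
theorem subsingleton_H1_of_deg (hdvd : ∀ (M : C.Modules) (i : ℕ), w ∣ Module.finrank k (Coh.HH C M i))
    {M : C.Modules} (hM : PicF.IsInvertible M) (hd : -(2 * (w : ℤ)) < Curv2.deg k C M 1) :
    Subsingleton (Coh.HH C M 1) := by
  haveI := CurveCohLib.isNoetherian_of_proper (k := k) (X := C)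
  haveI := CurveCohLib.finite_HH (k := k) (CurveDeg.isCoh_of_isInvertible hM) 1
  have he := euler_eq_deg_add k hdim hw0 hh1 M hM
  refine (Module.finrank_zero_iff (R := k)).1 ?_
  by_cases hneg : Curv2.deg k C M 1 < 0
  · haveI := subsingleton_HH_of_deg_neg k hdim hM hneg
    rw [Module.finrank_zero_of_subsingleton (M := Coh.HH C M 0)] at he
    obtain ⟨c, hc⟩ := hdvd M 1
    rcases Nat.eq_zero_or_pos c with rfl | hcp
    · rw [hc, mul_zero]
    · exfalso
      have : w ≤ Module.finrank k (Coh.HH C M 1) := hc ▸ Nat.le_mul_of_pos_right w hcp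
      omega
  · obtain ⟨s, hs⟩ := CurveRR.exists_hom_ne_zero k (P := M) (by omega)
    haveI := CurveCohLib.finite_HH (k := k) (RefX.isCoh_unit (X := C)) 1
    haveI : Subsingleton (Coh.HH C (Coh.structureModule C) 1) := (Module.finrank_zero_iff (R := k)).1 hh1
    haveI := (surjective_H1_of_section k hdim hM s hs).subsingleton
    exact Module.finrank_zero_of_subsingleton

include hdim hw hw0 hh1 in
/-- Degree zero on a curve of genus zero is trivial. -/
theorem triv_of_deg_eq_zero {M : C.Modules} (hM : PicF.IsInvertible M) (hd : Curv2.deg k C M 1 = 0) :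
    H23.TrivBasic.Triv M := by
  have he := euler_eq_deg_add k hdim hw0 hh1 M hM
  obtain ⟨s, hs⟩ := CurveRR.exists_hom_ne_zero k (P := M) (by omega)
  haveI := (CurveDeg.deg_le_and_isIso k hdim.le CurveDeg.isInvertible_structureModule hM s hs).2
    (by rw [CurveDeg.deg_structureModule, hd])
  exact ⟨(asIso s).symm⟩

end Curve

section Step

/-- A short exact sequence between objects in the image of a fully faithful exact functor lifts. -/
theorem exists_lift_shortExact {C D : Type*} [Category C] [Category D] [Abelian C] [Abelian D] (F : C ⥤ D)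
    [F.Full] [F.Faithful] [PreservesFiniteLimits F] [PreservesFiniteColimits F] [F.PreservesZeroMorphisms]
    {a b c : C} {S : ShortComplex D} (hS : S.ShortExact) (i₁ : F.obj a ≅ S.X₁) (i₂ : F.obj b ≅ S.X₂)
    (i₃ : F.obj c ≅ S.X₃) :
    ∃ (f : a ⟶ b) (g : b ⟶ c) (w : f ≫ g = 0), (ShortComplex.mk f g w).ShortExact := by
  obtain ⟨f, hf⟩ := F.map_surjective (i₁.hom ≫ S.f ≫ i₂.inv)
  obtain ⟨g, hg⟩ := F.map_surjective (i₂.hom ≫ S.g ≫ i₃.inv)
  have w : f ≫ g = 0 := by
    refine F.map_injective ?_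
    rw [F.map_comp, hf, hg, F.map_zero]
    simp
  let S' := ShortComplex.mk f g w
  have hS' : (S'.map F).ShortExact := by
    refine ShortComplex.shortExact_of_iso (ShortComplex.isoMk i₁.symm i₂.symm i₃.symm ?_ ?_) hS
    · show i₁.inv ≫ F.map f = S.f ≫ i₂.inv
      rw [hf, Iso.inv_hom_id_assoc]
    · show i₂.inv ≫ F.map g = S.g ≫ i₃.inv
      rw [hg, Iso.inv_hom_id_assoc]
  haveI : Mono f := F.mono_of_mono_map (f := f) hS'.mono_f
  haveI : Epi g := F.epi_of_epi_map (f := g) hS'.epi_g
  exact ⟨f, g, w, { exact := (ShortComplex.exact_map_iff_of_faithful S' F).1 hS'.exact }⟩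

variable {X Z ZA ZB : Scheme.{u}} (z : Z ⟶ X) [IsClosedImmersion z] (α : ZA ⟶ Z) [IsClosedImmersion α]
  (β : ZB ⟶ Z) [IsClosedImmersion β] {A B : X.IdealSheafData}

/-- The sequence of a sum of two divisors on the subscheme itself. -/
theorem exists_seq_on (hA : BlowUp.IsEffCartierIdeal A) (hB : BlowUp.IsEffCartierIdeal B)
    (hz : z.ker = A * B) (hα : (α ≫ z).ker = A) (hβ : (β ≫ z).ker = B) :
    ∃ (f : (Coh.push α).obj ((Scheme.Modules.pullback (α ≫ z)).obj (ClSub.idealMod B)) ⟶ Coh.structureModule Z)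
      (g : Coh.structureModule Z ⟶ (Coh.push β).obj (Coh.structureModule ZB)) (w : f ≫ g = 0),
      (ShortComplex.mk f g w).ShortExact := by
  obtain ⟨f₀, g₀, w₀, hS, -⟩ := SurfRR.MulSeq.exists_seq A B hA hB
  have hIB := Big.isInvertible_ideal hB
  let E := (Scheme.Modules.pullback (α ≫ z)).obj (ClSub.idealMod B)
  obtain ⟨qA⟩ := ExtShX.nonempty_push_iso_quotMod (α ≫ z)
  obtain ⟨qZ⟩ := ExtShX.nonempty_push_iso_quotMod z
  obtain ⟨qB⟩ := ExtShX.nonempty_push_iso_quotMod (β ≫ z)
  rw [hα] at qA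
  rw [hz] at qZ
  rw [hβ] at qB
  obtain ⟨e₁⟩ := AmpleDev.push_tensor_iso (α ≫ z) hIB (Coh.structureModule ZA)
  obtain ⟨ψ⟩ : Nonempty (CohB1.tensorMod (Coh.structureModule ZA) E ≅ E) := cl_eq_iff.1 (by
    rw [cl_tensor, ← H23.PicMul.one_def, one_mul])
  haveI : (Scheme.Modules.pushforward z).Full := (ExtShX.ClosedHom.fullyFaithful z).full
  haveI : (Scheme.Modules.pushforward z).Faithful := (ExtShX.ClosedHom.fullyFaithful z).faithful
  exact exists_lift_shortExact (Scheme.Modules.pushforward z) hS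
    (a := (Coh.push α).obj E) (b := Coh.structureModule Z) (c := (Coh.push β).obj (Coh.structureModule ZB))
    ((AmpleVan.tw (ClSub.idealMod B)).mapIso qA.symm ≪≫ e₁ ≪≫ (Coh.push (α ≫ z)).mapIso ψ ≪≫
      ((Scheme.Modules.pushforwardComp α z).symm.app E)).symm
    qZ ((Scheme.Modules.pushforwardComp β z).app (Coh.structureModule ZB) ≪≫ qB)

variable (k : Type u) [CommRing k]

/-- Vanishing and lifting of trivialisations across a sum of two divisors. -/
theorem step (hA : BlowUp.IsEffCartierIdeal A) (hB : BlowUp.IsEffCartierIdeal B)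
    (hz : z.ker = A * B) (hα : (α ≫ z).ker = A) (hβ : (β ≫ z).ker = B) (p : Z ⟶ Spec (CommRingCat.of k)) :
    (Subsingleton (Coh.HH ZA ((Scheme.Modules.pullback (α ≫ z)).obj (ClSub.idealMod B)) 1) →
      Subsingleton (Coh.HH ZB (Coh.structureModule ZB) 1) → Subsingleton (Coh.HH Z (Coh.structureModule Z) 1)) ∧
    ∀ N : Z.Modules, PicF.IsInvertible N → H23.TrivBasic.Triv ((Scheme.Modules.pullback β).obj N) →
      Subsingleton (Coh.HH ZA (CohB1.tensorMod ((Scheme.Modules.pullback (α ≫ z)).obj (ClSub.idealMod B))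
        ((Scheme.Modules.pullback α).obj N)) 1) →
      ∃ t : Γ(N, ⊤), ∀ b, β b ∈ AmpleX.locus t := by
  obtain ⟨f, g, w, hS⟩ := exists_seq_on z α β hA hB hz hα hβ
  have hE : PicF.IsInvertible ((Scheme.Modules.pullback (α ≫ z)).obj (ClSub.idealMod B)) :=
    PicClLib.isInvertible_pullback _ (Big.isInvertible_ideal hB)
  letI : Z.Over (Spec (CommRingCat.of k)) := ⟨p⟩
  letI : ZA.Over (Spec (CommRingCat.of k)) := ⟨α ≫ p⟩
  letI : ZB.Over (Spec (CommRingCat.of k)) := ⟨β ≫ p⟩
  refine ⟨fun h1 h3 => ?_, fun N hN ⟨φ⟩ h1 => ?_⟩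
  · obtain ⟨a⟩ := PnCoh.exists_linearEquiv_push k α rfl (ProjUPX.isQCoh_of_isInvertible hE) 1
    obtain ⟨b⟩ := PnCoh.exists_linearEquiv_push k β rfl (M := Coh.structureModule ZB) QCoh.isQCoh_structureModule 1
    exact QCoh.subsingleton_HH_X₂ hS 1 a.symm.toEquiv.subsingleton b.symm.toEquiv.subsingleton
  let G := (Scheme.Modules.pullback β).obj N
  haveI : (AmpleVan.tw N).IsEquivalence := AmpleVan.isEquivalence_tw hN
  have hS' := hS.map_of_exact (AmpleVan.tw N)
  obtain ⟨eA⟩ := AmpleDev.push_tensor_iso α hN ((Scheme.Modules.pullback (α ≫ z)).obj (ClSub.idealMod B))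
  obtain ⟨a⟩ := PnCoh.exists_linearEquiv_push k α rfl
    (M := CohB1.tensorMod ((Scheme.Modules.pullback (α ≫ z)).obj (ClSub.idealMod B))
      ((Scheme.Modules.pullback α).obj N))
    (KFlatLib.isQCoh_tensor (ProjUPX.isQCoh_of_isInvertible hE)
      (ProjUPX.isQCoh_of_isInvertible (PicClLib.isInvertible_pullback α hN))) 1
  have hsurj := QCoh.app_top_surjective_of_HH_one hS'
    (AmpleVan.subsingleton_of_iso eA.symm 1 a.symm.toEquiv.subsingleton)
  obtain ⟨eB⟩ := AmpleDev.push_tensor_iso β hN (Coh.structureModule ZB)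
  obtain ⟨ψ⟩ : Nonempty (CohB1.tensorMod (Coh.structureModule ZB) G ≅ Coh.structureModule ZB) :=
    cl_eq_iff.1 (by rw [cl_tensor, cl_eq_iff.2 ⟨φ⟩, ← H23.PicMul.one_def, mul_one])
  obtain ⟨γ⟩ : Nonempty (N ≅ (AmpleVan.tw N).obj (Coh.structureModule Z)) := cl_eq_iff.1 (by
    show _ = PicF.cl (CohB1.tensorMod _ _)
    rw [cl_tensor, ← H23.PicMul.one_def, one_mul])
  let ω := eB ≪≫ (Coh.push β).mapIso ψ
  let π : N ⟶ (Coh.push β).obj (Coh.structureModule ZB) := γ.hom ≫ (AmpleVan.tw N).map g ≫ ω.hom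
  let o : Γ((Coh.push β).obj (Coh.structureModule ZB), ⊤) :=
    show Γ((Coh.push β).obj (Coh.structureModule ZB), ⊤) from (1 : Γ(ZB, ⊤))
  obtain ⟨v, hv⟩ := hsurj (ω.inv.app ⊤ o)
  refine ⟨γ.inv.app ⊤ v, fun b => Nakai.mem_locus_of_map hN β π _ ?_⟩
  have h1' : ∀ {P Q : Z.Modules} (f : P ≅ Q) (y : Γ(Q, ⊤)), f.hom.app ⊤ (f.inv.app ⊤ y) = y := fun f y => by
    show (f.inv ≫ f.hom).app ⊤ y = _
    rw [f.inv_hom_id]; rfl
  have hπt : π.app ⊤ (γ.inv.app ⊤ v) = o := by
    show ω.hom.app ⊤ (((AmpleVan.tw N).map g).app ⊤ (γ.hom.app ⊤ (γ.inv.app ⊤ v))) = _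
    rw [h1' γ, show ((AmpleVan.tw N).map g).app ⊤ v = _ from hv, h1' ω]
  rw [hπt]
  exact AmpleX.mem_locus.2 ⟨⊤, le_rfl, trivial, by rw [AModX.res_self]; exact InvX.isFrame_one ⊤⟩

end Step

section Engine

/-- A section generating everywhere trivializes. -/
theorem triv_of_forall_mem_locus {Y : Scheme.{u}} {N : Y.Modules} (t : Γ(N, ⊤))
    (h : ∀ x, x ∈ AmpleX.locus t) : H23.TrivBasic.Triv N := by
  have h' : (⊤ : Y.Opens) ≤ H23.TrivBasic.locus t := fun x _ => by rw [locus_eq]; exact h x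
  exact H23.TrivBasic.triv_of_frame (H23.TrivBasic.isFrame_res_of_le_locus h')

/-- A section of a module trivial on a proper integral curve generates everywhere or nowhere along it. -/
theorem mem_locus_along {k : Type u} [Field k] {C Y : Scheme.{u}} [IsIntegral C] (π : C ⟶ Spec (CommRingCat.of k))
    [IsProper π] (α : C ⟶ Y) {N : Y.Modules} (hN : PicF.IsInvertible N)
    (hT : H23.TrivBasic.Triv ((Scheme.Modules.pullback α).obj N)) (t : Γ(N, ⊤)) {c : C}
    (hc : α c ∈ H23.TrivBasic.locus t) (c' : C) : α c' ∈ H23.TrivBasic.locus t := by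
  let M' := (Scheme.Modules.pullback α).obj N
  have hM' : PicF.IsInvertible M' := PicClLib.isInvertible_pullback α hN
  let t' : Γ(M', ⊤) := InvX.pullElt α t
  have hloc : H23.TrivBasic.locus t' = α ⁻¹ᵁ H23.TrivBasic.locus t := H23.TrivBasic.locus_pullElt hN α t
  have h0 : (𝟙 C : C ⟶ C) c ∈ H23.TrivBasic.locus t' := by
    rw [hloc]; exact hc
  have h1 := AVAmple.mem_locus_of_triv π (𝟙 C) hM' (hT.pullback (𝟙 C)) t' h0 c'
  rw [hloc] at h1
  exact h1

/-- Empty schemes. -/
theorem triv_and_vanish_of_isEmpty {Z : Scheme.{u}} [IsEmpty Z] :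
    (∀ N : Z.Modules, H23.TrivBasic.Triv N) ∧ Subsingleton (Coh.HH Z (Coh.structureModule Z) 1) := by
  have hz : ∀ M : Z.Modules, IsZero M := fun M => KFlatLib.isZero_of_stalk _ fun x => isEmptyElim x
  exact ⟨fun N => ⟨(hz N).iso (hz _)⟩, Euler.subsingleton_HH_of_isZero (hz _) 1⟩

variable {R : Type u} [CommRing R] [IsDomain R] [IsDiscreteValuationRing R]
  {X : Over (Spec (CommRingCat.of R))} [IsSurf X] [Flat X.hom] {r : ℕ} (Γ : Fin r → ArSurf.VertComp R X)
  (L : Fin r → X.left.Modules) (hL : ∀ j, ClSub.IsInverseOf (L j) (ClSub.idealMod (Γ j).ι.ker))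

include hL in
/-- Divisors built by adding curves of genus zero in degree above `-2w` have neither first cohomology nor
line bundles of degree zero. -/
theorem pic0_trivial (S : Set (Fin r → ℕ)) (hdown : ∀ a ∈ S, ∀ b ≤ a, b ∈ S)
    (hgood : ∀ a ∈ S, a ≠ 0 → ∃ i, 0 < a i ∧ Models.h1 R X (Γ i) = 0 ∧
      ∑ j, (a j : ℤ) * ArSurf.inter R X (L j) (Γ i) < ArSurf.inter R X (L i) (Γ i) + 2 * (Models.wdeg R X (Γ i) : ℤ))
    (a : Fin r → ℕ) (ha : a ∈ S) (Z : Scheme.{u}) (z : Z ⟶ X.left) [IsClosedImmersion z] (hz : z.ker = divOf Γ a) :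
    Subsingleton (Coh.HH Z (Coh.structureModule Z) 1) ∧
    ∀ N : Z.Modules, PicF.IsInvertible N →
      (∀ (i : Fin r) (g : (Γ i).curve.left ⟶ Z), g ≫ z = (Γ i).ι →
        ArSurf.curveDeg (IsLocalRing.ResidueField R) (Γ i).curve.left ((Scheme.Modules.pullback g).obj N) = 0) →
      H23.TrivBasic.Triv N := by
  classical
  suffices key : ∀ (M : ℕ) (a : Fin r → ℕ), a ∈ S → ∑ j, a j ≤ M → ∀ (Z : Scheme.{u}) (z : Z ⟶ X.left)
      [IsClosedImmersion z], z.ker = divOf Γ a →
      Subsingleton (Coh.HH Z (Coh.structureModule Z) 1) ∧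
      ∀ N : Z.Modules, PicF.IsInvertible N →
        (∀ (i : Fin r) (g : (Γ i).curve.left ⟶ Z), g ≫ z = (Γ i).ι →
          ArSurf.curveDeg (IsLocalRing.ResidueField R) (Γ i).curve.left ((Scheme.Modules.pullback g).obj N) = 0) →
        H23.TrivBasic.Triv N from key _ a ha le_rfl Z z hz
  intro M
  induction M with
  | zero =>
    intro a _ hsum Z z _ hz
    have h0 : a = 0 := funext fun i => Finset.sum_eq_zero_iff.1 (Nat.le_zero.1 hsum) i (Finset.mem_univ i)
    subst h0
    haveI : IsEmpty Z := ⟨fun x => by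
      have h : z x ∈ (z.ker.support : Set X.left) := by
        rw [Scheme.Hom.support_ker]; exact subset_closure ⟨x, rfl⟩
      rw [hz, show divOf Γ 0 = ⊤ from (Finset.prod_eq_one fun j _ => pow_zero _).trans Scheme.IdealSheafData.one_eq_top,
        Scheme.IdealSheafData.support_top] at h
      exact h⟩
    obtain ⟨h1, h2⟩ := triv_and_vanish_of_isEmpty (Z := Z)
    exact ⟨h2, fun N _ _ => h1 N⟩
  | succ M ih =>
    intro a ha hsum Z z _ hz
    by_cases h : ∑ j, a j ≤ M
    · exact ih a ha h Z z hz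
    obtain ⟨i, hi, hh1, hdeg⟩ := hgood a ha fun h0 => h (by simp [h0])
    let b := a - Pi.single i 1
    have hab : a = b + Pi.single i 1 := funext fun j => by
      by_cases hj : j = i
      · subst hj; simp only [b, Pi.add_apply, Pi.sub_apply, Pi.single_eq_same]; omega
      · simp [b, Pi.single_eq_of_ne hj]
    have hb : ∑ j, b j ≤ M := by
      rw [hab] at hsum
      simp only [Pi.add_apply, Finset.sum_add_distrib, Finset.sum_pi_single', Finset.mem_univ, if_true] at hsum
      omega
    have hbS : b ∈ S := hdown a ha b fun j => Nat.sub_le _ _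
    let k := IsLocalRing.ResidueField R
    let C := (Γ i).curve.left
    haveI := isProper_curve_over (Γ i)
    haveI : IsProper (C ↘ Spec (CommRingCat.of k)) := isProper_curve_over (Γ i)
    obtain ⟨hw, hdvd⟩ := wdeg_pos_dvd (Γ i)
    let A := (Γ i).ι.ker
    let B := divOf Γ b
    have hA : BlowUp.IsEffCartierIdeal A := isEffCartier_ker (Γ i)
    have hB : BlowUp.IsEffCartierIdeal B := isEffCartier_divOf Γ b
    have hAB : z.ker = A * B := by rw [hz, hab, divOf_add_single]
    have hleA : z.ker ≤ A := by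
      rw [hAB]; intro U
      rw [Scheme.IdealSheafData.ideal_mul, Pi.mul_apply]
      exact Ideal.mul_le_left
    have hleB : z.ker ≤ B.subschemeι.ker := by
      rw [hAB, B.ker_subschemeι]; intro U
      rw [Scheme.IdealSheafData.ideal_mul, Pi.mul_apply]
      exact Ideal.mul_le_right
    let α := IsClosedImmersion.lift z (Γ i).ι hleA
    let β := IsClosedImmersion.lift z B.subschemeι hleB
    have hα : α ≫ z = (Γ i).ι := IsClosedImmersion.lift_fac _ _ _
    have hβ : β ≫ z = B.subschemeι := IsClosedImmersion.lift_fac _ _ _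
    haveI : IsClosedImmersion α := by
      haveI : IsClosedImmersion (α ≫ z) := hα ▸ inferInstance
      exact IsClosedImmersion.of_comp α z
    haveI : IsClosedImmersion β := by
      haveI : IsClosedImmersion (β ≫ z) := hβ ▸ inferInstance
      exact IsClosedImmersion.of_comp β z
    have hαk : (α ≫ z).ker = A := by rw [hα]
    have hβk : (β ≫ z).ker = B := by rw [hβ, B.ker_subschemeι]
    obtain ⟨hvanB, hpicB⟩ := ih b hbS hb B.subscheme (β ≫ z) hβk
    -- the sheaf on the curve
    let E := (Scheme.Modules.pullback (α ≫ z)).obj (ClSub.idealMod B)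
    have hE : PicF.IsInvertible E := PicClLib.isInvertible_pullback _ (Big.isInvertible_ideal hB)
    have hEdeg : -(2 * (Models.wdeg R X (Γ i) : ℤ)) < Curv2.deg k C E 1 := by
      have h1 : Curv2.deg k C E 1 = φ (Γ i) B := by
        show _ = ArSurf.inter R X (ClSub.idealMod B) (Γ i)
        rw [inter_eq_deg (Γ i) (Big.isInvertible_ideal hB)]
        exact CurveRR.deg_congr k ((Scheme.Modules.pullbackCongr hα).app _) 1
      rw [h1, φ_divOf Γ L hL]
      have h2 : ∑ j, (a j : ℤ) * ArSurf.inter R X (L j) (Γ i) =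
          ∑ j, (b j : ℤ) * ArSurf.inter R X (L j) (Γ i) + ArSurf.inter R X (L i) (Γ i) := by
        conv_lhs => rw [hab]
        simp only [Pi.add_apply, Nat.cast_add, add_mul, Finset.sum_add_distrib]
        congr 1
        rw [Finset.sum_eq_single i (fun j _ hj => by simp [Pi.single_eq_of_ne hj]) (by simp)]
        simp
      linarith
    have hEvan : Subsingleton (Coh.HH C E 1) :=
      subsingleton_H1_of_deg k (Γ i).dim_eq hw rfl hh1 hdvd hE hEdeg
    refine ⟨(step z α β R hA hB hAB hαk hβk (z ≫ X.hom)).1 hEvan hvanB, fun N hN hN0 => ?_⟩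
    have hαN : H23.TrivBasic.Triv ((Scheme.Modules.pullback α).obj N) :=
      triv_of_deg_eq_zero k (Γ i).dim_eq hw rfl hh1 (PicClLib.isInvertible_pullback α hN) (by
        rw [← curveDeg_eq_deg (Γ i) (PicClLib.isInvertible_pullback α hN)]
        exact hN0 i α hα)
    have hβN : H23.TrivBasic.Triv ((Scheme.Modules.pullback β).obj N) := by
      refine hpicB _ (PicClLib.isInvertible_pullback β hN) fun l g hg => ?_
      have hg' : (g ≫ β) ≫ z = (Γ l).ι := by rw [Category.assoc, hg]
      rw [← hN0 l (g ≫ β) hg']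
      unfold ArSurf.curveDeg
      exact congrArg (· - _) (JacTangent.eulerCharLE_iso ((Scheme.Modules.pullbackComp g β).app N) 1)
    obtain ⟨φA⟩ := hαN
    obtain ⟨t, ht⟩ := (step z α β R hA hB hAB hαk hβk (z ≫ X.hom)).2 N hN hβN (by
      obtain ⟨e⟩ : Nonempty (CohB1.tensorMod E ((Scheme.Modules.pullback α).obj N) ≅ E) :=
        cl_eq_iff.1 (by rw [cl_tensor, cl_eq_iff.2 ⟨φA⟩, ← H23.PicMul.one_def, mul_one])
      exact AmpleVan.subsingleton_of_iso e.symm 1 hEvan)
    have hcov : ∀ x : Z, x ∈ Set.range α ∨ x ∈ Set.range β := fun x => by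
      have h1 : z x ∈ (z.ker.support : Set X.left) := by
        rw [Scheme.Hom.support_ker]; exact subset_closure ⟨x, rfl⟩
      rw [hAB, Scheme.IdealSheafData.support_mul, Closeds.coe_sup, support_ker,
        ← Scheme.IdealSheafData.range_subschemeι] at h1
      rcases h1 with ⟨c, hc⟩ | ⟨c, hc⟩
      · refine Or.inl ⟨c, z.isClosedEmbedding.injective ?_⟩
        rw [← Scheme.Hom.comp_apply, hα]; exact hc
      · refine Or.inr ⟨c, z.isClosedEmbedding.injective ?_⟩
        rw [← Scheme.Hom.comp_apply, hβ]; exact hc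
    by_cases hmeet : ∃ c b', α c = β b'
    · obtain ⟨c, b', hcb⟩ := hmeet
      refine triv_of_forall_mem_locus t fun x => ?_
      rcases hcov x with ⟨c', rfl⟩ | ⟨b'', rfl⟩
      · rw [← locus_eq]
        refine mem_locus_along (Γ i).curve.hom α hN ⟨φA⟩ t (c := c) ?_ c'
        rw [hcb, locus_eq]
        exact ht b'
      · exact ht b''
    · -- the curve is separate from the rest
      push Not at hmeet
      have hdisj : A.comap (β ≫ z) = ⊤ := by
        rw [← Scheme.IdealSheafData.support_eq_bot_iff]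
        refine TopologicalSpace.Closeds.ext ?_
        rw [Scheme.IdealSheafData.support_comap]
        refine Set.eq_empty_iff_forall_notMem.2 fun b' hb' => ?_
        have hb'' : (β ≫ z) b' ∈ (A.support : Set X.left) := hb'
        rw [support_ker] at hb''
        obtain ⟨c, hc⟩ := hb''
        refine hmeet c b' (z.isClosedEmbedding.injective ?_)
        rw [← Scheme.Hom.comp_apply, hα]
        exact hc
      have hE' : PicF.cl ((Scheme.Modules.pullback (β ≫ z)).obj (ClSub.idealMod A)) = 1 := by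
        show PicF.pullCl (β ≫ z) (PicF.cl (ClSub.idealMod A)) = 1
        show PicF.cl ((Scheme.Modules.pullback (β ≫ z)).obj _) = 1
        rw [Big.cl_idealMod_comap (β ≫ z) (I := A) hA (by rw [hdisj]; exact isEffCartier_top _),
          hdisj, cl_idealMod_top]
      obtain ⟨φB⟩ := hβN
      obtain ⟨t₂, ht₂⟩ := (step z β α R hB hA (by rw [hAB, mul_comm]) hβk hαk (z ≫ X.hom)).2 N hN ⟨φA⟩ (by
        obtain ⟨e⟩ : Nonempty (CohB1.tensorMod ((Scheme.Modules.pullback (β ≫ z)).obj (ClSub.idealMod A))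
            ((Scheme.Modules.pullback β).obj N) ≅ Coh.structureModule B.subscheme) :=
          cl_eq_iff.1 (by rw [cl_tensor, cl_eq_iff.2 ⟨φB⟩, hE', ← H23.PicMul.one_def, mul_one])
        exact AmpleVan.subsingleton_of_iso e.symm 1 hvanB)
      let W : ULift.{u} Bool → Z.Opens := fun s => if s.down then ⟨(Set.range α)ᶜ, α.isClosedEmbedding.isClosed_range.isOpen_compl⟩
        else ⟨(Set.range β)ᶜ, β.isClosedEmbedding.isClosed_range.isOpen_compl⟩
      let u : ULift.{u} Bool → Γ(N, ⊤) := fun s => if s.down then t else t₂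
      have hW : W ⟨true⟩ ⊓ W ⟨false⟩ = ⊥ := by
        refine Opens.ext (Set.eq_empty_iff_forall_notMem.2 fun x hx => ?_)
        rcases hcov x with h1 | h1
        · exact hx.1 h1
        · exact hx.2 h1
      have hWcov : ∀ x : Z, ∃ s, x ∈ W s := fun x => by
        rcases hcov x with ⟨c, rfl⟩ | ⟨b', rfl⟩
        · exact ⟨⟨false⟩, fun ⟨b', hb'⟩ => hmeet c b' hb'.symm⟩
        · exact ⟨⟨true⟩, fun ⟨c, hc⟩ => hmeet c b' hc⟩
      obtain ⟨v, hv, -⟩ := AModX.existsUnique_glue (M := N) (V := ⊤) W (fun _ => le_top)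
        (fun x _ => hWcov x)
        (fun s => AModX.res N (le_top : W s ≤ ⊤) (u s)) (fun s s' => by
          have hbot : ∀ V : Z.Opens, V = ⊥ → ∀ x y : Γ(N, V), x = y := fun V hV x y =>
            AModX.eq_of_locally _ _ fun p hp => by rw [hV] at hp; exact hp.elim
          rcases s with ⟨_ | _⟩ <;> rcases s' with ⟨_ | _⟩
          · rfl
          · exact hbot _ (by rw [inf_comm]; exact hW) _ _
          · exact hbot _ hW _ _
          · rfl)
      refine triv_of_forall_mem_locus v fun x => ?_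
      have hmem : ∀ s, x ∈ W s → x ∈ AmpleX.locus (u s) → x ∈ AmpleX.locus v := fun s hs hu => by
        obtain ⟨U, hU, hxU, hf⟩ := AmpleX.mem_locus.1 hu
        refine AmpleX.mem_locus.2 ⟨U ⊓ W s, le_top, ⟨hxU, hs⟩, ?_⟩
        have h1 := hf.res (inf_le_left : U ⊓ W s ≤ U)
        rw [AModX.res_res] at h1
        have h2 := congrArg (AModX.res N (inf_le_right : U ⊓ W s ≤ W s)) (hv s)
        rw [AModX.res_res, AModX.res_res] at h2
        rw [h2]
        exact h1
      rcases hcov x with ⟨c, rfl⟩ | ⟨b', rfl⟩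
      · refine hmem ⟨false⟩ (fun h2 => ?_) (ht₂ c)
        obtain ⟨b', hb'⟩ := h2
        exact hmeet c b' hb'.symm
      · refine hmem ⟨true⟩ (fun h2 => ?_) (ht b')
        obtain ⟨c, hc⟩ := h2
        exact hmeet c b' hc

end Engine

end Groth.Agent.ArInt
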