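import Groth.Agent.PicThick.Lift
import Groth.Agent.InvX.GenLocusPull
import Groth.Agent.S7856
import Groth.Agent.S2209
import Groth.Agent.S11968
import Groth.Agent.ArInt.RedFibre
import Groth.Agent.ArInt.PicKernel

/-!
# Torsion invertible modules which are trivial on the reduced closed fibre
-/

set_option autoImplicit false
set_option linter.style.haveILetI false
set_option linter.unusedSectionVars false
set_option backward.isDefEq.respectTransparency false
set_option backward.isDefEq.respectTransparency.types false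
set_option maxHeartbeats 1000000

universe u

open CategoryTheory CategoryTheory.Limits AlgebraicGeometry TopologicalSpace Opposite
open Groth.Agent.H23.PicMul

noncomputable section

namespace Groth.Agent.ArInt.TorsionInj

open Groth.Agent Groth.Agent.AModX Groth.Agent.InvX Groth.Agent.AmpleX Groth.Agent.PicThick

section Thickening

variable {X X' : Scheme.{u}} (i : X ⟶ X') [IsClosedImmersion i] [Surjective i] {n : ℕ}

/-- A torsion module trivial on a thickening is trivial when the units below are powers up to units above. -/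
theorem trivial_of_pullback (hn : IsUnit (n : Γ(X', ⊤)))
    (hdiv : ∀ u : Γ(X, ⊤), IsUnit u → ∃ (r : Γ(X', ⊤)) (w : Γ(X, ⊤)), IsUnit r ∧ IsUnit w ∧ u = i.appTop r * w ^ n)
    (L : X'.Modules) (hL : PicF.IsInvertible L) (φ : CohB1.tensorPow L n ≅ Coh.structureModule X')
    (ψ : (Scheme.Modules.pullback i).obj L ≅ Coh.structureModule X) : Nonempty (L ≅ Coh.structureModule X') := by
  choose U hxU e he using fun z : X' => exists_frame hL z
  have nat : ∀ {V V' : X'.Opens} (hV : V' ≤ V) (z : Γ(X', V)),
      i.app V' (resR hV z) = resR (i.preimage_mono hV) (i.app V z) := fun hV z =>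
    ConcreteCategory.congr_hom (i.naturality (homOfLE hV).op) z
  let a : ∀ z, Γ(X', U z) := fun z => φ.hom.app (U z) (powElt (e z) n)
  let c : ∀ z, Γ(X, i ⁻¹ᵁ U z) := fun z => ψ.hom.app (i ⁻¹ᵁ U z) (pullElt i (e z))
  have ha : ∀ z, IsUnit (a z) := fun z => isUnit_app_of_frame φ (isFrame_powElt (he z) n)
  have hc : ∀ z, IsUnit (c z) := fun z => isUnit_app_of_frame ψ (isFrame_pullElt i (he z))
  -- change of frame
  have hchg : ∀ (x y : X') (W : X'.Opens) (hx : W ≤ U x) (hy : W ≤ U y) (g : Γ(X', W)),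
      res L hy (e y) = g • res L hx (e x) →
      resR hy (a y) = g ^ n * resR hx (a x) ∧
        resR (i.preimage_mono hy) (c y) = i.app W g * resR (i.preimage_mono hx) (c x) := fun x y W hx hy g hg => by
    have h1 : ∀ (z : X') (hz : W ≤ U z), resR hz (a z) = φ.hom.app W (powElt (res L hz (e z)) n) := fun z hz => by
      rw [← res_powElt, app_res]; rfl
    have h2 : ∀ (z : X') (hz : W ≤ U z),
        resR (i.preimage_mono hz) (c z) = ψ.hom.app (i ⁻¹ᵁ W) (pullElt i (res L hz (e z))) := fun z hz => by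
      rw [← res_pullElt, app_res]; rfl
    refine ⟨?_, ?_⟩
    · rw [h1 x hx, h1 y hy, hg, powElt_smul, Scheme.Modules.Hom.app_smul]; rfl
    · rw [h2 x hx, h2 y hy, hg, InvX.pullElt_smul, Scheme.Modules.Hom.app_smul]; rfl
  -- the global unit comparing the two trivializations
  let uu : ∀ z, Γ(X, i ⁻¹ᵁ U z) := fun z => i.app (U z) (a z) * ((hc z).pow n).unit⁻¹.1
  let vv : ∀ z, Γ(X, i ⁻¹ᵁ U z) := fun z => ((ha z).map (i.app (U z)).hom).unit⁻¹.1 * c z ^ n
  have huv : ∀ z, uu z * vv z = 1 := fun z => by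
    show i.app (U z) (a z) * _ * (_ * c z ^ n) = 1
    calc _ = (i.app (U z) (a z) * ((ha z).map (i.app (U z)).hom).unit⁻¹.1) * (((hc z).pow n).unit⁻¹.1 * c z ^ n) := by ring
      _ = 1 := by rw [IsUnit.mul_val_inv, IsUnit.val_inv_mul, one_mul]
  have huc : ∀ z, uu z * c z ^ n = i.app (U z) (a z) := fun z => by
    show i.app (U z) (a z) * _ * c z ^ n = _
    rw [mul_assoc, IsUnit.val_inv_mul, mul_one]
  clear_value uu vv
  have hov : ∀ x y, resR inf_le_left (uu x) = resR (inf_le_right : i ⁻¹ᵁ U x ⊓ i ⁻¹ᵁ U y ≤ i ⁻¹ᵁ U y) (uu y) := fun x y => by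
    obtain ⟨g, hg⟩ := (he x).exists_coord (inf_le_left : U x ⊓ U y ≤ U x) (res L inf_le_right (e y))
    obtain ⟨h1, h2⟩ := hchg x y _ inf_le_left inf_le_right g hg
    have h3 := congrArg (i.app (U x ⊓ U y)) h1
    rw [map_mul, map_pow, nat, nat, ← huc x, ← huc y, map_mul, map_mul, map_pow, map_pow, h2, mul_pow] at h3
    have h4 : resR (i.preimage_mono inf_le_right) (uu y) * (i.app (U x ⊓ U y) g ^ n * resR (i.preimage_mono inf_le_left) (c x) ^ n) =
        resR (i.preimage_mono inf_le_left) (uu x) * (i.app (U x ⊓ U y) g ^ n * resR (i.preimage_mono inf_le_left) (c x) ^ n) := by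
      rw [h3]; ring
    have h5 : IsUnit (i.app (U x ⊓ U y) g ^ n * resR (i.preimage_mono (inf_le_left : U x ⊓ U y ≤ U x)) (c x) ^ n) := by
      rw [← mul_pow, ← h2]; exact ((hc y).map _).pow n
    exact (h5.mul_right_cancel h4).symm
  obtain ⟨u, hu, -⟩ := existsUnique_glue (M := Coh.structureModule X) (V := ⊤) (fun z => i ⁻¹ᵁ U z) (fun _ => le_top)
    (fun p _ => ⟨i p, hxU (i p)⟩) uu hov
  have hu' : ∀ z, resR (le_top : i ⁻¹ᵁ U z ≤ ⊤) (show Γ(X, ⊤) from u) = uu z := hu
  have hunit : IsUnit (show Γ(X, ⊤) from u) := by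
    obtain ⟨v, hv, -⟩ := existsUnique_glue (M := Coh.structureModule X) (V := ⊤) (fun z => i ⁻¹ᵁ U z) (fun _ => le_top)
      (fun p _ => ⟨i p, hxU (i p)⟩) vv fun x y => by
        show resR inf_le_left (vv x) = resR inf_le_right (vv y)
        have h := congrArg (resR (inf_le_left : i ⁻¹ᵁ U x ⊓ i ⁻¹ᵁ U y ≤ i ⁻¹ᵁ U x)) (huv x)
        have h' := congrArg (resR (inf_le_right : i ⁻¹ᵁ U x ⊓ i ⁻¹ᵁ U y ≤ i ⁻¹ᵁ U y)) (huv y)
        rw [map_mul, map_one] at h h'
        rw [← hov x y] at h'
        exact inv_unique h h'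
    refine IsUnit.of_mul_eq_one (show Γ(X, ⊤) from v) (eq_of_locally (M := Coh.structureModule X) _ _ fun p _ =>
      ⟨i ⁻¹ᵁ U (i p), le_top, hxU (i p), ?_⟩)
    show resR _ (_ * _) = resR _ (1 : Γ(X, ⊤))
    rw [map_mul, map_one, hu', show resR (le_top : i ⁻¹ᵁ U (i p) ≤ ⊤) (show Γ(X, ⊤) from v) = vv (i p) from hv (i p), huv]
  obtain ⟨r, w, hr, hw, huw⟩ := hdiv _ hunit
  obtain ⟨r', hr'⟩ := hr.exists_left_inv
  -- the roots give a global frame
  have hs : ∀ z, ∃ s : Γ(X', U z), IsUnit s ∧ i.app (U z) s = c z * resR le_top w ∧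
      s ^ n = resR (le_top : U z ≤ ⊤) r' * a z := fun z => by
    refine exists_root i hn ((hc z).mul (hw.map _)) ?_
    rw [map_mul, nat, ← huc z, mul_pow, ← hu' z, show (show Γ(X, ⊤) from u) = i.appTop r * w ^ n from huw, map_mul, map_pow]
    have h1 : resR (i.preimage_mono (le_top : U z ≤ ⊤)) (i.app ⊤ r') * resR (i.preimage_mono (le_top : U z ≤ ⊤)) (i.app ⊤ r) = 1 := by
      rw [← map_mul, ← map_mul, hr', map_one, map_one]
    change _ = resR (i.preimage_mono (le_top : U z ≤ ⊤)) (i.app ⊤ r') *
      (resR (i.preimage_mono (le_top : U z ≤ ⊤)) (i.app ⊤ r) * _ * _)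
    calc c z ^ n * resR le_top w ^ n = 1 * (resR le_top w ^ n * c z ^ n) := by ring
      _ = _ := by rw [← h1]; ring
  choose s hsu hsi hsn using hs
  refine AVRosati.nonempty_iso_of_frames U (fun z => ⟨z, hxU z⟩) e
    (fun z => show Γ(Coh.structureModule X', U z) from s z) he (fun z => ?_) fun x y W hx hy g hg => ?_
  · have h1 := (isFrame_one (X := X') (U z)).isUnit_smul (hsu z)
    have e1 : s z • (show Γ(Coh.structureModule X', U z) from (1 : Γ(X', U z))) =
        (show Γ(Coh.structureModule X', U z) from s z) := by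
      show (s z * (1 : Γ(X', U z)) : Γ(X', U z)) = s z
      exact mul_one _
    rwa [e1] at h1
  · show resR hy (s y) = g * resR hx (s x)
    obtain ⟨h1, h2⟩ := hchg x y W hx hy g hg
    refine eq_of_root i hn ((hsu y).map _) ?_ ?_
    · rw [map_mul, nat, nat, hsi, hsi, map_mul, map_mul, h2, resR_resR, resR_resR, mul_assoc]
    · rw [mul_pow, ← map_pow, ← map_pow, hsn, hsn, map_mul, map_mul, resR_resR, resR_resR, h1]
      ring

end Thickening

section Model

variable {R : Type u} [CommRing R] [IsDomain R] [IsDiscreteValuationRing R]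

/-- Natural numbers prime to the residue characteristic are units. -/
theorem isUnit_natCast {h : ℕ} (hh : 0 < h)
    (hchar : ∀ q : ℕ, q.Prime → CharP (IsLocalRing.ResidueField R) q → ¬ q ∣ h) :
    IsUnit (h : R) ∧ Nat.Coprime (ringExpChar (IsLocalRing.ResidueField R)) h := by
  let k := IsLocalRing.ResidueField R
  obtain ⟨q, hq⟩ := CharP.exists k
  have hne : (h : k) ≠ 0 := fun h0 => by
    rw [CharP.cast_eq_zero_iff k q] at h0
    rcases CharP.char_is_prime_or_zero k q with hp | hp
    · exact hchar q hp hq h0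
    · rw [hp] at h0
      exact hh.ne' (Nat.eq_zero_of_zero_dvd h0)
  refine ⟨(IsLocalRing.residue_ne_zero_iff_isUnit _).1 (by rwa [map_natCast]), ?_⟩
  rcases CharP.char_is_prime_or_zero k q with hp | hp
  · haveI := Fact.mk hp
    rw [ringExpChar.eq k q]
    exact hp.coprime_iff_not_dvd.2 (hchar q hp hq)
  · subst hp
    haveI : CharZero k := CharP.charP_to_charZero k
    rw [ringExpChar.eq_one]
    exact Nat.coprime_one_left _

variable {C X : Scheme.{u}} {f : C ⟶ Spec (CommRingCat.of (FractionRing R))} {p : X ⟶ Spec (CommRingCat.of R)}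

/-- The reduced closed fibre inside a thickened closed fibre. -/
theorem exists_red_to {A : CommRingCat.{u}} (s : Spec A ⟶ Spec (CommRingCat.of R)) [IsClosedImmersion s]
    (hs : Set.range s.base = {IsLocalRing.closedPoint R}) :
    ∃ j : (Models.redFibreIdeal R (Over.mk p)).subscheme ⟶ pullback p s,
      IsClosedImmersion j ∧ Surjective j ∧ j ≫ pullback.fst p s = (Models.redFibreIdeal R (Over.mk p)).subschemeι := by
  let I := Models.redFibreIdeal R (Over.mk p)
  have hrange : Set.range (pullback.fst p s).base = Models.specialFibreSet R (Over.mk p) := by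
    rw [Scheme.Pullback.range_fst, hs]; rfl
  have hrI : Set.range I.subschemeι.base = Models.specialFibreSet R (Over.mk p) := by
    rw [Scheme.IdealSheafData.range_subschemeι]
    show SetLike.coe (Scheme.IdealSheafData.vanishingIdeal _).support = _
    rw [Scheme.IdealSheafData.coe_support_vanishingIdeal]
    rfl
  have hle : (pullback.fst p s).ker ≤ I.subschemeι.ker := by
    rw [Scheme.IdealSheafData.ker_subschemeι]
    show _ ≤ Scheme.IdealSheafData.vanishingIdeal _
    rw [← Scheme.IdealSheafData.le_support_iff_le_vanishingIdeal]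
    intro z hz
    rw [← SetLike.mem_coe, Scheme.Hom.support_ker]
    exact subset_closure (hrange.ge hz)
  let j := IsClosedImmersion.lift (pullback.fst p s) I.subschemeι hle
  have hj : j ≫ pullback.fst p s = I.subschemeι := IsClosedImmersion.lift_fac _ _ _
  haveI : IsClosedImmersion (j ≫ pullback.fst p s) := hj.symm ▸ inferInstance
  refine ⟨j, IsClosedImmersion.of_comp j (pullback.fst p s), ⟨fun z => ?_⟩, hj⟩
  obtain ⟨y, hy⟩ := hrI.ge (hrange.le ⟨z, rfl⟩)
  exact ⟨y, (pullback.fst p s).isClosedEmbedding.injective (by rw [← Scheme.Hom.comp_apply, hj]; exact hy)⟩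

/-- The functions on the reduced closed fibre are radicial over the residue field. -/
theorem exists_pow_eq_const (hC : Curve.IsSmoothProperCurve (FractionRing R) C f) (hH0 : IsIso f.appTop)
    (hX : Models.IsRegularProperModel R X p C f) (u : Γ((Models.redFibreIdeal R (Over.mk p)).subscheme, ⊤)) :
    ∃ (N : ℕ) (r : R), u ^ (ringExpChar (IsLocalRing.ResidueField R) ^ N) =
      ((Models.redFibreIdeal R (Over.mk p)).subschemeι ≫ p).appTop ((Scheme.ΓSpecIso (CommRingCat.of R)).inv r) := by
  haveI : IsProper p := hX.2.1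
  let k := IsLocalRing.ResidueField R
  let s : Spec (CommRingCat.of k) ⟶ Spec (CommRingCat.of R) := Spec.map (CommRingCat.ofHom (algebraMap R k))
  haveI : IsClosedImmersion s := IsClosedImmersion.spec_of_surjective _ IsLocalRing.residue_surjective
  have hs : Set.range s.base = {IsLocalRing.closedPoint R} := Set.ext fun t => ⟨by
      rintro ⟨w, rfl⟩
      rw [Set.mem_singleton_iff, Subsingleton.elim w (IsLocalRing.closedPoint k)]
      exact IsLocalRing.comap_closedPoint (IsLocalRing.residue R), fun ht => ⟨IsLocalRing.closedPoint k, by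
      rw [Set.mem_singleton_iff] at ht
      rw [ht]
      exact IsLocalRing.comap_closedPoint (IsLocalRing.residue R)⟩⟩
  obtain ⟨j, hj1, hj2, hj⟩ := exists_red_to (p := p) s hs
  let q := j ≫ pullback.snd p s
  haveI : IsProper q := inferInstance
  haveI : GeometricallyConnected p := by
    have happ : ∀ U : (Spec (CommRingCat.of R)).Opens, IsIso (p.app U) := fun U =>
      FlatMisc.isIso_app_of_bijective_affine p
        (fun z => ⟨⊤, isAffineOpen_top _, trivial, ArInt.bijective_appTop_model C X f p hH0 hX⟩) U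
    exact SteinLib.geometricallyConnected_of_isIso_app_noetherian p happ
  haveI : GeometricallyConnected (pullback.snd p s) := inferInstance
  haveI : GeometricallyConnected q := ⟨fun K _ y W fst snd hpb => by
    let t := pullback.snd (pullback.snd p s) y
    haveI : ConnectedSpace ↥(pullback (pullback.snd p s) y) :=
      GeometricallyConnected.geometrically_connectedSpace (f := pullback.snd p s) y
        (pullback.fst _ _) (pullback.snd _ _) (IsPullback.of_hasPullback _ _)
    let j' := pullback.lift (fst ≫ j) snd (by rw [Category.assoc]; exact hpb.w) (f := pullback.snd p s) (g := y)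
    have hsq : IsPullback j' fst (pullback.fst (pullback.snd p s) y) j :=
      IsPullback.of_right (by simpa [j'] using hpb.flip) (by simp [j']) (IsPullback.of_hasPullback (pullback.snd p s) y).flip
    haveI : IsClosedImmersion j' := MorphismProperty.of_isPullback hsq.flip hj1
    haveI : Surjective j' := MorphismProperty.of_isPullback hsq.flip hj2
    exact (j'.isClosedEmbedding.isEmbedding.toHomeomorphOfSurjective j'.surjective).connectedSpace_iff.2 ‹_›⟩
  haveI : IsReduced (Models.redFibreIdeal R (Over.mk p)).subscheme := by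
    unfold Models.redFibreIdeal; infer_instance
  obtain ⟨-, -, h⟩ := (S7856.result k q).1 ‹_›
  obtain ⟨N, c, hc⟩ := h u
  obtain ⟨r, rfl⟩ := IsLocalRing.residue_surjective c
  refine ⟨N, r, ?_⟩
  rw [sub_eq_zero.1 hc.eq_zero, ← hj, Category.assoc, pullback.condition, ← Category.assoc,
    Scheme.Hom.comp_appTop (j ≫ pullback.snd p s)]
  show _ = q.appTop (s.appTop ((Scheme.ΓSpecIso (CommRingCat.of R)).inv r))
  congr 1
  exact congr($(Scheme.ΓSpecIso_inv_naturality (CommRingCat.ofHom (algebraMap R k))) r)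

theorem trivial_of_trivial_red (hC : Curve.IsSmoothProperCurve (FractionRing R) C f) (hH0 : IsIso f.appTop)
    (hX : Models.IsRegularProperModel R X p C f) {h : ℕ} (hh : 0 < h)
    (hchar : ∀ q : ℕ, q.Prime → CharP (IsLocalRing.ResidueField R) q → ¬ q ∣ h)
    (M : X.Modules) (hM : PicF.IsInvertible M)
    (htors : Nonempty (CohB1.tensorPow M h ≅ Coh.structureModule X))
    (htriv : Nonempty ((Scheme.Modules.pullback (Models.redFibreIdeal R (Over.mk p)).subschemeι).obj M ≅
      Coh.structureModule (Models.redFibreIdeal R (Over.mk p)).subscheme)) :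
    Nonempty (M ≅ Coh.structureModule X) := by
  haveI : IsProper p := hX.2.1
  obtain ⟨hu, hcop⟩ := isUnit_natCast hh hchar
  refine S11968.result R (IsLocalRing.maximalIdeal R) le_rfl p M hM fun m => ?_
  let B := R ⧸ IsLocalRing.maximalIdeal R ^ (m + 1)
  let s : Spec (CommRingCat.of B) ⟶ Spec (CommRingCat.of R) :=
    Spec.map (CommRingCat.ofHom (Ideal.Quotient.mk (IsLocalRing.maximalIdeal R ^ (m + 1))))
  haveI : IsClosedImmersion s := IsClosedImmersion.spec_of_surjective _ Ideal.Quotient.mk_surjective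
  have hs : Set.range s.base = {IsLocalRing.closedPoint R} := by
    show Set.range (PrimeSpectrum.comap (Ideal.Quotient.mk (IsLocalRing.maximalIdeal R ^ (m + 1)))) = _
    rw [range_comap_of_surjective _ _ Ideal.Quotient.mk_surjective, Ideal.mk_ker,
      PrimeSpectrum.zeroLocus_pow _ (Nat.succ_ne_zero m)]
    exact PrimeSpectrum.zeroLocus_eq_singleton _
  obtain ⟨j, hj1, hj2, hj⟩ := exists_red_to (p := p) s hs
  let i := pullback.fst p s
  obtain ⟨φ⟩ := htors
  obtain ⟨ψ⟩ := htriv
  let σ : R →+* Γ(pullback p s, ⊤) := (i ≫ p).appTop.hom.comp (Scheme.ΓSpecIso (CommRingCat.of R)).inv.hom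
  have hn : IsUnit (h : Γ(pullback p s, ⊤)) := by
    have := hu.map σ
    rwa [map_natCast] at this
  refine trivial_of_pullback j hn (fun u huu => ?_) _ (PicClLib.isInvertible_pullback i hM) ?_ ?_
  · obtain ⟨N, r, hr⟩ := exists_pow_eq_const hC hH0 hX u
    rw [← hj, Category.assoc, Scheme.Hom.comp_appTop, CommRingCat.comp_apply] at hr
    change u ^ _ = j.appTop (σ r) at hr
    have hσ : IsUnit (σ r) := H23.InfLift.isUnit_of_app j j.surjective (W := ⊤) (σ r) (hr ▸ huu.pow _)
    set e := ringExpChar (IsLocalRing.ResidueField R) ^ N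
    obtain ⟨a, b, hab⟩ : ∃ a b : ℕ, a * e = 1 + b * h := by
      rcases Nat.lt_or_ge 1 h with h1 | h1
      · obtain ⟨a, ha⟩ := Nat.exists_mul_mod_eq_one_of_coprime (hcop.pow_left N) h1
        exact ⟨a, e * a / h, by
          have := Nat.div_add_mod (e * a) h
          rw [ha.2] at this
          rw [mul_comm a e, mul_comm _ h]; omega⟩
      · exact ⟨1, e - 1, by
          have : 0 < e := Nat.pos_of_ne_zero (pow_ne_zero N (expChar_pos (IsLocalRing.ResidueField R) _).ne')
          rw [show h = 1 by omega]; omega⟩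
    obtain ⟨v, hv⟩ := huu.exists_left_inv
    refine ⟨σ r ^ a, v ^ b, hσ.pow _, (IsUnit.of_mul_eq_one u hv).pow _, ?_⟩
    rw [map_pow, ← hr, ← pow_mul, ← pow_mul, show e * a = 1 + b * h by rw [mul_comm]; exact hab, pow_add, pow_one,
      mul_assoc, ← mul_pow, mul_comm u v, hv, one_pow, mul_one]
  · exact (H23.PicMul.cl_eq_iff.1 (by
      show PicF.cl (CohB1.tensorPow ((Scheme.Modules.pullback i).obj M) h) = PicF.cl (Coh.structureModule _)
      rw [H23.PicMul.cl_tensorPow, ← H23.PicMul.one_def]
      show PicF.pullCl i (PicF.cl M) ^ h = 1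
      rw [← H23.PicMul.pullCl_pow, ← H23.PicMul.cl_tensorPow, H23.PicMul.cl_eq_iff.2 ⟨φ⟩, ← H23.PicMul.one_def,
        H23.PicMul.pullCl_one])).some
  · exact (Scheme.Modules.pullbackComp j i).app M ≪≫ (Scheme.Modules.pullbackCongr hj).app M ≪≫ ψ

end Model

end Groth.Agent.ArInt.TorsionInj
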