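import Groth.Agent.ArInt.PicKernel
import Groth.Agent.H23.SeesawGlobal
import Groth.Agent.Big.AffineBoundary
import Groth.Agent.QCoh.Qcqs

/-!
# Modules trivial on the generic fibre
-/

set_option autoImplicit false
set_option linter.style.haveILetI false
set_option linter.unusedSectionVars false
set_option backward.isDefEq.respectTransparency false
set_option backward.isDefEq.respectTransparency.types false
set_option maxHeartbeats 1000000

universe u

open CategoryTheory CategoryTheory.Limits AlgebraicGeometry TopologicalSpace Opposite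
open Groth.Agent.H23.PicMul

noncomputable section

namespace Groth.Agent.ArInt

open Groth.Agent

variable {R : Type u} [CommRing R] [IsDomain R] [IsDiscreteValuationRing R]

/-- The generic point of the base is open. -/
theorem isOpenImmersion_genPt :
    IsOpenImmersion (Spec.map (CommRingCat.ofHom (algebraMap R (FractionRing R)))) := by
  obtain ⟨π, hπ⟩ := IsDiscreteValuationRing.exists_irreducible R
  haveI : IsLocalization.Away π (FractionRing R) := (IsLocalization.iff_of_le_of_exists_dvd (Submonoid.powers π) (nonZeroDivisors R)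
    (by rintro _ ⟨n, rfl⟩; exact mem_nonZeroDivisors_of_ne_zero (pow_ne_zero n hπ.ne_zero))
    fun x hx => by
      obtain ⟨n, u, rfl⟩ := IsDiscreteValuationRing.eq_unit_mul_pow_irreducible (nonZeroDivisors.ne_zero hx) hπ
      exact ⟨π ^ n, ⟨n, rfl⟩, ((u⁻¹ : Rˣ) : R), by rw [mul_comm _ ((u⁻¹ : Rˣ) : R), ← mul_assoc, Units.inv_mul, one_mul]⟩).2 inferInstance
  exact IsOpenImmersion.of_isLocalization π

variable {X : Over (Spec (CommRingCat.of R))} [IsSurf X] [Flat X.hom] {n : ℕ} (Γ : Fin n → ArSurf.VertComp R X)

/-- A module trivial on the generic fibre is given by a vertical divisor. -/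
theorem exists_divOf_of_trivial (hcov : Models.specialFibreSet R X ⊆ ⋃ j, Set.range (Γ j).ι.base) {C : Scheme.{u}}
    (g : C ⟶ X.left) (f : C ⟶ Spec (CommRingCat.of (FractionRing R)))
    (hg : IsPullback g f X.hom (Spec.map (CommRingCat.ofHom (algebraMap R (FractionRing R)))))
    {M : X.left.Modules} (hM : PicF.IsInvertible M)
    (htriv : Nonempty ((Scheme.Modules.pullback g).obj M ≅ Coh.structureModule C)) :
    ∃ e : Fin n → ℕ, PicF.cl M * PicF.cl (ClSub.idealMod (divOf Γ e)) = 1 := by
  classical
  haveI := isOpenImmersion_genPt (R := R)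
  haveI : IsOpenImmersion g := MorphismProperty.of_isPullback hg.flip inferInstance
  obtain ⟨s, hs⟩ := H23.SeesawGlobal.exists_frame_of_triv g htriv
  obtain ⟨π, hπ⟩ := IsDiscreteValuationRing.exists_irreducible R
  let a : Γ(X.left, ⊤) := X.hom.appTop ((Scheme.ΓSpecIso (CommRingCat.of R)).inv π)
  have ha : g.opensRange = X.left.basicOpen a := by
    refine Opens.ext ?_
    show Set.range g = (X.left.basicOpen a : Set X.left)
    rw [← hg.isoPullback_hom_fst, Scheme.Hom.comp_base, TopCat.coe_comp, Set.range_comp,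
      Set.range_eq_univ.2 hg.isoPullback.hom.surjective, Set.image_univ, Scheme.Pullback.range_fst]
    have hb : X.left.basicOpen a = X.hom ⁻¹ᵁ (Spec (CommRingCat.of R)).basicOpen
        ((Scheme.ΓSpecIso (CommRingCat.of R)).inv π) := (X.hom.preimage_basicOpen_top _).symm
    rw [hb]
    rw [Scheme.Hom.coe_preimage]
    refine congrArg (X.hom ⁻¹' ·) ?_
    rw [basicOpen_eq_of_affine, PrimeSpectrum.basicOpen_eq_zeroLocus_compl]
    show Set.range (PrimeSpectrum.comap (algebraMap R (FractionRing R))) = _
    haveI : IsLocalization.Away π (FractionRing R) := (IsLocalization.iff_of_le_of_exists_dvd (Submonoid.powers π) (nonZeroDivisors R)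
      (by rintro _ ⟨n, rfl⟩; exact mem_nonZeroDivisors_of_ne_zero (pow_ne_zero n hπ.ne_zero))
      fun x hx => by
        obtain ⟨n, u, rfl⟩ := IsDiscreteValuationRing.eq_unit_mul_pow_irreducible (nonZeroDivisors.ne_zero hx) hπ
        exact ⟨π ^ n, ⟨n, rfl⟩, ((u⁻¹ : Rˣ) : R), by rw [mul_comm _ ((u⁻¹ : Rˣ) : R), ← mul_assoc, Units.inv_mul, one_mul]⟩).2 inferInstance
    exact (PrimeSpectrum.localization_away_comap_range (FractionRing R) π).trans (PrimeSpectrum.basicOpen_eq_zeroLocus_compl π)
  haveI : IsNoetherian X.left := inferInstance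
  let s' : Γ(M, X.left.basicOpen a) := AModX.res M ha.ge s
  have hs' : InvX.IsFrame s' := hs.res ha.ge
  obtain ⟨N, t, ht⟩ := QCoh.exists_pow_smul_eq_map_of_isQuasiSeparated (ProjUPX.isQCoh_of_isInvertible hM)
    (W := ⊤) isCompact_univ isQuasiSeparated_univ a s'
  have hu : IsUnit (X.left.presheaf.map (homOfLE (X.left.basicOpen_le a)).op a ^ N) :=
    IsUnit.pow _ (RingedSpace.isUnit_res_basicOpen X.left.toRingedSpace a)
  have hloc : X.left.basicOpen a ≤ AmpleX.locus t := by
    refine AmpleX.le_locus t (X.left.basicOpen_le a) ?_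
    rw [show AModX.res M (X.left.basicOpen_le a) t = X.left.presheaf.map (homOfLE (X.left.basicOpen_le a)).op a ^ N • s' from ht]
    exact hs'.isUnit_smul hu
  have ht0 : t ≠ 0 := fun h0 => by
    have hgen : genericPoint X.left ∈ X.left.basicOpen a := by
      rw [← ha]
      show genericPoint X.left ∈ Set.range g
      rw [← hg.isoPullback_hom_fst, Scheme.Hom.comp_base, TopCat.coe_comp, Set.range_comp,
        Set.range_eq_univ.2 hg.isoPullback.hom.surjective, Set.image_univ, Scheme.Pullback.range_fst]
      refine ⟨IsLocalRing.closedPoint _, PrimeSpectrum.ext ?_⟩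
      show Ideal.comap (algebraMap R (FractionRing R)) (IsLocalRing.maximalIdeal _) = _
      have hne := gen_ne_closedPoint X
      rw [IsLocalRing.isField_iff_maximalIdeal_eq.1 (Field.toIsField _), ← RingHom.ker_eq_comap_bot,
        (RingHom.injective_iff_ker_eq_bot _).1 (IsFractionRing.injective R (FractionRing R))]
      by_contra hb
      exact hne (PrimeSpectrum.ext (IsLocalRing.eq_maximalIdeal
        ((PrimeSpectrum.isPrime (X.hom (genericPoint X.left) : PrimeSpectrum R)).isMaximal (Ne.symm hb))))
    obtain ⟨V, hV, hxV, hfr⟩ := AmpleX.mem_locus.1 (hloc hgen)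
    have h1 : AModX.res M hV t = 0 := by rw [h0]; exact map_zero _
    have h2 := (hfr V le_rfl).1 (show (fun r : Γ(X.left, V) => r • AModX.res M le_rfl (AModX.res M hV t)) 1 =
      (fun r : Γ(X.left, V) => r • AModX.res M le_rfl (AModX.res M hV t)) 0 by
        show (1 : Γ(X.left, V)) • AModX.res M le_rfl (AModX.res M hV t) = (0 : Γ(X.left, V)) • _
        rw [h1, map_zero, smul_zero, smul_zero])
    haveI : Nonempty (V : Scheme) := ⟨⟨_, hxV⟩⟩
    exact one_ne_zero h2
  obtain ⟨B, hB, hBs, hBc⟩ := Big.AffineBd.exists_divisor_of_locus hM t ht0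
  obtain ⟨e, he⟩ := CartierExt.exists_prod_eq (fun j => (Γ j).ι.ker)
    (fun j => isEffCartier_ker (Γ j)) (fun j => inferInstance) B hB (fun z hz => by
      have hz' : z ∉ (X.left.basicOpen a : Set X.left) := by
        rw [hBs] at hz
        exact fun h => hz (hloc h)
      rw [← ha] at hz'
      have hzF : z ∈ Models.specialFibreSet R X := by
        by_contra hne
        refine hz' ?_
        show z ∈ Set.range g
        rw [← hg.isoPullback_hom_fst, Scheme.Hom.comp_base, TopCat.coe_comp, Set.range_comp,
          Set.range_eq_univ.2 hg.isoPullback.hom.surjective, Set.image_univ, Scheme.Pullback.range_fst]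
        refine ⟨IsLocalRing.closedPoint _, PrimeSpectrum.ext ?_⟩
        show Ideal.comap (algebraMap R (FractionRing R)) (IsLocalRing.maximalIdeal _) = _
        rw [IsLocalRing.isField_iff_maximalIdeal_eq.1 (Field.toIsField _), ← RingHom.ker_eq_comap_bot,
          (RingHom.injective_iff_ker_eq_bot _).1 (IsFractionRing.injective R (FractionRing R))]
        by_contra hb
        exact hne (PrimeSpectrum.ext (IsLocalRing.eq_maximalIdeal
          ((PrimeSpectrum.isPrime (X.hom z : PrimeSpectrum R)).isMaximal (Ne.symm hb))))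
      obtain ⟨j, hj⟩ := Set.mem_iUnion.1 (hcov hzF)
      exact Set.mem_iUnion.2 ⟨j, by rw [support_ker]; exact hj⟩)
  refine ⟨e, ?_⟩
  rw [divOf, ← he]
  exact hBc

end Groth.Agent.ArInt
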